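import Groth.Agent.H27LangWeil.LowerBoundInt
import Groth.Agent.H27Zeta.ClosedPoints
import Mathlib

/-!
# The abscissa of convergence of the zeta function of an arithmetic scheme is its dimension
-/

set_option autoImplicit false
set_option maxHeartbeats 800000
universe u

noncomputable section

open CategoryTheory AlgebraicGeometry TopologicalSpace

namespace Groth.Agent.H27LangWeil

instance isJacobsonRing_int : IsJacobsonRing ℤ := by
  rw [isJacobsonRing_iff_prime_eq]
  intro P hP
  by_cases hbot : P = ⊥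
  · subst hbot
    refine le_bot_iff.1 fun n hn => ?_
    by_contra hn0
    rw [Ideal.mem_bot] at hn0
    obtain ⟨p, hp, hpp⟩ := Nat.exists_infinite_primes (n.natAbs + 1)
    have hmax : (Ideal.span {(p : ℤ)}).IsMaximal :=
      PrincipalIdealRing.isMaximal_of_irreducible (Nat.prime_iff_prime_int.1 hpp).irreducible
    have h1 : n ∈ Ideal.span {(p : ℤ)} := by
      rw [Ideal.jacobson, Ideal.mem_sInf] at hn
      exact hn ⟨bot_le, hmax⟩
    rw [Ideal.mem_span_singleton, Int.natCast_dvd] at h1
    have := Nat.le_of_dvd (Int.natAbs_pos.2 hn0) h1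
    omega
  · haveI := hP.isMaximal hbot
    exact Ideal.jacobson_eq_self_of_isMaximal

theorem jacobsonSpace_arith {X : Scheme.{u}} (f : X ⟶ Spec (CommRingCat.of (ULift.{u} ℤ))) [LocallyOfFiniteType f] :
    JacobsonSpace X := by
  haveI : IsJacobsonRing (ULift.{u} ℤ) :=
    (isJacobsonRing_iso (ULift.ringEquiv (R := ℤ))).2 inferInstance
  haveI : IsJacobsonRing (CommRingCat.of (ULift.{u} ℤ)) := ‹IsJacobsonRing (ULift.{u} ℤ)›
  exact LocallyOfFiniteType.jacobsonSpace f

/-- An affine integral piece of full dimension. -/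
theorem exists_affine_piece {X : Scheme.{u}} (f : X ⟶ Spec (CommRingCat.of (ULift.{u} ℤ)))
    [LocallyOfFiniteType f] (r : ℕ) (hr : topologicalKrullDim X = r) :
    ∃ (A : CommRingCat.{u}) (ι : Spec A ⟶ X), IsDomain A ∧ Algebra.FiniteType ℤ A ∧ ringKrullDim A = r ∧
      Function.Injective ι ∧ ∀ x : Spec A, IsClosed ({x} : Set (Spec A)) →
        IsClosed ({ι x} : Set X) ∧ Function.Bijective (ι.residueFieldMap x).hom := by
  classical
  haveI := jacobsonSpace_arith f
  have hchain : ((r : ℕ) : WithBot ℕ∞) ≤ Order.krullDim (IrreducibleCloseds X) := le_of_eq hr.symm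
  obtain ⟨l, hl⟩ := Order.le_krullDim_iff.1 hchain
  let gp : Fin (l.length + 1) → X := fun i => (l i).isIrreducible.genericPoint
  have hgp : ∀ i, IsGenericPoint (gp i) (l i : Set X) := fun i =>
    (l i).isIrreducible.isGenericPoint_genericPoint (l i).isClosed
  obtain ⟨V, j, hj, hmem, -⟩ := Scheme.exists_affine_mem_range_and_range_subset (x := gp 0) (U := (⊤ : X.Opens)) trivial
  haveI := hj
  have hin : ∀ i, gp i ∈ Set.range j := fun i => by
    refine (hgp i).specializes ?_ |>.mem_open j.isOpenEmbedding.isOpen_range hmem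
    exact SetLike.coe_subset_coe.2 (l.monotone (Fin.zero_le i)) (hgp 0).mem
  choose p hp using hin
  have hspec : ∀ i i', i ≤ i' → (p i').asIdeal ≤ (p i).asIdeal := fun i i' h => by
    rw [PrimeSpectrum.asIdeal_le_asIdeal, PrimeSpectrum.le_iff_specializes]
    refine j.isOpenEmbedding.isInducing.specializes_iff.1 ?_
    rw [hp, hp]
    exact (hgp i').specializes (SetLike.coe_subset_coe.2 (l.monotone h) (hgp i).mem)
  have hne : ∀ i i', i < i' → (p i').asIdeal ≠ (p i).asIdeal := fun i i' h he => by
    have he' : p i' = p i := PrimeSpectrum.ext he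
    have h1 : gp i' = gp i := by rw [← hp, ← hp, he']
    refine (l.strictMono h).ne (SetLike.coe_injective ?_)
    rw [← (hgp i).def, ← (hgp i').def, h1]
  set P := (p (Fin.last l.length)).asIdeal
  let A : CommRingCat.{u} := CommRingCat.of (V ⧸ P)
  let i₀ : Spec A ⟶ Spec V := Spec.map (CommRingCat.ofHom (Ideal.Quotient.mk P))
  haveI : IsClosedImmersion i₀ := IsClosedImmersion.spec_of_surjective _ Ideal.Quotient.mk_surjective
  haveI hdom : IsDomain A := Ideal.Quotient.isDomain P
  have hft : Algebra.FiniteType ℤ V := by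
    haveI : LocallyOfFiniteType (Spec.map (Spec.preimage (j ≫ f))) := by rw [Spec.map_preimage]; infer_instance
    have h1 : (Spec.preimage (j ≫ f)).hom.FiniteType :=
      (HasRingHomProperty.Spec_iff (P := @LocallyOfFiniteType)).mp inferInstance
    have h2 := h1.comp (RingHom.FiniteType.of_surjective ((ULift.ringEquiv.{0, u} (R := ℤ)).symm : ℤ →+* ULift.{u} ℤ)
      (ULift.ringEquiv.{0, u} (R := ℤ)).symm.surjective)
    rw [← RingHom.finiteType_algebraMap, show algebraMap ℤ V =
      (Spec.preimage (j ≫ f)).hom.comp ((ULift.ringEquiv.{0, u} (R := ℤ)).symm : ℤ →+* ULift.{u} ℤ) from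
        RingHom.ext_int _ _]
    exact h2
  haveI hftA : Algebra.FiniteType ℤ A := by
    rw [← RingHom.finiteType_algebraMap, show algebraMap ℤ A = (Ideal.Quotient.mk P).comp (algebraMap ℤ V) from
      RingHom.ext_int _ _]
    exact (RingHom.FiniteType.of_surjective _ Ideal.Quotient.mk_surjective).comp
      (RingHom.finiteType_algebraMap.2 hft)
  have hdimA : ringKrullDim A = r := by
    refine le_antisymm ?_ ?_
    · rw [← PrimeSpectrum.topologicalKrullDim_eq_ringKrullDim, ← hr]
      exact (j.isOpenEmbedding.isInducing.comp i₀.isClosedEmbedding.isInducing).topologicalKrullDim_le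
    · let q : Fin (l.length + 1) → PrimeSpectrum A := fun i =>
        ⟨(p i).asIdeal.map (Ideal.Quotient.mk P), Ideal.map_isPrime_of_surjective Ideal.Quotient.mk_surjective
          (by rw [Ideal.mk_ker]; exact hspec i _ (Fin.le_last i))⟩
      have hcomap : ∀ i, (q i).asIdeal.comap (Ideal.Quotient.mk P) = (p i).asIdeal := fun i => by
        simp only [q]
        rw [Ideal.comap_map_of_surjective _ Ideal.Quotient.mk_surjective, sup_eq_left, ← RingHom.ker_eq_comap_bot,
          Ideal.mk_ker]
        exact hspec i _ (Fin.le_last i)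
      have hmono : StrictAnti q := fun i i' h => by
        refine lt_of_le_of_ne (Ideal.map_mono (hspec i i' h.le)) fun he => hne i i' h ?_
        rw [← hcomap, ← hcomap, he]
      have hrev : StrictMono (q ∘ Fin.rev) := hmono.comp Fin.rev_strictAnti
      have := Order.LTSeries.length_le_krullDim (LTSeries.mk l.length (q ∘ Fin.rev) hrev)
      rw [LTSeries.mk_length, hl] at this
      exact this
  refine ⟨A, i₀ ≫ j, hdom, hftA, hdimA, ?_, fun x hx => ?_⟩
  · rw [Scheme.Hom.comp_base, TopCat.coe_comp]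
    exact j.isOpenEmbedding.injective.comp i₀.isClosedEmbedding.injective
  · refine ⟨?_, ?_⟩
    · have hx' : IsClosed ({i₀ x} : Set (Spec V)) := by
        simpa [Set.image_singleton] using i₀.isClosedEmbedding.isClosedMap _ hx
      refine isClosed_singleton_of_isLocallyClosed_singleton ?_
      rw [Scheme.Hom.comp_apply]
      refine ⟨Set.range j, closure {j (i₀ x)}, j.isOpenEmbedding.isOpen_range, isClosed_closure, ?_⟩
      refine Set.Subset.antisymm ?_ ?_
      · rintro _ rfl
        exact ⟨⟨i₀ x, rfl⟩, subset_closure rfl⟩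
      · rintro _ ⟨⟨w, rfl⟩, hw⟩
        have : w ∈ closure ({i₀ x} : Set (Spec V)) := by
          rw [j.isOpenEmbedding.isInducing.closure_eq_preimage_closure_image, Set.image_singleton]
          exact hw
        rw [hx'.closure_eq] at this
        rw [Set.mem_singleton_iff.1 this]
        rfl
    · haveI : IsPreimmersion (i₀ ≫ j) := inferInstance
      refine ⟨RingHom.injective _, fun y => ?_⟩
      obtain ⟨z, rfl⟩ := IsLocalRing.residue_surjective y
      obtain ⟨w, rfl⟩ := (i₀ ≫ j).stalkMap_surjective x z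
      refine ⟨X.residue _ w, ?_⟩
      exact congrArg (fun φ : X.presheaf.stalk _ ⟶ (Spec A).residueField x => φ.hom w)
        (Scheme.residue_residueFieldMap (i₀ ≫ j) x)

theorem card_residueField_spec (A : CommRingCat.{u}) (x : MaximalSpectrum A) :
    Nat.card ((Spec A).residueField (x.toPrimeSpectrum : Spec A)) = Nat.card (A ⧸ x.asIdeal) := by
  haveI := x.isMaximal
  rw [Nat.card_congr (Scheme.Spec.residueFieldIso A x.toPrimeSpectrum).commRingCatIsoToRingEquiv.toEquiv]
  exact (Nat.card_congr (Equiv.ofBijective _ x.asIdeal.bijective_algebraMap_quotient_residueField)).symm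

/-- The Dirichlet series of the closed points diverges left of the dimension. -/
theorem not_summable_ptNorm {X : Scheme.{u}} (f : X ⟶ Spec (CommRingCat.of (ULift.{u} ℤ)))
    [LocallyOfFiniteType f] (r : ℕ) (hr : topologicalKrullDim X = r) {s : ℝ} (hs0 : 0 ≤ s) (hs : s < r) :
    ¬ Summable fun x : H27Zeta.ClPt X => (H27Zeta.ptNorm x : ℝ) ^ (-s) := by
  classical
  intro hsum
  obtain ⟨A, ι, hdom, hft, hdim, hinj, hcl⟩ := exists_affine_piece f r hr
  let g : MaximalSpectrum A → H27Zeta.ClPt X := fun x =>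
    ⟨ι x.toPrimeSpectrum, (hcl _ ((PrimeSpectrum.isClosed_singleton_iff_isMaximal _).2 x.isMaximal)).1⟩
  have hg : Function.Injective g := fun x y h => by
    have h1 : (x.toPrimeSpectrum : Spec A) = y.toPrimeSpectrum := hinj (congrArg Subtype.val h)
    exact MaximalSpectrum.toPrimeSpectrum_injective h1
  have hN : ∀ x : MaximalSpectrum A, H27Zeta.ptNorm (g x) = Nat.card (A ⧸ x.asIdeal) := fun x => by
    rw [← card_residueField_spec A x]
    exact Nat.card_congr (Equiv.ofBijective _
      (hcl _ ((PrimeSpectrum.isClosed_singleton_iff_isMaximal _).2 x.isMaximal)).2)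
  have hsumA : Summable fun x : MaximalSpectrum A => (Nat.card (A ⧸ x.asIdeal) : ℝ) ^ (-s) :=
    (hsum.comp_injective hg).congr fun x => by simp only [Function.comp_apply, hN]
  obtain ⟨p, hp⟩ := CharP.exists A
  rcases CharP.char_is_prime_or_zero A p with hpp | rfl
  · haveI := Fact.mk hpp
    letI : Algebra (ULift.{u} (ZMod p)) A :=
      ((ZMod.castHom (dvd_refl p) A).comp (ULift.ringEquiv (R := ZMod p)).toRingHom).toAlgebra
    letI : Field (ULift.{u} (ZMod p)) := ULift.field
    haveI : Algebra.FiniteType (ULift.{u} (ZMod p)) A := by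
      rw [← RingHom.finiteType_algebraMap]
      exact RingHom.FiniteType.of_comp_finiteType (f := Int.castRingHom (ULift.{u} (ZMod p))) (by
        rw [show (algebraMap (ULift.{u} (ZMod p)) A).comp (Int.castRingHom _) = algebraMap ℤ A from
          RingHom.ext_int _ _, RingHom.finiteType_algebraMap]
        exact hft)
    exact not_summable_of_finite (k := ULift.{u} (ZMod p)) A hdim hs0 hs hsumA
  · haveI := CharP.charP_to_charZero A
    exact not_summable_of_charZero A hdim hs hsumA

theorem summable_of_lseriesSummable {X : Scheme.{u}} (f : X ⟶ Spec (CommRingCat.of (ULift.{u} ℤ)))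
    [LocallyOfFiniteType f] [QuasiCompact f] (r : ℕ) (hr : topologicalKrullDim X ≤ r) {s : ℝ}
    (h : LSeriesSummable (Zeta.arithCoeff X) (s : ℂ)) :
    Summable fun x : H27Zeta.ClPt X => (H27Zeta.ptNorm x : ℝ) ^ (-s) := by
  classical
  obtain ⟨c, p₀, -, hfib⟩ := H27Zeta.ptNorm_fibre f hr
  haveI : ∀ n, Finite {x : H27Zeta.ClPt X // H27Zeta.ptNorm x = n} := fun n => (hfib n).1.to_subtype
  haveI : ∀ n, Finite {α : H27Zeta.ClPt X →₀ ℕ // H27Zeta.cycNorm H27Zeta.ptNorm α = n} := fun n =>
    (H27Zeta.finite_cycNorm_fibre (H27Zeta.two_le_ptNorm f) (fun m => (hfib m).1) n).to_subtype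
  have hle : ∀ n, Nat.card {x : H27Zeta.ClPt X // H27Zeta.ptNorm x = n} ≤ Zeta.cycleNormCount X n := fun n => by
    rw [H27Zeta.cycleNormCount_eq]
    exact Nat.card_le_card_of_injective
      (fun x => (⟨Finsupp.single x.1 1, by simpa [H27Zeta.cycNorm] using x.2⟩ :
        {α : H27Zeta.ClPt X →₀ ℕ // H27Zeta.cycNorm H27Zeta.ptNorm α = n}))
      fun x y hxy => Subtype.ext (Finsupp.single_left_injective one_ne_zero (congrArg Subtype.val hxy))
  rw [← (Equiv.sigmaFiberEquiv (H27Zeta.ptNorm (X := X))).summable_iff, Function.comp_def,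
    summable_sigma_of_nonneg (fun x => Real.rpow_nonneg (Nat.cast_nonneg _) _)]
  refine ⟨fun n => Summable.of_finite, ?_⟩
  simp only [Equiv.sigmaFiberEquiv_apply]
  refine Summable.of_nonneg_of_le (fun n => tsum_nonneg fun x => Real.rpow_nonneg (Nat.cast_nonneg _) _)
    (fun n => ?_) h.norm
  cases nonempty_fintype {x : H27Zeta.ClPt X // H27Zeta.ptNorm x = n}
  rw [tsum_fintype, Finset.sum_congr rfl (g := fun _ => (n : ℝ) ^ (-s)) fun x _ => by
      show (H27Zeta.ptNorm x.1 : ℝ) ^ (-s) = _
      rw [x.2],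
    Finset.sum_const, nsmul_eq_mul, Finset.card_univ, ← Nat.card_eq_fintype_card, LSeries.norm_term_eq]
  split_ifs with hn
  · subst hn
    have : IsEmpty {x : H27Zeta.ClPt X // H27Zeta.ptNorm x = 0} := ⟨fun x => by
      have := H27Zeta.two_le_ptNorm f x.1; omega⟩
    rw [Nat.card_of_isEmpty, Nat.cast_zero, zero_mul]
  · rw [Zeta.arithCoeff, Complex.norm_natCast, Complex.ofReal_re, Real.rpow_neg (Nat.cast_nonneg n),
      ← div_eq_mul_inv]
    gcongr
    exact_mod_cast hle n

/-- **The abscissa equals the dimension.** -/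
theorem abscissa_eq {X : Scheme.{u}} (f : X ⟶ Spec (CommRingCat.of (ULift.{u} ℤ)))
    [LocallyOfFiniteType f] [QuasiCompact f] (r : ℕ) (hr : topologicalKrullDim X = r) :
    LSeries.abscissaOfAbsConv (Zeta.arithCoeff X) = (r : ℝ) := by
  classical
  refine le_antisymm (H27Zeta.arith_lseries f r hr.le).1 (le_of_not_gt fun hlt => ?_)
  obtain ⟨c, hc1, hc2⟩ := EReal.lt_iff_exists_real_btwn.1 hlt
  have hc : c < r := EReal.coe_lt_coe_iff.1 hc2
  rcases Nat.eq_zero_or_pos r with h0 | h0
  · subst h0
    -- a closed point gives infinitely many cycles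
    haveI := jacobsonSpace_arith f
    haveI : Nonempty X := by
      by_contra hne
      rw [not_nonempty_iff] at hne
      rw [topologicalKrullDim, Order.krullDim_eq_bot_iff.2 ⟨fun Z => hne.false Z.isIrreducible.nonempty.some⟩] at hr
      exact WithBot.bot_ne_coe hr
    obtain ⟨x, -, hx⟩ := nonempty_inter_closedPoints (Z := (Set.univ : Set X)) Set.univ_nonempty
      isOpen_univ.isLocallyClosed
    let x' : H27Zeta.ClPt X := ⟨x, hx⟩
    obtain ⟨cst, p₀, -, hfib⟩ := H27Zeta.ptNorm_fibre f hr.le
    haveI : ∀ n, Finite {α : H27Zeta.ClPt X →₀ ℕ // H27Zeta.cycNorm H27Zeta.ptNorm α = n} := fun n =>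
      (H27Zeta.finite_cycNorm_fibre (H27Zeta.two_le_ptNorm f) (fun m => (hfib m).1) n).to_subtype
    have h2 := H27Zeta.two_le_ptNorm f x'
    have hsum := (LSeriesSummable_of_abscissaOfAbsConv_lt_re (f := Zeta.arithCoeff X) (s := (c : ℂ))
      (by simpa using hc1)).norm
    have hsum' := hsum.comp_injective (Nat.pow_right_injective h2)
    have hle : ∀ n : ℕ, (1 : ℝ) ≤ ‖LSeries.term (Zeta.arithCoeff X) (c : ℂ) (H27Zeta.ptNorm x' ^ n)‖ := by
      intro n
      have hm : H27Zeta.ptNorm x' ^ n ≠ 0 := pow_ne_zero _ (by omega)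
      rw [LSeries.norm_term_eq, if_neg hm, Zeta.arithCoeff, Complex.norm_natCast, Complex.ofReal_re]
      haveI : Nonempty {α : H27Zeta.ClPt X →₀ ℕ //
          H27Zeta.cycNorm H27Zeta.ptNorm α = H27Zeta.ptNorm x' ^ n} :=
        ⟨⟨Finsupp.single x' n, by simp [H27Zeta.cycNorm]⟩⟩
      have h1 : (1 : ℝ) ≤ Zeta.cycleNormCount X (H27Zeta.ptNorm x' ^ n) := by
        rw [H27Zeta.cycleNormCount_eq]
        exact Nat.one_le_cast.2 Nat.card_pos
      rw [le_div_iff₀ (Real.rpow_pos_of_pos (Nat.cast_pos.2 (Nat.pos_of_ne_zero hm)) _), one_mul]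
      refine le_trans ?_ h1
      exact Real.rpow_le_one_of_one_le_of_nonpos (Nat.one_le_cast.2 (Nat.pos_of_ne_zero hm))
        (by simpa using hc.le)
    have := ge_of_tendsto hsum'.tendsto_atTop_zero (Filter.Eventually.of_forall hle)
    linarith
  · set s := max c 0
    have hs : s < r := max_lt hc (by exact_mod_cast h0)
    have hab : LSeries.abscissaOfAbsConv (Zeta.arithCoeff X) < ((s : ℂ).re : EReal) := by
      refine hc1.trans_le (EReal.coe_le_coe_iff.2 ?_)
      rw [Complex.ofReal_re]; exact le_max_left _ _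
    exact not_summable_ptNorm f r hr (le_max_right _ _) hs
      (summable_of_lseriesSummable f r hr.le (LSeriesSummable_of_abscissaOfAbsConv_lt_re hab))

end Groth.Agent.H27LangWeil
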