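import Groth.Agent.H27Zeta.HomBound
import Groth.Agent.H8Props.FieldDimRing
import Mathlib

/-!
# Counting homomorphisms into finite fields: birational invariance
-/

set_option autoImplicit false
set_option synthInstance.maxHeartbeats 200000
set_option maxHeartbeats 800000
universe u v

noncomputable section

open TensorProduct

namespace Groth.Agent.H27LangWeil

/-- `N` is `Q ^ r` up to `C * Q ^ (r - 1/2)`. -/
def Est (r : ℕ) (C : ℝ) (N Q : ℕ) : Prop :=
  |(N : ℝ) - (Q : ℝ) ^ r| * Real.sqrt Q ≤ C * (Q : ℝ) ^ r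

/-- The Lang–Weil estimate for the homomorphisms from `A` into finite fields over `R`. -/
def LangWeilEst (R : Type u) [CommRing R] (A : Type u) [CommRing A] [Algebra R A] (r : ℕ) : Prop :=
  ∃ (h : R) (C : ℝ), h ≠ 0 ∧ ∀ (k : Type v) [Field k] [Finite k] [Algebra R k],
    algebraMap R k h ≠ 0 → Finite (A →ₐ[R] k) ∧ Est r C (Nat.card (A →ₐ[R] k)) (Nat.card k)

theorem est_change {r : ℕ} {C : ℝ} {N N' Q b : ℕ} (c : ℕ) (h : Est r C N Q) (h1 : N' ≤ N + b)
    (h2 : N ≤ N' + b) (hb : b * Q ≤ c * Q ^ r) : Est r (C + c) N' Q := by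
  unfold Est at *
  set s := Real.sqrt (Q : ℝ)
  have hs0 : 0 ≤ s := Real.sqrt_nonneg _
  have hsQ : s ≤ (Q : ℝ) := by
    rcases Nat.eq_zero_or_pos Q with h0 | h0
    · simp [s, h0]
    · have h1 : (1 : ℝ) ≤ (Q : ℝ) := Nat.one_le_cast.2 h0
      exact Real.sqrt_le_iff.2 ⟨by linarith, by nlinarith⟩
  have h1' : (N' : ℝ) ≤ N + b := by exact_mod_cast h1
  have h2' : (N : ℝ) ≤ N' + b := by exact_mod_cast h2
  have hd : |(N' : ℝ) - (Q : ℝ) ^ r| ≤ |(N : ℝ) - (Q : ℝ) ^ r| + b := by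
    rw [abs_le]
    constructor <;> [linarith [neg_abs_le ((N : ℝ) - (Q : ℝ) ^ r)]; linarith [le_abs_self ((N : ℝ) - (Q : ℝ) ^ r)]]
  have hb' : (b : ℝ) * s ≤ c * (Q : ℝ) ^ r := by
    refine le_trans (mul_le_mul_of_nonneg_left hsQ (Nat.cast_nonneg b)) ?_
    exact_mod_cast hb
  calc |(N' : ℝ) - (Q : ℝ) ^ r| * s ≤ (|(N : ℝ) - (Q : ℝ) ^ r| + b) * s :=
        mul_le_mul_of_nonneg_right hd hs0
    _ ≤ (C + c) * (Q : ℝ) ^ r := by rw [add_mul, add_mul]; exact add_le_add h hb'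

section

variable {R : Type u} [CommRing R] [IsDomain R] {K : Type u} [Field K] [Algebra R K]
  [IsFractionRing R K] {F : Type u} [Field F] [Algebra K F] [Algebra R F] [IsScalarTower R K F]

theorem dim_tensor_le (A : Subalgebra R F) (hA : A.FG) {r : ℕ} (htr : Algebra.trdeg K F = r) :
    IsDomain (K ⊗[R] A) ∧ Function.Injective (Algebra.TensorProduct.includeRight : A →ₐ[R] K ⊗[R] A) ∧
      ringKrullDim (K ⊗[R] A) ≤ (r : WithBot ℕ∞) := by
  haveI : Algebra.FiniteType R A := (Subalgebra.fg_iff_finiteType A).1 hA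
  let φ : K ⊗[R] A →ₐ[K] F :=
    Algebra.TensorProduct.lift (Algebra.ofId K F) A.val fun _ _ => Commute.all _ _
  have hφ : ∀ a : A, φ (1 ⊗ₜ[R] a) = (a : F) := fun a => by simp [φ]
  have hinj : Function.Injective φ := by
    rw [injective_iff_map_eq_zero]
    intro z hz
    let inc : A →ₐ[R] K ⊗[R] A := Algebra.TensorProduct.includeRight
    haveI : IsLocalizedModule (nonZeroDivisors R) inc.toLinearMap :=
      (isLocalizedModule_iff_isBaseChange (nonZeroDivisors R) K _).mpr (TensorProduct.isBaseChange R A K)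
    obtain ⟨⟨a, c⟩, hac⟩ := IsLocalizedModule.surj (nonZeroDivisors R) inc.toLinearMap z
    have hc : algebraMap R K c ≠ 0 := IsFractionRing.to_map_ne_zero_of_mem_nonZeroDivisors c.2
    have h0 : (a : F) = 0 := by
      rw [← hφ a]
      change φ (inc.toLinearMap a) = 0
      rw [← hac, Submonoid.smul_def, ← algebraMap_smul K (c : R) z, map_smul, hz, smul_zero]
    have ha : a = 0 := Subtype.ext h0
    rw [ha, map_zero, Submonoid.smul_def, ← algebraMap_smul K (c : R) z] at hac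
    exact (smul_eq_zero.1 hac).resolve_left hc
  haveI hdom : IsDomain (K ⊗[R] A) := Function.Injective.isDomain φ.toRingHom hinj
  refine ⟨hdom, fun a b h => Subtype.ext ?_, ?_⟩
  · rw [← hφ a, ← hφ b]
    exact congrArg φ h
  · haveI : Algebra.FiniteType K (K ⊗[R] A) := inferInstance
    obtain ⟨s, hs, hst⟩ := H8Props.FieldDim.exists_dim_trdeg K (K ⊗[R] A)
    have hle := trdeg_le_of_injective φ hinj
    rw [hst, htr] at hle
    rw [hs]
    exact_mod_cast hle

theorem dim_fractionRing_tensor_eq (A : Type u) [CommRing A] [Algebra R A] :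
    ringKrullDim (FractionRing R ⊗[R] A) = ringKrullDim (K ⊗[R] A) :=
  ringKrullDim_eq_of_ringEquiv
    (Algebra.TensorProduct.congr (FractionRing.algEquiv R K) AlgEquiv.refl).toRingEquiv

theorem exists_card_bound (A : Subalgebra R F) (hA : A.FG) {r : ℕ} (htr : Algebra.trdeg K F = r) :
    ∃ (N : R) (c : ℕ), N ≠ 0 ∧ ∀ (k : Type v) [Field k] [Finite k] [Algebra R k], algebraMap R k N ≠ 0 →
      Finite (A →ₐ[R] k) ∧ Nat.card (A →ₐ[R] k) ≤ c * Nat.card k ^ r := by
  haveI : Algebra.FiniteType R A := (Subalgebra.fg_iff_finiteType A).1 hA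
  exact H27Zeta.exists_bound A r (by rw [dim_fractionRing_tensor_eq (K := K)]; exact (dim_tensor_le A hA htr).2.2)

/-- The homomorphisms killing a given nonzero element are few. -/
theorem exists_card_vanishing_le (hcl : ∀ z : F, IsAlgebraic K z → z ∈ Set.range (algebraMap K F))
    (A : Subalgebra R F) (hA : A.FG) {r : ℕ} (htr : Algebra.trdeg K F = r) (a : A) (ha : a ≠ 0) :
    ∃ (N : R) (c : ℕ), N ≠ 0 ∧ ∀ (k : Type v) [Field k] [Finite k] [Algebra R k], algebraMap R k N ≠ 0 →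
      Finite (A →ₐ[R] k) ∧ Nat.card {φ : A →ₐ[R] k // φ a = 0} * Nat.card k ≤ c * Nat.card k ^ r := by
  obtain ⟨N₀, c₀, hN₀, hbd⟩ := exists_card_bound.{u, v} A hA htr
  haveI : Algebra.FiniteType R A := (Subalgebra.fg_iff_finiteType A).1 hA
  rcases r with _ | r
  · haveI : FaithfulSMul K F := (faithfulSMul_iff_algebraMap_injective K F).2 (algebraMap K F).injective
    haveI : Algebra.IsAlgebraic K F := trdeg_eq_zero_iff.1 (by exact_mod_cast htr)
    obtain ⟨z, hz⟩ := hcl (a : F) (Algebra.IsAlgebraic.isAlgebraic _)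
    obtain ⟨p, q, hq, hpq⟩ := IsFractionRing.div_surjective R z
    have hp : p ≠ 0 := by
      rintro rfl
      exact ha (Subtype.ext (by rw [← hz, ← hpq, map_zero, zero_div, map_zero]; rfl))
    refine ⟨N₀ * (p * q), 0, mul_ne_zero hN₀ (mul_ne_zero hp (nonZeroDivisors.ne_zero hq)),
      fun k _ _ _ hk => ⟨(hbd k (left_ne_zero_of_mul (by rwa [map_mul] at hk))).1, ?_⟩⟩
    haveI : IsEmpty {φ : A →ₐ[R] k // φ a = 0} := ⟨fun φ => by
      have e : algebraMap R A q * a = algebraMap R A p := Subtype.ext (by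
        change algebraMap R F q * (a : F) = algebraMap R F p
        rw [← hz, ← hpq, IsScalarTower.algebraMap_apply R K F q, IsScalarTower.algebraMap_apply R K F p,
          ← map_mul, mul_div_cancel₀ _ (IsFractionRing.to_map_ne_zero_of_mem_nonZeroDivisors hq)])
      have h := congrArg φ.1 e
      rw [map_mul, φ.2, mul_zero, AlgHom.commutes] at h
      rw [map_mul, map_mul, ← h] at hk
      simp at hk⟩
    simp
  · obtain ⟨hdom, hincl, hdim⟩ := dim_tensor_le A hA htr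
    haveI := hdom
    let inc : A →ₐ[R] K ⊗[R] A := Algebra.TensorProduct.includeRight
    have hne : inc a ≠ 0 := fun h => ha (hincl (h.trans (map_zero inc).symm))
    have h1 := ringKrullDim_quotient_succ_le_of_nonZeroDivisor (mem_nonZeroDivisors_of_ne_zero hne)
    let π : K ⊗[R] A →ₐ[R] K ⊗[R] (A ⧸ Ideal.span {a}) :=
      Algebra.TensorProduct.map (AlgHom.id R K) (Ideal.Quotient.mkₐ R (Ideal.span {a}))
    have hπ : π (inc a) = 0 := by
      simp only [π, inc, Algebra.TensorProduct.includeRight_apply, Algebra.TensorProduct.map_tmul,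
        Ideal.Quotient.mkₐ_eq_mk, Ideal.Quotient.eq_zero_iff_mem.2 (Ideal.mem_span_singleton_self a),
        tmul_zero]
    let π' : (K ⊗[R] A) ⧸ Ideal.span {inc a} →+* K ⊗[R] (A ⧸ Ideal.span {a}) :=
      Ideal.Quotient.lift _ π.toRingHom fun y hy => by
        obtain ⟨w, rfl⟩ := Ideal.mem_span_singleton'.1 hy
        change π (w * inc a) = 0
        rw [map_mul, hπ]
        exact mul_zero (π w)
    have hπs : Function.Surjective π' := by
      refine Ideal.Quotient.lift_surjective_of_surjective _ _ fun y => ?_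
      induction y using TensorProduct.induction_on with
      | zero => exact ⟨0, map_zero _⟩
      | tmul c w =>
        obtain ⟨w, rfl⟩ := Ideal.Quotient.mk_surjective w
        exact ⟨c ⊗ₜ w, by simp [π]⟩
      | add y y' hy hy' =>
        obtain ⟨z, rfl⟩ := hy; obtain ⟨z', rfl⟩ := hy'
        exact ⟨z + z', map_add _ _ _⟩
    have h2 : ringKrullDim (K ⊗[R] (A ⧸ Ideal.span {a})) + 1 ≤ ((r + 1 : ℕ) : WithBot ℕ∞) :=
      (add_le_add (ringKrullDim_le_of_surjective π' hπs) le_rfl).trans (h1.trans hdim)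
    have h3 : ringKrullDim (K ⊗[R] (A ⧸ Ideal.span {a})) ≤ (r : WithBot ℕ∞) := by
      generalize ringKrullDim (K ⊗[R] (A ⧸ Ideal.span {a})) = d at h2
      induction d using WithBot.recBotCoe with
      | bot => exact bot_le
      | coe d =>
        have : d + 1 ≤ ((r + 1 : ℕ) : ℕ∞) := by exact_mod_cast h2
        push_cast at this
        exact_mod_cast (WithTop.add_le_add_iff_right (by simp : (1 : ℕ∞) ≠ ⊤)).1 this
    haveI : Algebra.FiniteType R (A ⧸ Ideal.span {a}) :=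
      .of_surjective (Ideal.Quotient.mkₐ R (Ideal.span {a})) Ideal.Quotient.mk_surjective
    obtain ⟨N₁, c₁, hN₁, hbd₁⟩ :=
      H27Zeta.exists_bound (R := R) (A ⧸ Ideal.span {a}) r (by rw [dim_fractionRing_tensor_eq (K := K)]; exact h3)
    refine ⟨N₀ * N₁, c₁, mul_ne_zero hN₀ hN₁, fun k _ _ _ hk => ?_⟩
    rw [map_mul] at hk
    refine ⟨(hbd k (left_ne_zero_of_mul hk)).1, ?_⟩
    obtain ⟨hfin, hcard⟩ := hbd₁ k (right_ne_zero_of_mul hk)
    have hle : Nat.card {φ : A →ₐ[R] k // φ a = 0} ≤ Nat.card ((A ⧸ Ideal.span {a}) →ₐ[R] k) := by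
      refine Nat.card_le_card_of_injective (fun φ => Ideal.Quotient.liftₐ (Ideal.span {a}) φ.1 fun y hy => by
        obtain ⟨w, rfl⟩ := Ideal.mem_span_singleton'.1 hy
        rw [map_mul, φ.2, mul_zero]) fun φ φ' h => Subtype.ext (AlgHom.ext fun y => ?_)
      have := congrArg (fun g => g (Ideal.Quotient.mkₐ R (Ideal.span {a}) y)) h
      simpa using this
    rw [pow_succ, ← mul_assoc]
    exact Nat.mul_le_mul_right _ (hle.trans hcard)

/-- Extensions of a homomorphism nonvanishing at the denominator. -/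
theorem card_le_add_card_vanishing {A C : Subalgebra R F} (hAC : A ≤ C) (a : A) (ha : (a : F) ≠ 0)
    (hden : ∀ c : C, ∃ n : ℕ, (a : F) ^ n * (c : F) ∈ A) (k : Type v) [Field k] [Algebra R k]
    [Finite (A →ₐ[R] k)] [Finite (C →ₐ[R] k)] :
    Nat.card (A →ₐ[R] k) ≤ Nat.card (C →ₐ[R] k) + Nat.card {φ : A →ₐ[R] k // φ a = 0} ∧
      Nat.card (C →ₐ[R] k) ≤ Nat.card (A →ₐ[R] k) +
        Nat.card {φ : C →ₐ[R] k // φ (Subalgebra.inclusion hAC a) = 0} := by
  classical
  let res : (C →ₐ[R] k) → (A →ₐ[R] k) := fun ψ => ψ.comp (Subalgebra.inclusion hAC)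
  have hext : ∀ φ : A →ₐ[R] k, φ a ≠ 0 → ∃ ψ, res ψ = φ := by
    intro φ hφ
    choose n hn using hden
    have key : ∀ (c : C) (m : ℕ) (w : A), (w : F) = (a : F) ^ m * (c : F) →
        φ w / φ a ^ m = φ ⟨_, hn c⟩ / φ a ^ n c := by
      intro c m w hw
      rw [div_eq_div_iff (pow_ne_zero _ hφ) (pow_ne_zero _ hφ), ← map_pow, ← map_pow, ← map_mul, ← map_mul]
      congr 1
      apply Subtype.ext
      push_cast
      rw [hw]; ring
    let ψ : C →ₐ[R] k :=
      { toFun := fun c => φ ⟨_, hn c⟩ / φ a ^ n c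
        map_one' := by rw [← key 1 0 1 (by simp), map_one, pow_zero, div_one]
        map_zero' := by rw [← key 0 0 0 (by simp), map_zero, zero_div]
        map_mul' := fun c d => by
          rw [← key (c * d) (n c + n d) (⟨_, hn c⟩ * ⟨_, hn d⟩) (by push_cast; ring), map_mul, pow_add,
            mul_div_mul_comm]
        map_add' := fun c d => by
          rw [← key (c + d) (n c + n d) (a ^ n d * ⟨_, hn c⟩ + a ^ n c * ⟨_, hn d⟩) (by push_cast; ring),
            map_add, map_mul, map_mul, map_pow, map_pow, div_add_div _ _ (pow_ne_zero _ hφ) (pow_ne_zero _ hφ),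
            ← pow_add]
          congr 1; ring
        commutes' := fun x => by
          rw [← key (algebraMap R C x) 0 (algebraMap R A x) (by simp), AlgHom.commutes, pow_zero, div_one] }
    refine ⟨ψ, AlgHom.ext fun w => ?_⟩
    change φ ⟨_, hn (Subalgebra.inclusion hAC w)⟩ / φ a ^ n (Subalgebra.inclusion hAC w) = φ w
    rw [← key (Subalgebra.inclusion hAC w) 0 w (by simp), pow_zero, div_one]
  have huniq : ∀ ψ ψ' : C →ₐ[R] k, ψ (Subalgebra.inclusion hAC a) ≠ 0 → res ψ = res ψ' → ψ = ψ' := by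
    intro ψ ψ' hψ h
    refine AlgHom.ext fun c => ?_
    obtain ⟨n, hn⟩ := hden c
    have e : (Subalgebra.inclusion hAC a) ^ n * c = Subalgebra.inclusion hAC ⟨_, hn⟩ := Subtype.ext (by simp)
    have h1 := congrArg ψ e
    have h2 := congrArg ψ' e
    rw [map_mul, map_pow] at h1 h2
    have ha' : ψ' (Subalgebra.inclusion hAC a) = ψ (Subalgebra.inclusion hAC a) :=
      (congrArg (fun g : A →ₐ[R] k => g a) h).symm
    have h3 : ψ (Subalgebra.inclusion hAC ⟨_, hn⟩) = ψ' (Subalgebra.inclusion hAC ⟨_, hn⟩) :=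
      congrArg (fun g : A →ₐ[R] k => g ⟨_, hn⟩) h
    rw [← h1, ← h2, ha'] at h3
    exact mul_left_cancel₀ (pow_ne_zero _ hψ) h3
  constructor
  · choose e he using hext
    let g : (A →ₐ[R] k) → (C →ₐ[R] k) ⊕ {φ : A →ₐ[R] k // φ a = 0} := fun φ =>
      if h : φ a = 0 then Sum.inr ⟨φ, h⟩ else Sum.inl (e φ h)
    refine (Nat.card_le_card_of_injective g fun φ φ' h => ?_).trans (Nat.card_sum).le
    by_cases h1 : φ a = 0 <;> by_cases h2 : φ' a = 0 <;> simp [g, h1, h2] at h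
    · exact h
    · rw [← he φ h1, ← he φ' h2, h]
  · let g : (C →ₐ[R] k) → (A →ₐ[R] k) ⊕ {φ : C →ₐ[R] k // φ (Subalgebra.inclusion hAC a) = 0} := fun ψ =>
      if h : ψ (Subalgebra.inclusion hAC a) = 0 then Sum.inr ⟨ψ, h⟩ else Sum.inl (res ψ)
    refine (Nat.card_le_card_of_injective g fun φ φ' h => ?_).trans (Nat.card_sum).le
    by_cases h1 : φ (Subalgebra.inclusion hAC a) = 0 <;>
      by_cases h2 : φ' (Subalgebra.inclusion hAC a) = 0 <;> simp [g, h1, h2] at h
    · exact h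
    · exact huniq φ φ' h1 h

theorem exists_denominator {A C : Subalgebra R F} (hC : C.FG)
    (hfrac : ∀ z : F, ∃ p ∈ A, ∃ q ∈ A, q ≠ 0 ∧ z = p / q) :
    ∃ a : A, (a : F) ≠ 0 ∧ ∀ c : C, ∃ n : ℕ, (a : F) ^ n * (c : F) ∈ A := by
  classical
  obtain ⟨s, hs⟩ := hC
  choose p hp q hq hq0 hpq using hfrac
  refine ⟨⟨∏ g ∈ s, q g, prod_mem fun g _ => hq g⟩, Finset.prod_ne_zero_iff.2 fun g _ => hq0 g,
    fun c => ?_⟩
  have hc : (c : F) ∈ Algebra.adjoin R (s : Set F) := by rw [hs]; exact c.2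
  change ∃ n, (∏ g ∈ s, q g) ^ n * (c : F) ∈ A
  generalize (c : F) = z at hc
  induction hc using Algebra.adjoin_induction with
  | mem g hg =>
    refine ⟨1, ?_⟩
    rw [pow_one, ← Finset.mul_prod_erase s q hg, mul_comm (q g), mul_assoc]
    refine mul_mem (prod_mem fun g _ => hq g) ?_
    nth_rewrite 2 [hpq g]
    rw [mul_div_cancel₀ _ (hq0 g)]
    exact hp g
  | algebraMap x => exact ⟨0, by simp [A.algebraMap_mem x]⟩
  | add x y _ _ hx hy =>
    obtain ⟨n, hn⟩ := hx; obtain ⟨m, hm⟩ := hy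
    refine ⟨n + m, ?_⟩
    have := add_mem (mul_mem (pow_mem (prod_mem fun g (_ : g ∈ s) => hq g) m) hn)
      (mul_mem (pow_mem (prod_mem fun g (_ : g ∈ s) => hq g) n) hm)
    convert this using 1
    ring
  | mul x y _ _ hx hy =>
    obtain ⟨n, hn⟩ := hx; obtain ⟨m, hm⟩ := hy
    refine ⟨n + m, ?_⟩
    convert mul_mem hn hm using 1
    ring

/-- Birational invariance of the Lang–Weil estimate. -/
theorem langWeilEst_of_birational (hcl : ∀ z : F, IsAlgebraic K z → z ∈ Set.range (algebraMap K F))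
    {r : ℕ} (htr : Algebra.trdeg K F = r) (A B : Subalgebra R F) (hA : A.FG) (hB : B.FG)
    (hfA : ∀ z : F, ∃ p ∈ A, ∃ q ∈ A, q ≠ 0 ∧ z = p / q)
    (hfB : ∀ z : F, ∃ p ∈ B, ∃ q ∈ B, q ≠ 0 ∧ z = p / q) (h : LangWeilEst.{u, v} R B r) :
    LangWeilEst.{u, v} R A r := by
  have hC : (A ⊔ B).FG := hA.sup hB
  obtain ⟨a, ha, hda⟩ := exists_denominator (A := A) hC hfA
  obtain ⟨b, hb, hdb⟩ := exists_denominator (A := B) hC hfB
  obtain ⟨N₁, c₁, hN₁, h₁⟩ := exists_card_vanishing_le.{u, v} hcl A hA htr a (fun h => ha (by rw [h]; rfl))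
  obtain ⟨N₂, c₂, hN₂, h₂⟩ := exists_card_vanishing_le.{u, v} hcl B hB htr b (fun h => hb (by rw [h]; rfl))
  obtain ⟨N₃, c₃, hN₃, h₃⟩ := exists_card_vanishing_le.{u, v} hcl _ hC htr
    (Subalgebra.inclusion (le_sup_left : A ≤ A ⊔ B) a) (fun h => ha (congrArg Subtype.val h))
  obtain ⟨N₄, c₄, hN₄, h₄⟩ := exists_card_vanishing_le.{u, v} hcl _ hC htr
    (Subalgebra.inclusion (le_sup_right : B ≤ A ⊔ B) b) (fun h => hb (congrArg Subtype.val h))
  obtain ⟨h₀, C, hh₀, hest⟩ := h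
  refine ⟨h₀ * N₁ * N₂ * N₃ * N₄, C + ((c₁ + c₂ + c₃ + c₄ : ℕ) : ℝ),
    mul_ne_zero (mul_ne_zero (mul_ne_zero (mul_ne_zero hh₀ hN₁) hN₂) hN₃) hN₄, fun k _ _ _ hk => ?_⟩
  simp only [map_mul, mul_ne_zero_iff] at hk
  obtain ⟨⟨⟨⟨hk0, hk1⟩, hk2⟩, hk3⟩, hk4⟩ := hk
  obtain ⟨hfA', hb1⟩ := h₁ k hk1
  obtain ⟨hfB', hb2⟩ := h₂ k hk2
  obtain ⟨hfC', hb3⟩ := h₃ k hk3
  obtain ⟨-, hb4⟩ := h₄ k hk4
  obtain ⟨hA1, hA2⟩ := card_le_add_card_vanishing (le_sup_left : A ≤ A ⊔ B) a ha hda k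
  obtain ⟨hB1, hB2⟩ := card_le_add_card_vanishing (le_sup_right : B ≤ A ⊔ B) b hb hdb k
  refine ⟨hfA', est_change (b := Nat.card {φ : A →ₐ[R] k // φ a = 0} +
    Nat.card {φ : B →ₐ[R] k // φ b = 0} +
    Nat.card {φ : ↥(A ⊔ B) →ₐ[R] k // φ (Subalgebra.inclusion (le_sup_left : A ≤ A ⊔ B) a) = 0} +
    Nat.card {φ : ↥(A ⊔ B) →ₐ[R] k // φ (Subalgebra.inclusion (le_sup_right : B ≤ A ⊔ B) b) = 0})
    _ (hest k hk0).2 ?_ ?_ ?_⟩
  · omega
  · omega
  · simp only [add_mul]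
    exact Nat.add_le_add (Nat.add_le_add (Nat.add_le_add hb1 hb2) hb3) hb4

end

end Groth.Agent.H27LangWeil
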