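import Groth.Agent.H27LangWeil.GeomComp
import Mathlib

/-!
# The number of geometric components lying over an irreducible closed set
-/

set_option autoImplicit false
set_option maxHeartbeats 800000
universe u

noncomputable section

open CategoryTheory CategoryTheory.Limits AlgebraicGeometry TensorProduct

namespace Groth.Agent.H27LangWeil

/-- The closures of finitely many incomparable points are the components of their union. -/
theorem card_irreducibleComponents_of_generic {T : Type u} [TopologicalSpace T] [QuasiSober T] [T0Space T]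
    (F S : Set T) (hfin : F.Finite) (hanti : ∀ a ∈ F, ∀ b ∈ F, a ⤳ b → a = b) (hS : closure F = S) :
    Nat.card (irreducibleComponents ↥S) = Nat.card F := by
  classical
  have hSc : IsClosed S := hS ▸ isClosed_closure
  have hFS : F ⊆ S := hS ▸ subset_closure
  haveI : QuasiSober ↥S := hSc.isClosedEmbedding_subtypeVal.quasiSober
  have hcov : ∀ w ∈ S, ∃ a ∈ F, a ⤳ w := by
    intro w hw
    rw [← hS, show closure F = ⋃ a ∈ F, closure {a} by
      conv_lhs => rw [← Set.biUnion_of_singleton F]
      exact hfin.closure_biUnion _] at hw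
    simp only [Set.mem_iUnion] at hw
    obtain ⟨a, ha, hw⟩ := hw
    exact ⟨a, ha, specializes_iff_mem_closure.2 hw⟩
  have hmem : ∀ a : F, closure ({⟨a.1, hFS a.2⟩} : Set ↥S) ∈ irreducibleComponents ↥S := by
    intro a
    refine ⟨isIrreducible_singleton.closure, fun W hW hle => ?_⟩
    have hsp : hW.genericPoint ⤳ (⟨a.1, hFS a.2⟩ : ↥S) :=
      hW.isGenericPoint_genericPoint_closure.specializes
        (subset_closure (hle (subset_closure rfl)))
    obtain ⟨b, hb, hbw⟩ := hcov hW.genericPoint.1 hW.genericPoint.2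
    have hab : b = a.1 := hanti b hb a.1 a.2 (hbw.trans (hsp.map continuous_subtype_val))
    intro w hw
    have h1 : hW.genericPoint ⤳ w :=
      hW.isGenericPoint_genericPoint_closure.specializes (subset_closure hw)
    have h2 : (⟨a.1, hFS a.2⟩ : ↥S) ⤳ hW.genericPoint := by
      refine Topology.IsInducing.subtypeVal.specializes_iff.1 ?_
      exact hab ▸ hbw
    exact specializes_iff_mem_closure.1 (h2.trans h1)
  let Φ : F → irreducibleComponents ↥S := fun a => ⟨_, hmem a⟩
  refine (Nat.card_eq_of_bijective Φ ⟨fun a b h => ?_, fun ⟨W, hW⟩ => ?_⟩).symm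
  · have h' : closure ({⟨a.1, hFS a.2⟩} : Set ↥S) = closure {⟨b.1, hFS b.2⟩} := congrArg Subtype.val h
    have h1 : (⟨a.1, hFS a.2⟩ : ↥S) ⤳ ⟨b.1, hFS b.2⟩ :=
      specializes_iff_mem_closure.2 (h' ▸ subset_closure rfl)
    exact Subtype.ext (hanti a.1 a.2 b.1 b.2 (h1.map continuous_subtype_val))
  · have hWc : IsClosed W := isClosed_of_mem_irreducibleComponents W hW
    obtain ⟨b, hb, hbw⟩ := hcov hW.1.genericPoint.1 hW.1.genericPoint.2
    refine ⟨⟨b, hb⟩, Subtype.ext ?_⟩
    have h2 : (⟨b, hFS hb⟩ : ↥S) ⤳ hW.1.genericPoint := Topology.IsInducing.subtypeVal.specializes_iff.1 hbw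
    have hle : W ⊆ closure ({⟨b, hFS hb⟩} : Set ↥S) := fun w hw =>
      specializes_iff_mem_closure.1 (h2.trans
        ((hW.1.isGenericPoint_genericPoint hWc).specializes hw))
    exact (hW.eq_of_subset isIrreducible_singleton.closure hle).symm

variable {k : Type u} [Field k] [PerfectField k] {X : Scheme.{u}} (f : X ⟶ Spec (CommRingCat.of k))

theorem natCard_irreducibleComponents_preimage [∀ x : X, Algebra k (X.residueField x)]
    (halg : ∀ x : X, Spec.map (CommRingCat.ofHom (algebraMap k (X.residueField x))) =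
      X.fromSpecResidueField x ≫ f)
    {Z : Set X} {η : X} (hη : IsGenericPoint η Z) [Algebra.EssFiniteType k (X.residueField η)] :
    Nat.card (irreducibleComponents ((pullback.fst f (Spec.map (CommRingCat.ofHom
        (algebraMap k (AlgebraicClosure k))))).base ⁻¹' Z)) =
      Module.finrank k (algebraicClosure k (X.residueField η)) := by
  classical
  let g := Spec.map (CommRingCat.ofHom (algebraMap k (AlgebraicClosure k)))
  let π := pullback.fst f g
  obtain ⟨hfin, hmax, hcard⟩ :=
    card_primeSpectrum_tensor (k := k) (F := X.residueField η) (Ω := AlgebraicClosure k)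
  -- the fibre over the generic point
  let e : π.fiber η ≅ Spec (CommRingCat.of ((X.residueField η : Type u) ⊗[k] AlgebraicClosure k)) :=
    (pullbackSymmetry _ _ ≪≫ pullbackRightPullbackFstIso f g (X.fromSpecResidueField η)) ≪≫
      pullback.congrHom (halg η).symm rfl ≪≫ pullbackSpecIso k (X.residueField η) (AlgebraicClosure k)
  have hembed : Topology.IsEmbedding (π.fiberι η) := (π.fiberι η).isEmbedding
  haveI : Finite ↥(Spec (CommRingCat.of ((X.residueField η : Type u) ⊗[k] AlgebraicClosure k))) := hfin
  haveI : Finite ↥(π.fiber η) := Finite.of_equiv _ e.hom.homeomorph.toEquiv.symm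
  have hrange := π.range_fiberι η
  have hanti : ∀ a ∈ π ⁻¹' {η}, ∀ b ∈ π ⁻¹' {η}, a ⤳ b → a = b := by
    rw [← hrange]
    rintro _ ⟨a, rfl⟩ _ ⟨b, rfl⟩ hab
    have h1 : a ⤳ b := hembed.isInducing.specializes_iff.1 hab
    have h2 : e.hom.homeomorph a ⤳ e.hom.homeomorph b := h1.map e.hom.homeomorph.continuous
    have h3 : (e.hom.homeomorph a).asIdeal ≤ (e.hom.homeomorph b).asIdeal :=
      (PrimeSpectrum.le_iff_specializes (e.hom.homeomorph a) (e.hom.homeomorph b)).2 h2
    exact congrArg _ (e.hom.homeomorph.injective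
      (PrimeSpectrum.ext ((hmax (e.hom.homeomorph a)).eq_of_le (e.hom.homeomorph b).2.ne_top h3)))
  have hclo : closure (π ⁻¹' {η}) = π ⁻¹' Z := by
    rw [← π.isOpenMap.preimage_closure_eq_closure_preimage π.continuous, hη.def]
  have hfinF : (π ⁻¹' {η}).Finite := by
    rw [← hrange]; exact Set.finite_range _
  refine (card_irreducibleComponents_of_generic _ _ hfinF hanti hclo).trans ?_
  rw [← hrange, Nat.card_range_of_injective hembed.injective, ← hcard]
  exact Nat.card_congr e.hom.homeomorph.toEquiv

end Groth.Agent.H27LangWeil
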