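import Groth.Agent.H27LangWeil.Pieces
import Groth.Agent.H27LangWeil.GeomCount
import Mathlib

/-!
# The Lang–Weil estimate by components
-/

set_option autoImplicit false
set_option maxHeartbeats 1000000
universe u

noncomputable section

open CategoryTheory CategoryTheory.Limits AlgebraicGeometry TopologicalSpace

namespace Groth.Agent.H27LangWeil

open H8Props.FieldDim (cdim)

variable {k : Type u} [Field k] [Finite k] {X : Scheme.{u}} (f : X ⟶ Spec (CommRingCat.of k))

theorem exists_decomposition [LocallyOfFiniteType f] [QuasiCompact f] (r : ℕ) (hr : topologicalKrullDim X = r) :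
    {Z : Set X | Z ∈ irreducibleComponents X ∧ topologicalKrullDim Z = r}.Finite ∧
    ∃ O : Set X → Set X, (∀ Z ∈ irreducibleComponents X, IsOpen (O Z) ∧ O Z ⊆ Z ∧
        (∀ η, IsGenericPoint η Z → η ∈ O Z) ∧ ∀ Z' ∈ irreducibleComponents X, Z' ≠ Z → O Z ∩ O Z' = ∅) ∧
      ∀ W : Set X, IsClosed W →
        (∀ Z ∈ irreducibleComponents X, topologicalKrullDim Z = r → ∀ η, IsGenericPoint η Z → η ∉ W) →
        (r = 0 → W = ∅) ∧ topologicalKrullDim W ≤ ((r - 1 : ℕ) : WithBot ℕ∞) := by
  classical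
  haveI : IsLocallyNoetherian X := LocallyOfFiniteType.isLocallyNoetherian f
  haveI : CompactSpace X := QuasiCompact.compactSpace_of_compactSpace f
  haveI : IsNoetherian X := ⟨⟩
  have hfin : (irreducibleComponents X).Finite := TopologicalSpace.NoetherianSpace.finite_irreducibleComponents
  refine ⟨hfin.subset fun Z hZ => hZ.1, fun Z => (⋃ Z' ∈ irreducibleComponents X \ {Z}, Z')ᶜ,
    fun Z hZ => ⟨?_, ?_, ?_, ?_⟩, ?_⟩
  · exact ((hfin.sdiff).isClosed_biUnion fun Z' hZ' =>
      isClosed_of_mem_irreducibleComponents Z' hZ'.1).isOpen_compl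
  · intro x hx
    by_contra hxZ
    refine hx (Set.mem_biUnion (x := irreducibleComponent x) ⟨irreducibleComponent_mem_irreducibleComponents x, ?_⟩
      mem_irreducibleComponent)
    intro h
    exact hxZ ((Set.mem_singleton_iff.1 h) ▸ mem_irreducibleComponent)
  · intro η hη hmem
    simp only [Set.mem_iUnion] at hmem
    obtain ⟨Z', ⟨hZ', hne⟩, hηZ'⟩ := hmem
    have hsub : Z ⊆ Z' := by
      rw [← hη.def]
      exact closure_minimal (Set.singleton_subset_iff.2 hηZ') (isClosed_of_mem_irreducibleComponents Z' hZ')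
    exact hne (Set.mem_singleton_iff.2 (hZ.eq_of_subset hZ'.1 hsub).symm)
  · intro Z' hZ' hne
    refine Set.eq_empty_iff_forall_notMem.2 fun x ⟨hx, hx'⟩ => ?_
    by_cases h : irreducibleComponent x = Z
    · refine hx' (Set.mem_biUnion (x := irreducibleComponent x) ⟨irreducibleComponent_mem_irreducibleComponents x, ?_⟩
        mem_irreducibleComponent)
      rw [Set.mem_singleton_iff, h]
      exact fun h' => hne h'.symm
    · exact hx (Set.mem_biUnion (x := irreducibleComponent x) ⟨irreducibleComponent_mem_irreducibleComponents x, h⟩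
        mem_irreducibleComponent)
  · intro W hW hgen
    have hlt : ∀ x ∈ W, cdim x < ((r : ℕ) : WithBot ℕ∞) := by
      intro x hxW
      have hle : ∀ y : X, cdim y ≤ ((r : ℕ) : WithBot ℕ∞) := fun y =>
        hr ▸ Topology.IsEmbedding.subtypeVal.isInducing.topologicalKrullDim_le
      let Z := irreducibleComponent x
      have hZ := irreducibleComponent_mem_irreducibleComponents x
      let η := hZ.1.genericPoint
      have hη : IsGenericPoint η Z := hZ.1.isGenericPoint_genericPoint (isClosed_of_mem_irreducibleComponents Z hZ)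
      rcases eq_or_ne η x with h | h
      · refine lt_of_le_of_ne (hle x) fun heq => hgen Z hZ ?_ η hη (h ▸ hxW)
        rw [← hη.def, h]
        exact heq
      · exact lt_of_lt_of_le (H8Props.FieldDim.cdim_lt f (hη.specializes mem_irreducibleComponent) h) (hle η)
    refine ⟨fun h0 => Set.eq_empty_iff_forall_notMem.2 fun x hx => ?_, ?_⟩
    · obtain ⟨s, hs⟩ := H8Props.FieldDim.exists_nat_cdim f x
      have h1 := hlt x hx
      rw [hs, h0] at h1
      exact absurd (show s < 0 by exact_mod_cast h1) (Nat.not_lt_zero s)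
    · haveI : QuasiSober ↥W := hW.isClosedEmbedding_subtypeVal.quasiSober
      rw [H8Props.FieldDim.dim_eq_iSup_cdim]
      refine iSup_le fun w => ?_
      obtain ⟨s, hs⟩ := H8Props.FieldDim.exists_nat_cdim f w.1
      have h1 := hlt w.1 w.2
      rw [hs] at h1
      have h2 : s < r := by exact_mod_cast h1
      have h3 : cdim w ≤ cdim w.1 := by
        let j : closure ({w} : Set ↥W) → closure ({w.1} : Set X) := fun z =>
          ⟨z.1.1, map_mem_closure continuous_subtype_val z.2 (by rintro a rfl; rfl)⟩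
        have hj : Topology.IsInducing j :=
          Topology.IsInducing.codRestrict (Topology.IsInducing.subtypeVal.comp Topology.IsInducing.subtypeVal) _
        exact hj.topologicalKrullDim_le
      refine h3.trans (hs.le.trans ?_)
      exact_mod_cast Nat.le_sub_one_of_lt h2

/-- **Lang–Weil by components**, in a normalised form. -/
theorem exists_componentEstimate [LocallyOfFiniteType f] [QuasiCompact f] (r : ℕ) (hr : topologicalKrullDim X = r) :
    ∃ (T : Finset (Set X)) (m : Set X → ℕ) (C : ℝ) (c : ℕ), 0 ≤ C ∧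
      (∀ Z, Z ∈ T ↔ Z ∈ irreducibleComponents X ∧ topologicalKrullDim Z = r) ∧
      (∀ Z ∈ T, 0 < m Z ∧ Nat.card (irreducibleComponents ((pullback.fst f (Spec.map (CommRingCat.ofHom
        (algebraMap k (AlgebraicClosure k))))).base ⁻¹' Z)) = m Z) ∧
      ∀ e : ℕ, e ≠ 0 → ∃ (N : Set X → ℕ) (w : ℕ), Zeta.nPts f e = (∑ Z ∈ T, N Z) + w ∧
        (r = 0 → w = 0) ∧ w ≤ c * (Nat.card k ^ e) ^ (r - 1) ∧
        ∀ Z ∈ T, (m Z ∣ e → |(N Z : ℝ) - m Z * ((Nat.card k : ℝ) ^ e) ^ r| * Real.sqrt ((Nat.card k : ℝ) ^ e) ≤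
          C * ((Nat.card k : ℝ) ^ e) ^ r) ∧ (¬ m Z ∣ e → N Z = 0) := by
  classical
  letI alg : ∀ x : X, Algebra k (X.residueField x) := fun x =>
    (Spec.preimage (X.fromSpecResidueField x ≫ f) : CommRingCat.of k ⟶ X.residueField x).hom.toAlgebra
  have halg : ∀ x : X, Spec.map (CommRingCat.ofHom (algebraMap k (X.residueField x))) =
      X.fromSpecResidueField x ≫ f := fun x => Spec.map_preimage _
  obtain ⟨hfin, O, hO, hWdim⟩ := exists_decomposition f r hr
  let T := hfin.toFinset
  have hT : ∀ Z, Z ∈ T ↔ Z ∈ irreducibleComponents X ∧ topologicalKrullDim Z = r := fun Z => by simp [T]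
  have hgp : ∀ Z : T, ∃ η : X, IsGenericPoint η (Z : Set X) := fun Z =>
    ⟨_, ((hT Z).1 Z.2).1.1.isGenericPoint_genericPoint
      (isClosed_of_mem_irreducibleComponents _ ((hT Z).1 Z.2).1)⟩
  choose η hη using hgp
  have hpc : ∀ Z : T, ∃ (V : X.Opens) (A : Subalgebra k (X.residueField (η Z))) (C : ℝ),
      η Z ∈ V ∧ (V : Set X) ⊆ O Z ∧
      ∀ (k' : Type u) [Field k'] [Algebra k k'] [Finite k'],
        (Module.finrank k (algebraicClosure k (X.residueField (η Z))) ∣ Module.finrank k k' →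
          |(Nat.card (ptsIn f k' (V : Set X)) : ℝ) - Module.finrank k (algebraicClosure k (X.residueField (η Z))) *
            (Nat.card k' : ℝ) ^ r| * Real.sqrt (Nat.card k') ≤ C * (Nat.card k' : ℝ) ^ r) ∧
        (¬ Module.finrank k (algebraicClosure k (X.residueField (η Z))) ∣ Module.finrank k k' →
          Nat.card (ptsIn f k' (V : Set X)) = 0) := by
    intro Z
    obtain ⟨h1, h2, h3, -⟩ := hO Z ((hT Z).1 Z.2).1
    have hsub : O Z ⊆ closure {η Z} := by rw [(hη Z).def]; exact h2
    obtain ⟨V, A, hV, hVO, hA, hfr, hconst, hpts⟩ := exists_piece f halg (η Z) (O Z) h1 (h3 _ (hη Z)) hsub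
    haveI := essFiniteType_residueField f halg (η Z)
    have htr := trdeg_residueField f halg (η Z) (r := r) (by rw [(hη Z).def]; exact ((hT Z).1 Z.2).2)
    obtain ⟨C, hC⟩ := exists_domain_estimate A hA hfr hconst htr
    exact ⟨V, A, C, hV, hVO, fun k' _ _ _ => by rw [hpts k']; exact hC k'⟩
  choose V A C hηV hVO hC using hpc
  let W : Set X := (⋃ Z : T, (V Z : Set X))ᶜ
  have hW : IsClosed W := (isOpen_iUnion fun Z => (V Z).2).isClosed_compl
  obtain ⟨hW0, hWn⟩ := hWdim W hW fun Z hZ hZr η' hη' hmem => by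
    have hZT : Z ∈ T := (hT Z).2 ⟨hZ, hZr⟩
    have : η' = η ⟨Z, hZT⟩ := hη'.eq (hη ⟨Z, hZT⟩)
    exact hmem (Set.mem_iUnion.2 ⟨⟨Z, hZT⟩, this ▸ hηV ⟨Z, hZT⟩⟩)
  obtain ⟨c, hc⟩ := exists_ptsIn_le f W hW (r - 1) hWn
  let m : Set X → ℕ := fun Z => if h : Z ∈ T then
    Module.finrank k (algebraicClosure k (X.residueField (η ⟨Z, h⟩))) else 0
  refine ⟨T, m, ∑ Z : T, |C Z|, c, Finset.sum_nonneg fun Z _ => abs_nonneg _, hT, fun Z hZ => ?_, fun e he => ?_⟩
  · haveI := essFiniteType_residueField f halg (η ⟨Z, hZ⟩)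
    haveI := H1CAlg.finiteDimensional_algebraicClosure k (X.residueField (η ⟨Z, hZ⟩))
    simp only [m, dif_pos hZ]
    exact ⟨Module.finrank_pos, natCard_irreducibleComponents_preimage f halg (hη ⟨Z, hZ⟩)⟩
  obtain ⟨p, hp⟩ := CharP.exists k
  haveI : Fact p.Prime := ⟨CharP.char_is_prime k p⟩
  haveI : NeZero e := ⟨he⟩
  let k' := ULift.{u} (FiniteField.Extension k p e)
  have hdim : Module.finrank k k' = e :=
    (ULift.algEquiv (R := k) (A := FiniteField.Extension k p e)).toLinearEquiv.finrank_eq.trans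
      (FiniteField.finrank_extension k p e)
  haveI : Module.Finite k k' := Module.Finite.of_finite
  have hQ : (Nat.card k' : ℝ) = (Nat.card k : ℝ) ^ e := by
    rw [Module.natCard_eq_pow_finrank (K := k) (V := k'), hdim]; push_cast; rfl
  haveI := H27Zeta.finite_points f k'
  let P := {g : Spec (CommRingCat.of k') ⟶ X // g ≫ f = Spec.map (CommRingCat.ofHom (algebraMap k k'))}
  let pt : P → X := fun g => g.1 (IsLocalRing.closedPoint k')
  let tag : P → Option T := fun g =>
    if h : ∃ Z : T, pt g ∈ (V Z : Set X) then some h.choose else none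
  have htag : ∀ (g : P) (Z : T), tag g = some Z ↔ pt g ∈ (V Z : Set X) := by
    intro g Z
    simp only [tag]
    constructor
    · intro h
      split_ifs at h with h'
      exact Option.some.inj h ▸ h'.choose_spec
    · intro h
      rw [dif_pos ⟨Z, h⟩]
      refine congrArg some (by_contra fun hne => ?_)
      have hsp := (⟨Z, h⟩ : ∃ Z : T, pt g ∈ (V Z : Set X)).choose_spec
      set Z' := (⟨Z, h⟩ : ∃ Z : T, pt g ∈ (V Z : Set X)).choose
      have := (hO Z ((hT Z).1 Z.2).1).2.2.2 Z' ((hT Z').1 Z'.2).1 (fun h' => hne (Subtype.ext h'))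
      exact this.le ⟨hVO Z h, hVO Z' hsp⟩
  have htag0 : ∀ g : P, tag g = none ↔ pt g ∈ W := fun g => by
    simp only [tag, W, Set.mem_compl_iff, Set.mem_iUnion]
    split_ifs with h <;> simpa using h
  have eSome : ∀ Z : T, Nat.card {g : P // tag g = some Z} = Nat.card (ptsIn f k' (V Z : Set X)) := fun Z =>
    Nat.card_congr
      { toFun := fun g => ⟨g.1.1, g.1.2, (htag g.1 Z).1 g.2⟩
        invFun := fun g => ⟨⟨g.1, g.2.1⟩, (htag ⟨g.1, g.2.1⟩ Z).2 g.2.2⟩
        left_inv := fun g => rfl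
        right_inv := fun g => rfl }
  have eNone : Nat.card {g : P // tag g = none} = Nat.card (ptsIn f k' W) :=
    Nat.card_congr
      { toFun := fun g => ⟨g.1.1, g.1.2, (htag0 g.1).1 g.2⟩
        invFun := fun g => ⟨⟨g.1, g.2.1⟩, (htag0 ⟨g.1, g.2.1⟩).2 g.2.2⟩
        left_inv := fun g => rfl
        right_inv := fun g => rfl }
  let N : Set X → ℕ := fun Z => if h : Z ∈ T then Nat.card (ptsIn f k' (V ⟨Z, h⟩ : Set X)) else 0
  refine ⟨N, Nat.card (ptsIn f k' W), ?_, fun h0 => ?_, ?_, fun Z hZ => ?_⟩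
  · refine (congrArg (Zeta.nPts f) hdim.symm).trans ((H27Zeta.pointCount_eq_nPts f k').symm.trans ?_)
    change Nat.card P = _
    haveI : ∀ t, Finite {g : P // tag g = t} := fun t => Subtype.finite
    rw [← Nat.card_congr (Equiv.sigmaFiberEquiv tag), Nat.card_sigma, Fintype.sum_option, add_comm, eNone,
      ← Finset.sum_coe_sort T]
    congr 1
    refine Finset.sum_congr rfl fun Z _ => ?_
    rw [eSome Z]
    simp [N]
  · haveI : IsEmpty (ptsIn f k' W) := ⟨fun g => by
      exact (Set.eq_empty_iff_forall_notMem.1 (hW0 h0)) _ g.2.2⟩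
    exact Nat.card_of_isEmpty
  · refine (hc k').trans_eq ?_
    rw [hdim, mul_comm (r - 1), pow_mul]
  · simp only [m, N, dif_pos hZ]
    obtain ⟨h1, h2⟩ := hC ⟨Z, hZ⟩ k'
    rw [hdim] at h1 h2
    refine ⟨fun hd => ?_, h2⟩
    rw [← hQ]
    exact (h1 hd).trans (mul_le_mul_of_nonneg_right ((le_abs_self _).trans
      (Finset.single_le_sum (f := fun Z : T => |C Z|) (fun Z _ => abs_nonneg _) (Finset.mem_univ _)))
      (by positivity))

end Groth.Agent.H27LangWeil
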