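import Groth.Agent.H27LangWeil.LowerBoundField
import Mathlib

/-!
# Counting points of a variety containing its field of constants
-/

set_option autoImplicit false
set_option synthInstance.maxHeartbeats 200000
set_option maxHeartbeats 800000
universe u

noncomputable section

namespace Groth.Agent.H27LangWeil

/-- Homomorphisms split according to their restriction to the constants. -/
theorem card_algHom_fibre {k Kc F k' : Type u} [Field k] [Field Kc] [Algebra k Kc] [Field F] [Algebra k F]
    [Algebra Kc F] [IsScalarTower k Kc F] [Field k'] [Algebra k k'] (A : Subalgebra k F)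
    (AR : Subalgebra Kc F) (heq : ∀ z : F, z ∈ AR ↔ z ∈ A) (σ : Kc →ₐ[k] k') :
    letI := σ.toRingHom.toAlgebra
    Nat.card {φ : A →ₐ[k] k' // ∀ c : Kc, ∀ h : algebraMap Kc F c ∈ A, φ ⟨_, h⟩ = σ c} =
      Nat.card (AR →ₐ[Kc] k') := by
  letI := σ.toRingHom.toAlgebra
  refine Nat.card_congr
    { toFun := fun φ =>
        { toFun := fun z => φ.1 ⟨z.1, (heq _).1 z.2⟩
          map_one' := map_one φ.1
          map_zero' := map_zero φ.1
          map_add' := fun z w => map_add φ.1 ⟨z.1, (heq _).1 z.2⟩ ⟨w.1, (heq _).1 w.2⟩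
          map_mul' := fun z w => map_mul φ.1 ⟨z.1, (heq _).1 z.2⟩ ⟨w.1, (heq _).1 w.2⟩
          commutes' := fun c => φ.2 c _ }
      invFun := fun ψ => ⟨
        { toFun := fun z => ψ ⟨z.1, (heq _).2 z.2⟩
          map_one' := map_one ψ
          map_zero' := map_zero ψ
          map_add' := fun z w => map_add ψ ⟨z.1, (heq _).2 z.2⟩ ⟨w.1, (heq _).2 w.2⟩
          map_mul' := fun z w => map_mul ψ ⟨z.1, (heq _).2 z.2⟩ ⟨w.1, (heq _).2 w.2⟩
          commutes' := fun x => by
            refine (congrArg ψ (Subtype.ext ?_ : _ = algebraMap Kc AR (algebraMap k Kc x))).trans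
              ((ψ.commutes _).trans (σ.commutes x))
            exact IsScalarTower.algebraMap_apply k Kc F x },
        fun c h => ψ.commutes c⟩
      left_inv := fun φ => rfl
      right_inv := fun ψ => rfl }

/-- The estimate for one variety containing its constants. -/
theorem exists_domain_estimate {k : Type u} [Field k] [Finite k] {F : Type u} [Field F] [Algebra k F]
    [Algebra.EssFiniteType k F] (A : Subalgebra k F) (hA : A.FG)
    (hfrac : ∀ z : F, ∃ p ∈ A, ∃ q ∈ A, q ≠ 0 ∧ z = p / q)
    (hconst : ∀ c : F, IsAlgebraic k c → c ∈ A) {r : ℕ} (htr : Algebra.trdeg k F = (r : ℕ)) :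
    ∃ C : ℝ, ∀ (k' : Type u) [Field k'] [Algebra k k'] [Finite k'],
      (Module.finrank k (algebraicClosure k F) ∣ Module.finrank k k' →
        |(Nat.card (A →ₐ[k] k') : ℝ) - Module.finrank k (algebraicClosure k F) * (Nat.card k' : ℝ) ^ r| *
          Real.sqrt (Nat.card k') ≤ C * (Nat.card k' : ℝ) ^ r) ∧
      (¬ Module.finrank k (algebraicClosure k F) ∣ Module.finrank k k' →
        Nat.card (A →ₐ[k] k') = 0) := by
  classical
  let Kc := algebraicClosure k F
  haveI : FiniteDimensional k Kc := H1CAlg.finiteDimensional_algebraicClosure k F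
  haveI : Finite Kc := Module.finite_of_finite k
  haveI : Algebra.EssFiniteType Kc F := Algebra.EssFiniteType.of_comp k Kc F
  have hcl : ∀ z : F, IsAlgebraic Kc z → z ∈ Set.range (algebraMap Kc F) := fun z hz =>
    ⟨⟨z, mem_algebraicClosure_iff.2 (hz.restrictScalars k)⟩, rfl⟩
  have htr' : Algebra.trdeg Kc F = (r : ℕ) := by
    haveI : FaithfulSMul k Kc := (faithfulSMul_iff_algebraMap_injective k Kc).2 (algebraMap k Kc).injective
    have h := trdeg_add_eq k Kc (A := F)
    rw [trdeg_eq_zero (R := k) (A := Kc), zero_add] at h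
    rw [h, htr]
  have hK : ∀ c : Kc, (c : F) ∈ A := fun c => hconst c (mem_algebraicClosure_iff.1 c.2)
  obtain ⟨G, hG⟩ := hA
  let AR : Subalgebra Kc F := Algebra.adjoin Kc (G : Set F)
  have heq : ∀ z : F, z ∈ AR ↔ z ∈ A := by
    intro z
    constructor
    · intro hz
      induction hz using Algebra.adjoin_induction with
      | mem g hg => exact hG ▸ Algebra.subset_adjoin hg
      | algebraMap c => exact hK c
      | add a b _ _ ha hb => exact add_mem ha hb
      | mul a b _ _ ha hb => exact mul_mem ha hb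
    · intro hz
      rw [← hG] at hz
      induction hz using Algebra.adjoin_induction with
      | mem g hg => exact Algebra.subset_adjoin hg
      | algebraMap c =>
        rw [IsScalarTower.algebraMap_apply k Kc F]; exact AR.algebraMap_mem _
      | add a b _ _ ha hb => exact add_mem ha hb
      | mul a b _ _ ha hb => exact mul_mem ha hb
  have hfracR : ∀ z : F, ∃ p ∈ AR, ∃ q ∈ AR, q ≠ 0 ∧ z = p / q := fun z => by
    obtain ⟨p, hp, q, hq, hq0, h⟩ := hfrac z
    exact ⟨p, (heq p).2 hp, q, (heq q).2 hq, hq0, h⟩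
  obtain ⟨h, C, hh, hest⟩ := langWeilEst.{u, u} (R := Kc) (K := Kc) r hcl htr' AR ⟨G, rfl⟩ hfracR
  refine ⟨Module.finrank k Kc * C, fun k' _ _ _ => ?_⟩
  haveI : Module.Finite k k' := Module.Finite.of_finite
  haveI : Finite (A →ₐ[k] k') := by
    haveI : Algebra.FiniteType k A := (Subalgebra.fg_iff_finiteType A).1 ⟨G, hG⟩
    obtain ⟨s, hs⟩ := Algebra.FiniteType.out (R := k) (A := A)
    exact Finite.of_injective (fun (φ : A →ₐ[k] k') (a : s) => φ a.1)
      fun φ φ' h => AlgHom.ext_of_adjoin_eq_top hs fun a ha => congrFun h ⟨a, ha⟩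
  let res : (A →ₐ[k] k') → (Kc →ₐ[k] k') := fun φ =>
    φ.comp ((Kc.val).codRestrict A hK)
  refine ⟨fun hdvd => ?_, fun hndvd => ?_⟩
  · have hnum : Nat.card (Kc →ₐ[k] k') = Module.finrank k Kc :=
      FiniteField.natCard_algHom_of_finrank_dvd hdvd
    cases nonempty_fintype (Kc →ₐ[k] k')
    have hfib : ∀ σ : Kc →ₐ[k] k',
        |(Nat.card {φ : A →ₐ[k] k' // res φ = σ} : ℝ) - (Nat.card k' : ℝ) ^ r| * Real.sqrt (Nat.card k') ≤
          C * (Nat.card k' : ℝ) ^ r := by
      intro σ
      letI := σ.toRingHom.toAlgebra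
      have e : Nat.card {φ : A →ₐ[k] k' // res φ = σ} = Nat.card (AR →ₐ[Kc] k') := by
        rw [← card_algHom_fibre A AR heq σ]
        refine Nat.card_congr (Equiv.subtypeEquivRight fun φ => ?_)
        constructor
        · intro h c hc
          exact congrArg (fun g : Kc →ₐ[k] k' => g c) h
        · intro h
          exact AlgHom.ext fun c => h c _
      rw [e]
      exact (hest k' ((map_ne_zero _).2 hh)).2
    haveI : ∀ σ : Kc →ₐ[k] k', Finite {φ : A →ₐ[k] k' // res φ = σ} := fun σ => Subtype.finite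
    rw [← Nat.card_congr (Equiv.sigmaFiberEquiv res), Nat.card_sigma, Nat.cast_sum, ← hnum,
      Nat.card_eq_fintype_card (α := Kc →ₐ[k] k'), ← nsmul_eq_mul, ← Finset.card_univ, ← Finset.sum_const,
      ← Finset.sum_sub_distrib]
    refine (mul_le_mul_of_nonneg_right (Finset.abs_sum_le_sum_abs _ _) (Real.sqrt_nonneg _)).trans ?_
    rw [Finset.sum_mul]
    refine (Finset.sum_le_sum fun σ _ => hfib σ).trans_eq ?_
    rw [Finset.sum_const, Finset.card_univ, ← Nat.card_eq_fintype_card, hnum, nsmul_eq_mul, mul_assoc]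
  · haveI : IsEmpty (A →ₐ[k] k') := ⟨fun φ => hndvd (FiniteField.nonempty_algHom_iff_finrank_dvd.1 ⟨res φ⟩)⟩
    exact Nat.card_of_isEmpty

end Groth.Agent.H27LangWeil
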