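import Groth.Agent.H27LangWeil.PlaneField
import Groth.Agent.H23Geom.Criteria

/-!
# A monic, separable, absolutely irreducible plane model of a regular extension of transcendence degree one
-/

set_option autoImplicit false
universe u

noncomputable section

open Polynomial
open scoped Polynomial.Bivariate IntermediateField

namespace Groth.Agent.H27LangWeil

variable {L : Type u} [Field L] {F : Type u} [Field F] [Algebra L F] {x : F}

/-- Evaluation of `L[X]` in `L(x)`. -/
abbrev evE (x : F) : L[X] →+* L⟮x⟯ :=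
  (aeval (R := L) (⟨x, IntermediateField.mem_adjoin_simple_self L x⟩ : L⟮x⟯)).toRingHom

theorem coe_evE (p : L[X]) : ((evE x p : L⟮x⟯) : F) = aeval x p := by
  change (IntermediateField.val L⟮x⟯) (aeval _ p) = _
  rw [← aeval_algHom_apply]
  rfl

theorem evE_injective (hx : Transcendental L x) : Function.Injective (evE (L := L) x) := by
  rw [injective_iff_map_eq_zero]
  intro p hp
  refine (transcendental_iff.1 hx) p ?_
  rw [← coe_evE, hp]
  rfl

theorem exists_lift_fraction (e : L⟮x⟯) :
    ∃ p q : L[X], q ≠ 0 ∧ evE x q * e = evE x p := by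
  obtain ⟨r, s, h⟩ := (IntermediateField.mem_adjoin_simple_iff L (e : F)).1 e.2
  by_cases hs : aeval x s = 0
  · refine ⟨0, 1, one_ne_zero, ?_⟩
    have : e = 0 := Subtype.ext (by rw [h, hs, div_zero]; rfl)
    simp [this]
  · refine ⟨r, s, fun h0 => hs (by rw [h0, map_zero]), Subtype.ext ?_⟩
    rw [MulMemClass.coe_mul, coe_evE, coe_evE, h, mul_div_cancel₀ _ hs]

theorem exists_lift_poly (m : Polynomial L⟮x⟯) :
    ∃ (q : L[X]) (p : L[X][Y]), q ≠ 0 ∧ p.map (evE x) = Polynomial.C (evE x q) * m := by
  induction m using Polynomial.induction_on' with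
  | add f g hf hg =>
    obtain ⟨q, p, hq, hp⟩ := hf
    obtain ⟨q', p', hq', hp'⟩ := hg
    refine ⟨q * q', C q' * p + C q * p', mul_ne_zero hq hq', ?_⟩
    rw [Polynomial.map_add, Polynomial.map_mul, Polynomial.map_mul, Polynomial.map_C, Polynomial.map_C,
      hp, hp', map_mul, C_mul]
    ring
  | monomial n a =>
    obtain ⟨p, q, hq, hpq⟩ := exists_lift_fraction a
    exact ⟨q, monomial n p, hq, by rw [map_monomial, C_mul_monomial, hpq]⟩

theorem exists_plane_model (hx : Transcendental L x) [FiniteDimensional L⟮x⟯ F]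
    [Algebra.IsSeparable L⟮x⟯ F]
    (hcl : ∀ z : F, IsAlgebraic L z → z ∈ Set.range (algebraMap L F)) :
    ∃ (y : F) (P a b : L[X][Y]) (D : L[X]), P.Monic ∧ D ≠ 0 ∧ a * P + b * derivative P = C D ∧
      (∀ q : L[X][Y], aevalAeval x y q = 0 ↔ P ∣ q) ∧
      (∀ z : F, ∃ p q : L[X][Y], aevalAeval x y q ≠ 0 ∧ z = aevalAeval x y p / aevalAeval x y q) ∧
      (∀ (L' : Type u) [Field L'] [Algebra L L'], FiniteDimensional L L' →
        Irreducible (P.map (mapRingHom (algebraMap L L')))) := by
  classical
  obtain ⟨y₀, hy₀⟩ := Field.exists_primitive_element L⟮x⟯ F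
  have hint₀ : IsIntegral L⟮x⟯ y₀ := IsIntegral.of_finite _ _
  set m := minpoly L⟮x⟯ y₀
  obtain ⟨q, p, hq, hp⟩ := exists_lift_poly m
  set d := m.natDegree
  set ε : L⟮x⟯ := evE x q
  have hε : ε ≠ 0 := (map_ne_zero_iff _ (evE_injective hx)).2 hq
  let y : F := (ε : F) * y₀
  have hmm : m.Monic := minpoly.monic hint₀
  have hd : 0 < d := minpoly.natDegree_pos hint₀
  let P : L[X][Y] := X ^ d + ∑ i ∈ Finset.range d, monomial i (p.coeff i * q ^ (d - i - 1))
  have hsum : (∑ i ∈ Finset.range d, monomial i (p.coeff i * q ^ (d - i - 1)) : L[X][Y]).degree <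
      (d : WithBot ℕ) := by
    refine lt_of_le_of_lt (degree_sum_le _ _) ((Finset.sup_lt_iff (WithBot.bot_lt_coe _)).2 ?_)
    exact fun i hi => (degree_monomial_le _ _).trans_lt (by exact_mod_cast Finset.mem_range.1 hi)
  have hPm : P.Monic := monic_X_pow_add hsum
  have hPd : P.natDegree = d := by
    refine natDegree_eq_of_degree_eq_some ?_
    rw [degree_add_eq_left_of_degree_lt (by rw [degree_X_pow]; exact hsum), degree_X_pow]
  have hmap : P.map (evE x) = scaleRoots m ε := by
    ext i : 1
    rw [coeff_map, coeff_scaleRoots]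
    simp only [P, coeff_add, coeff_X_pow, finsetSum_coeff, coeff_monomial, Finset.sum_ite_eq',
      Finset.mem_range]
    rcases lt_trichotomy i d with h | h | h
    · rw [if_neg h.ne, if_pos h, zero_add, map_mul, map_pow]
      have hc := congrArg (fun r => Polynomial.coeff r i) hp
      simp only [coeff_map, coeff_C_mul] at hc
      have e : d - i = d - i - 1 + 1 := by omega
      rw [hc, show m.natDegree = d from rfl, e, pow_succ, show d - i - 1 + 1 - 1 = d - i - 1 by omega]
      ring
    · subst h
      simp [show m.coeff m.natDegree = 1 from hmm, d]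
    · rw [if_neg h.ne', if_neg (by omega), coeff_eq_zero_of_natDegree_lt h]
      simp
  have hmy : scaleRoots m ε = minpoly L⟮x⟯ y := by
    have hy : aeval y (scaleRoots m ε) = 0 :=
      scaleRoots_aeval_eq_zero (a := y₀) (r := ε) (minpoly.aeval _ _)
    refine minpoly.eq_of_irreducible_of_monic ?_ hy ((monic_scaleRoots_iff ε).2 hmm)
    have hgen' : IsIntegral L⟮x⟯ y := IsIntegral.of_finite _ _
    have hdvd := minpoly.dvd L⟮x⟯ y hy
    have hdeg : d ≤ (minpoly L⟮x⟯ y).natDegree := by
      have h1 := IntermediateField.adjoin.finrank hgen'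
      have h2 : IntermediateField.adjoin L⟮x⟯ ({y} : Set F) = ⊤ := by
        refine eq_top_iff.2 (hy₀ ▸ IntermediateField.adjoin_le_iff.2 (Set.singleton_subset_iff.2 ?_))
        have : y₀ = (ε : F)⁻¹ * y := by
          simp [y, ← mul_assoc, inv_mul_cancel₀ (show (ε : F) ≠ 0 by simpa using hε)]
        rw [this]
        exact mul_mem (inv_mem (IntermediateField.algebraMap_mem _ ε))
          (IntermediateField.mem_adjoin_simple_self _ _)
      rw [← h1, h2, IntermediateField.finrank_top',
        ← (Field.primitive_element_iff_minpoly_natDegree_eq _ y₀).1 hy₀]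
    rw [eq_of_monic_of_dvd_of_natDegree_le (minpoly.monic hgen') ((monic_scaleRoots_iff ε).2 hmm) hdvd
      (by rw [natDegree_scaleRoots]; exact hdeg)]
    exact minpoly.irreducible hgen'
  have hev : ∀ r : L[X][Y], aevalAeval x y r = aeval y (r.map (evE x)) := fun r => by
    rw [aevalAeval_eq_eval₂, aeval_def, eval₂_map]
    congr 1
    refine RingHom.ext fun s => ?_
    exact (coe_evE s).symm
  have hker : ∀ r : L[X][Y], aevalAeval x y r = 0 ↔ P ∣ r := by
    have hP0 : aevalAeval x y P = 0 := by rw [hev, hmap, hmy, minpoly.aeval]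
    intro r
    refine ⟨fun h => ?_, fun ⟨s, hs⟩ => by rw [hs, map_mul, hP0, zero_mul]⟩
    rw [← modByMonic_eq_zero_iff_dvd hPm]
    by_contra hne
    have h1 : aeval y ((r %ₘ P).map (evE x)) = 0 := by
      rw [← hev, modByMonic_eq_sub_mul_div (p := r), map_sub, map_mul, hP0, zero_mul, sub_zero, h]
    have hne' : (r %ₘ P).map (evE x) ≠ 0 := (Polynomial.map_ne_zero_iff (evE_injective hx)).2 hne
    have h2 := minpoly.degree_le_of_ne_zero L⟮x⟯ y hne' h1
    have hP1 : P ≠ 1 := fun h => by rw [h, natDegree_one] at hPd; omega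
    have h3 := degree_modByMonic_lt r hPm
    rw [← hmy, ← hmap, hPm.degree_map, degree_map_eq_of_injective (evE_injective hx)] at h2
    exact absurd h3 (not_lt.2 h2)
  have hgen : ∀ z : F, ∃ r s : L[X][Y], aevalAeval x y s ≠ 0 ∧
      z = aevalAeval x y r / aevalAeval x y s := by
    intro z
    have hz : z ∈ IntermediateField.adjoin L⟮x⟯ ({y₀} : Set F) := by rw [hy₀]; trivial
    rw [← IntermediateField.mem_toSubalgebra,
      IntermediateField.adjoin_simple_toSubalgebra_of_isAlgebraic hint₀.isAlgebraic,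
      Algebra.adjoin_singleton_eq_range_aeval, AlgHom.mem_range] at hz
    obtain ⟨u, hu⟩ := hz
    obtain ⟨s, r, hs, hr⟩ := exists_lift_poly (u.comp (C ε⁻¹ * X))
    have e : aeval y (u.comp (C ε⁻¹ * X)) = z := by
      have ey : algebraMap L⟮x⟯ F ε⁻¹ * y = y₀ := by
        change ((ε⁻¹ : L⟮x⟯) : F) * ((ε : F) * y₀) = y₀
        rw [← mul_assoc, ← MulMemClass.coe_mul, inv_mul_cancel₀ hε, OneMemClass.coe_one, one_mul]
      rw [aeval_comp, map_mul, aeval_C, aeval_X, ey]
      exact hu
    have hne : aevalAeval x y (C s) ≠ 0 := by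
      rw [aevalAeval_C]
      exact fun h => hs ((transcendental_iff.1 hx) s h)
    refine ⟨r, C s, hne, ?_⟩
    rw [eq_div_iff hne, hev r, hr, map_mul, aeval_C, e, aevalAeval_C, mul_comm]
    exact congrArg (· * z) (coe_evE s).symm
  -- separability
  have hsep : (P.map (evE x)).Separable := by
    rw [hmap, hmy]; exact Algebra.IsSeparable.isSeparable L⟮x⟯ y
  obtain ⟨u, v, huv⟩ := hsep
  obtain ⟨qa, pa, hqa, hpa⟩ := exists_lift_poly u
  obtain ⟨qb, pb, hqb, hpb⟩ := exists_lift_poly v
  refine ⟨y, P, C qb * pa, C qa * pb, qa * qb, hPm, mul_ne_zero hqa hqb, ?_, hker, hgen, ?_⟩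
  · refine Polynomial.map_injective (evE x) (evE_injective hx) ?_
    rw [Polynomial.map_add, Polynomial.map_mul, Polynomial.map_mul, Polynomial.map_mul, Polynomial.map_mul,
      Polynomial.map_C, Polynomial.map_C, Polynomial.map_C, hpa, hpb, map_mul, C_mul, ← derivative_map]
    linear_combination (C (evE x qa) * C (evE x qb)) * huv
  · intro L' _ _ hfin
    have hgeo := H23Geom.isGeometric_of_separating hcl hx L' hfin
    let e := Polynomial.Bivariate.equivMvPolynomial L
    have hfun : ∀ r, MvPolynomial.aeval ![x, y] (e r) = aevalAeval x y r := fun r => by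
      have h : (MvPolynomial.aeval ![x, y]).comp e.toAlgHom = aevalAeval x y := by
        refine Polynomial.algHom_ext' ?_ ?_
        · refine Polynomial.algHom_ext ?_
          simp [e]
        · simp [e]
      exact congrFun (congrArg DFunLike.coe h) r
    have hk : RingHom.ker (MvPolynomial.aeval ![x, y] : MvPolynomial (Fin 2) L →ₐ[L] F) =
        Ideal.span {e P} := by
      ext f
      obtain ⟨r, rfl⟩ := e.surjective f
      rw [RingHom.mem_ker, hfun, hker, Ideal.mem_span_singleton]
      exact (map_dvd_iff e).symm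
    have h := H23Proj.irreducible_map_of_isField (f := e P)
      ((map_ne_zero_iff _ e.injective).2 hPm.ne_zero) hk L' hgeo
    rw [equivMvPolynomial_map] at h
    exact (MulEquiv.irreducible_iff (Polynomial.Bivariate.equivMvPolynomial L')).1 h

end Groth.Agent.H27LangWeil
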