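import Groth.Agent.H23Geom.Criteria
import Groth.Agent.H1CAlg.AlgClosureFinite
import Mathlib

/-!
# Geometric components of a field extension are the embeddings of its field of constants
-/

set_option autoImplicit false
set_option synthInstance.maxHeartbeats 200000
set_option maxHeartbeats 800000
universe u

noncomputable section

open TensorProduct

namespace Groth.Agent.H27LangWeil

/-- An algebraic extension of a perfect field that is algebraically closed in `F` stays a field after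
extending scalars to `F`. -/
theorem isField_tensor {L : Type u} [Field L] [PerfectField L] {F : Type u} [Field F] [Algebra L F]
    (hcl : ∀ y : F, IsAlgebraic L y → y ∈ Set.range (algebraMap L F)) (Ω : Type u) [Field Ω] [Algebra L Ω]
    [Algebra.IsAlgebraic L Ω] : IsField (F ⊗[L] Ω) := by
  classical
  haveI : Nontrivial (F ⊗[L] Ω) := Module.FaithfullyFlat.lTensor_nontrivial L F Ω
  refine ⟨exists_pair_ne _, mul_comm, fun {z} hz => ?_⟩
  obtain ⟨S, hS⟩ := TensorProduct.exists_finset z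
  let L' : IntermediateField L Ω := IntermediateField.adjoin L ((S.image Prod.snd : Finset Ω) : Set Ω)
  haveI : FiniteDimensional L L' := IntermediateField.finiteDimensional_adjoin fun x _ =>
    (Algebra.IsAlgebraic.isAlgebraic x).isIntegral
  have hF : IsField (L' ⊗[L] F) :=
    H23Geom.isField_of_powerBasis hcl (Field.powerBasisOfFiniteOfSeparable L L')
  have hF' : IsField (F ⊗[L] L') :=
    MulEquiv.isField hF (Algebra.TensorProduct.comm L F L').toMulEquiv
  let g : F ⊗[L] L' →ₐ[L] F ⊗[L] Ω := Algebra.TensorProduct.map (AlgHom.id L F) L'.val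
  obtain ⟨w, hw⟩ : ∃ w, g w = z := by
    refine ⟨∑ i : S, i.1.1 ⊗ₜ[L] (⟨i.1.2, IntermediateField.subset_adjoin L _
      (Finset.mem_coe.2 (Finset.mem_image_of_mem _ i.2))⟩ : L'), ?_⟩
    rw [map_sum, hS, ← Finset.sum_coe_sort S (fun i => i.1 ⊗ₜ[L] i.2)]
    exact Finset.sum_congr rfl fun i _ => by simp [g]
  obtain ⟨v, hv⟩ := hF'.mul_inv_cancel (a := w) (fun h => hz (by rw [← hw, h, map_zero]))
  exact ⟨g v, by rw [← hw]; exact ((map_mul g w v).symm.trans (congrArg g hv)).trans g.map_one⟩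

section

variable {k : Type u} [Field k] [PerfectField k] {F : Type u} [Field F] [Algebra k F]
  [Algebra.EssFiniteType k F] {Ω : Type u} [Field Ω] [Algebra k Ω] [Algebra.IsAlgebraic k Ω]

/-- The ideal of a geometric component. -/
theorem exists_component (σ : algebraicClosure k F →ₐ[k] Ω) :
    ∃ M : Ideal (F ⊗[k] Ω), M.IsMaximal ∧
      (∀ c : algebraicClosure k F, (c : F) ⊗ₜ[k] (1 : Ω) - (1 : F) ⊗ₜ[k] σ c ∈ M) ∧
      ∀ P : Ideal (F ⊗[k] Ω), P.IsPrime →
        (∀ c : algebraicClosure k F, (c : F) ⊗ₜ[k] (1 : Ω) - (1 : F) ⊗ₜ[k] σ c ∈ P) → M ≤ P := by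
  let Kc := algebraicClosure k F
  haveI : FiniteDimensional k Kc := H1CAlg.finiteDimensional_algebraicClosure k F
  haveI : PerfectField Kc := Algebra.IsAlgebraic.perfectField (K := k)
  letI : Algebra Kc Ω := σ.toRingHom.toAlgebra
  haveI : IsScalarTower k Kc Ω := IsScalarTower.of_algebraMap_eq fun x => (σ.commutes x).symm
  haveI : Algebra.IsAlgebraic Kc Ω := Algebra.IsAlgebraic.tower_top (K := k) Kc
  have hcl : ∀ y : F, IsAlgebraic Kc y → y ∈ Set.range (algebraMap Kc F) := fun y hy =>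
    ⟨⟨y, mem_algebraicClosure_iff.2 (hy.restrictScalars k)⟩, rfl⟩
  have hfield := isField_tensor hcl Ω
  let π : F ⊗[k] Ω →ₐ[k] F ⊗[Kc] Ω := Algebra.TensorProduct.lift
    ((Algebra.TensorProduct.includeLeft : F →ₐ[Kc] F ⊗[Kc] Ω).restrictScalars k)
    ((Algebra.TensorProduct.includeRight : Ω →ₐ[Kc] F ⊗[Kc] Ω).restrictScalars k) fun _ _ => Commute.all _ _
  have hπ : ∀ (a : F) (b : Ω), π (a ⊗ₜ[k] b) = a ⊗ₜ[Kc] b := fun a b => by simp [π]
  have hπs : Function.Surjective π := by
    intro z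
    induction z using TensorProduct.induction_on with
    | zero => exact ⟨0, map_zero _⟩
    | tmul a b => exact ⟨a ⊗ₜ b, hπ a b⟩
    | add a b ha hb =>
      obtain ⟨x, rfl⟩ := ha; obtain ⟨y, rfl⟩ := hb
      exact ⟨x + y, map_add _ _ _⟩
  refine ⟨RingHom.ker π, ?_, fun c => ?_, fun P hP hc => ?_⟩
  · letI := hfield.toField
    exact RingHom.ker_isMaximal_of_surjective π hπs
  · rw [RingHom.mem_ker, map_sub, hπ, hπ, sub_eq_zero,
      show (c : F) = c • (1 : F) from (Algebra.smul_def c (1 : F)).trans (mul_one _) |>.symm,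
      TensorProduct.smul_tmul]
    exact congrArg _ ((Algebra.smul_def c (1 : Ω)).trans (mul_one _))
  · let q : F ⊗[k] Ω →+* (F ⊗[k] Ω) ⧸ P := Ideal.Quotient.mk P
    let qL : F →+* (F ⊗[k] Ω) ⧸ P := q.comp (Algebra.TensorProduct.includeLeft : F →ₐ[k] F ⊗[k] Ω).toRingHom
    let qR : Ω →+* (F ⊗[k] Ω) ⧸ P := q.comp (Algebra.TensorProduct.includeRight : Ω →ₐ[k] F ⊗[k] Ω).toRingHom
    have hR : ∀ c : Kc, qR (σ c) = qL (c : F) := fun c =>
      (Ideal.Quotient.eq.2 (hc c)).symm
    let aL : F →ₐ[Kc] (F ⊗[k] Ω) ⧸ P := { qL with commutes' := fun c => rfl }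
    let aR : Ω →ₐ[Kc] (F ⊗[k] Ω) ⧸ P := { qR with commutes' := fun c => hR c }
    let ρ : F ⊗[Kc] Ω →ₐ[Kc] (F ⊗[k] Ω) ⧸ P :=
      Algebra.TensorProduct.lift aL aR fun _ _ => Commute.all _ _
    intro z hz
    rw [← Ideal.Quotient.eq_zero_iff_mem]
    have h : ∀ w, ρ (π w) = q w := by
      intro w
      induction w using TensorProduct.induction_on with
      | zero => simp
      | tmul a b =>
        rw [hπ, show ρ (a ⊗ₜ[Kc] b) = aL a * aR b from Algebra.TensorProduct.lift_tmul _ _ _ a b]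
        change q (a ⊗ₜ[k] (1 : Ω)) * q ((1 : F) ⊗ₜ[k] b) = _
        rw [← map_mul, Algebra.TensorProduct.tmul_mul_tmul, mul_one, one_mul]
      | add a b ha hb => rw [map_add, map_add, map_add, ha, hb]
    change q z = 0
    rw [← h, RingHom.mem_ker.1 hz, map_zero]

/-- Every prime of `F ⊗ Ω` determines an embedding of the field of constants. -/
theorem exists_embedding [IsAlgClosed Ω] (P : Ideal (F ⊗[k] Ω)) (hP : P.IsPrime) :
    ∃ σ : algebraicClosure k F →ₐ[k] Ω,
      ∀ c : algebraicClosure k F, (c : F) ⊗ₜ[k] (1 : Ω) - (1 : F) ⊗ₜ[k] σ c ∈ P := by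
  classical
  let q : F ⊗[k] Ω →ₐ[k] (F ⊗[k] Ω) ⧸ P := Ideal.Quotient.mkₐ k P
  let qR : Ω →ₐ[k] (F ⊗[k] Ω) ⧸ P := q.comp Algebra.TensorProduct.includeRight
  let qL : algebraicClosure k F →ₐ[k] (F ⊗[k] Ω) ⧸ P :=
    (q.comp Algebra.TensorProduct.includeLeft).comp (algebraicClosure k F).val
  have hinj : Function.Injective qR := qR.toRingHom.injective
  have hmem : ∀ c : algebraicClosure k F, ∃ r : Ω, qR r = qL c := by
    intro c
    haveI : FiniteDimensional k (algebraicClosure k F) := H1CAlg.finiteDimensional_algebraicClosure k F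
    obtain ⟨p, hp, hpc⟩ : IsAlgebraic k c := (Algebra.IsAlgebraic.of_finite k _).isAlgebraic c
    have h0 : Polynomial.aeval (qL c) p = 0 := by rw [Polynomial.aeval_algHom_apply, hpc, map_zero]
    have hsplit : (p.map (algebraMap k Ω)).Splits := IsAlgClosed.splits _
    have hne : p.map (algebraMap k Ω) ≠ 0 := (Polynomial.map_ne_zero_iff (algebraMap k Ω).injective).2 hp
    have heval : Polynomial.eval₂ qR.toRingHom (qL c) (p.map (algebraMap k Ω)) = 0 := by
      rw [Polynomial.eval₂_map, show qR.toRingHom.comp (algebraMap k Ω) = algebraMap k _ from qR.comp_algebraMap,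
        ← Polynomial.aeval_def]
      exact h0
    rw [hsplit.eq_prod_roots, Polynomial.eval₂_mul, Polynomial.eval₂_C] at heval
    rcases mul_eq_zero.1 heval with h | h
    · exact absurd ((map_eq_zero_iff qR.toRingHom hinj).1 h) (Polynomial.leadingCoeff_ne_zero.2 hne)
    · rw [Polynomial.eval₂_multiset_prod, Multiset.prod_eq_zero_iff, Multiset.mem_map] at h
      obtain ⟨f, hf, hf0⟩ := h
      obtain ⟨r, -, rfl⟩ := Multiset.mem_map.1 hf
      rw [Polynomial.eval₂_sub, Polynomial.eval₂_X, Polynomial.eval₂_C, sub_eq_zero] at hf0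
      exact ⟨r, hf0.symm⟩
  choose g hg using hmem
  let σ : algebraicClosure k F →ₐ[k] Ω :=
    { toFun := g
      map_one' := hinj (by rw [hg, map_one, map_one])
      map_zero' := hinj (by rw [hg, map_zero, map_zero])
      map_mul' := fun a b => hinj (by
        show qR (g (a * b)) = qR (g a * g b)
        rw [map_mul, hg, hg, hg, map_mul])
      map_add' := fun a b => hinj (by
        show qR (g (a + b)) = qR (g a + g b)
        rw [map_add, hg, hg, hg, map_add])
      commutes' := fun a => hinj (by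
        show qR (g (algebraMap k _ a)) = qR (algebraMap k Ω a)
        rw [hg, AlgHom.commutes, AlgHom.commutes]) }
  exact ⟨σ, fun c => Ideal.Quotient.eq.1 (hg c).symm⟩

theorem card_primeSpectrum_tensor [IsAlgClosed Ω] :
    Finite (PrimeSpectrum (F ⊗[k] Ω)) ∧
      (∀ P : PrimeSpectrum (F ⊗[k] Ω), P.asIdeal.IsMaximal) ∧
      Nat.card (PrimeSpectrum (F ⊗[k] Ω)) = Module.finrank k (algebraicClosure k F) := by
  classical
  haveI : FiniteDimensional k (algebraicClosure k F) := H1CAlg.finiteDimensional_algebraicClosure k F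
  choose M hMmax hMmem hMle using fun σ : algebraicClosure k F →ₐ[k] Ω => exists_component σ
  let Φ : (algebraicClosure k F →ₐ[k] Ω) → PrimeSpectrum (F ⊗[k] Ω) := fun σ => ⟨M σ, (hMmax σ).isPrime⟩
  have hinj : Function.Injective Φ := by
    intro σ σ' h
    have h' : M σ = M σ' := congrArg PrimeSpectrum.asIdeal h
    refine AlgHom.ext fun c => ?_
    by_contra hne
    have h2 : (1 : F) ⊗ₜ[k] (σ c - σ' c) ∈ M σ := by
      have h3 := Ideal.sub_mem _ (h' ▸ hMmem σ' c) (hMmem σ c)
      rw [sub_sub_sub_cancel_left, ← TensorProduct.tmul_sub] at h3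
      exact h3
    have hu : IsUnit ((1 : F) ⊗ₜ[k] (σ c - σ' c)) :=
      (IsUnit.mk0 _ (sub_ne_zero.2 hne)).map (Algebra.TensorProduct.includeRight : Ω →ₐ[k] F ⊗[k] Ω)
    exact (hMmax σ).ne_top (Ideal.eq_top_of_isUnit_mem _ h2 hu)
  have hsurj : Function.Surjective Φ := fun P => by
    obtain ⟨σ, hσ⟩ := exists_embedding P.asIdeal P.2
    exact ⟨σ, PrimeSpectrum.ext ((hMmax σ).eq_of_le P.2.ne_top (hMle σ _ P.2 hσ))⟩
  haveI : Finite (algebraicClosure k F →ₐ[k] Ω) := inferInstance
  refine ⟨Finite.of_surjective Φ hsurj, fun P => ?_, ?_⟩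
  · obtain ⟨σ, rfl⟩ := hsurj P
    exact hMmax σ
  · rw [← Nat.card_eq_of_bijective Φ ⟨hinj, hsurj⟩, Nat.card_eq_fintype_card]
    exact AlgHom.card k (algebraicClosure k F) Ω

end

end Groth.Agent.H27LangWeil
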