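import Groth.Agent.H27LangWeil.Main
import Groth.Agent.H1CAlg.AlgClosureFinite
import Mathlib

/-!
# Closed points of a variety over a finite field
-/

set_option autoImplicit false
set_option synthInstance.maxHeartbeats 200000
set_option maxHeartbeats 800000
universe u

noncomputable section

open Filter Topology

namespace Groth.Agent.H27LangWeil

theorem card_ringHom_le (p : ℕ) [Fact p.Prime] {A : Type u} [CommRing A] {k' : Type} [Field k'] [Finite k']
    [CharP k' p] {H : Type*} [Fintype H] [DecidableEq (Ideal A)] (res : H → (A →+* k')) (hres : Function.Injective res) :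
    Fintype.card H ≤ (Finset.univ.image fun h => RingHom.ker (res h)).card *
      Nat.log p (Nat.card k') := by
  classical
  letI := ZMod.algebra k' p
  haveI : Module.Finite (ZMod p) k' := Module.Finite.of_finite
  have hQ : Nat.log p (Nat.card k') = Module.finrank (ZMod p) k' := by
    rw [Module.natCard_eq_pow_finrank (K := ZMod p) (V := k'), Nat.card_zmod,
      Nat.log_pow (Fact.out : p.Prime).one_lt]
  rw [hQ, ← Finset.card_univ]
  refine (Finset.card_le_mul_card_image (s := Finset.univ) (f := fun h => RingHom.ker (res h))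
    (Module.finrank (ZMod p) k') ?_).trans_eq (mul_comm _ _)
  intro x hx
  obtain ⟨h₀, -, rfl⟩ := Finset.mem_image.1 hx
  let L := A ⧸ RingHom.ker (res h₀)
  haveI : Finite L := Finite.of_injective _ (RingHom.kerLift_injective (res h₀))
  haveI : IsDomain L := (RingHom.kerLift_injective (res h₀)).isDomain
  haveI hLp : CharP L p := RingHom.charP (RingHom.kerLift (res h₀)) (RingHom.kerLift_injective _) p
  letI := ZMod.algebra L p
  haveI : Module.Finite (ZMod p) L := Module.Finite.of_finite
  let T := Finset.univ.filter fun h => RingHom.ker (res h) = RingHom.ker (res h₀)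
  let lift' : T → (L →+* k') := fun h =>
    Ideal.Quotient.lift (RingHom.ker (res h₀)) (res h.1) (fun a ha => by
        have h2 := (Finset.mem_filter.1 h.2).2
        rw [← h2] at ha
        exact ha)
  let g : T → (L →ₐ[ZMod p] k') := fun h =>
    { lift' h with
      commutes' := fun z => RingHom.congr_fun (RingHom.ext_zmod ((lift' h).comp (algebraMap (ZMod p) L))
        (algebraMap (ZMod p) k')) z }
  have hg : Function.Injective g := fun a b h => Subtype.ext (hres (RingHom.ext fun w => by
    have := congrArg (fun f : L →ₐ[ZMod p] k' => f (Ideal.Quotient.mk _ w)) h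
    exact this))
  haveI : Finite (L →ₐ[ZMod p] k') := Finite.of_injective _ DFunLike.coe_injective
  cases nonempty_fintype (L →ₐ[ZMod p] k')
  have h1 := Fintype.card_le_of_injective g hg
  rw [Fintype.card_coe] at h1
  rw [← Nat.card_eq_fintype_card] at h1
  refine h1.trans ((card_algHom_le_finrank (ZMod p) L k').trans ?_)
  exact LinearMap.finrank_le_finrank_of_injective
    (f := ((g ⟨h₀, Finset.mem_filter.2 ⟨Finset.mem_univ _, rfl⟩⟩).toLinearMap))
    (RingHom.kerLift_injective (res h₀))

theorem est_lower {r Q N : ℕ} {C : ℝ} (h : Est r C N Q) (hQ : 2 * C ≤ Real.sqrt Q) (hQ1 : 1 ≤ Q) :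
    (Q : ℝ) ^ r / 2 ≤ N := by
  unfold Est at h
  set s := Real.sqrt (Q : ℝ)
  have hs : 0 < s := Real.sqrt_pos.2 (Nat.cast_pos.2 hQ1)
  have h1 : ((Q : ℝ) ^ r - N) * s ≤ C * (Q : ℝ) ^ r :=
    (mul_le_mul_of_nonneg_right ((neg_sub (N : ℝ) _).symm.le.trans (neg_le_abs _)) hs.le).trans h
  have h2 : C * (Q : ℝ) ^ r ≤ (Q : ℝ) ^ r / 2 * s := by
    have hp : (0 : ℝ) ≤ (Q : ℝ) ^ r := by positivity
    nlinarith
  have h3 := le_of_mul_le_mul_right (h1.trans h2) hs
  linarith

theorem trdeg_fractionRing {k : Type u} [Field k] {A : Type u} [CommRing A] [IsDomain A] [Algebra k A] :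
    Algebra.trdeg k (FractionRing A) = Algebra.trdeg k A := by
  haveI : FaithfulSMul k A := (faithfulSMul_iff_algebraMap_injective k A).2 (algebraMap k A).injective
  haveI : Algebra.IsAlgebraic A (FractionRing A) := IsLocalization.isAlgebraic (FractionRing A) (nonZeroDivisors A)
  have h := trdeg_add_eq k A (A := FractionRing A)
  rwa [trdeg_eq_zero (R := A) (A := FractionRing A), add_zero, eq_comm] at h

theorem exists_dim_eq_trdeg {k : Type u} [Field k] (A : Type u) [CommRing A] [IsDomain A] [Algebra k A]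
    [Algebra.FiniteType k A] {r : ℕ} (hr : ringKrullDim A = r) :
    Algebra.trdeg k (FractionRing A) = (r : ℕ) := by
  obtain ⟨s, hs, ht⟩ := H8Props.FieldDim.exists_dim_trdeg k A
  rw [hr] at hs
  have : r = s := by exact_mod_cast hs
  rw [trdeg_fractionRing, ht, this]

theorem isMaximal_ker_of_finite {A : Type u} [CommRing A] {k' : Type*} [Field k'] [Finite k']
    (φ : A →+* k') : (RingHom.ker φ).IsMaximal := by
  haveI : Finite (A ⧸ RingHom.ker φ) := Finite.of_injective _ (RingHom.kerLift_injective φ)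
  haveI : IsDomain (A ⧸ RingHom.ker φ) := (RingHom.kerLift_injective φ).isDomain
  exact Ideal.Quotient.maximal_of_isField _ (Finite.isField_of_domain _)

/-- **Closed points of a variety over a finite field**: the Dirichlet series diverges left of the dimension. -/
theorem not_summable_of_finite {k : Type u} [Field k] [Finite k] (A : Type u) [CommRing A] [IsDomain A]
    [Algebra k A] [Algebra.FiniteType k A] {r : ℕ} (hr : ringKrullDim A = r) {s : ℝ} (hs0 : 0 ≤ s)
    (hs : s < r) :
    ¬ Summable fun x : MaximalSpectrum A => (Nat.card (A ⧸ x.asIdeal) : ℝ) ^ (-s) := by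
  classical
  intro hsum
  set T := ∑' x : MaximalSpectrum A, (Nat.card (A ⧸ x.asIdeal) : ℝ) ^ (-s)
  set F := FractionRing A
  haveI : Algebra.EssFiniteType A F := Algebra.EssFiniteType.of_isLocalization F (nonZeroDivisors A)
  haveI : Algebra.EssFiniteType k F := Algebra.EssFiniteType.comp k A F
  haveI : FiniteDimensional k (algebraicClosure k F) := H1CAlg.finiteDimensional_algebraicClosure k F
  set Kc := algebraicClosure k F
  haveI : Finite Kc := Module.finite_of_finite k
  haveI : Algebra.EssFiniteType Kc F := Algebra.EssFiniteType.of_comp k Kc F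
  have hcl : ∀ z : F, IsAlgebraic Kc z → z ∈ Set.range (algebraMap Kc F) := fun z hz =>
    ⟨⟨z, mem_algebraicClosure_iff.2 (hz.restrictScalars k)⟩, rfl⟩
  have htr : Algebra.trdeg Kc F = (r : ℕ) := by
    haveI : FaithfulSMul k Kc := (faithfulSMul_iff_algebraMap_injective k Kc).2 (algebraMap k Kc).injective
    have h := trdeg_add_eq k Kc (A := F)
    rw [trdeg_eq_zero (R := k) (A := Kc), zero_add] at h
    rw [h]; exact exists_dim_eq_trdeg A hr
  obtain ⟨G, hG⟩ := Algebra.FiniteType.out (R := k) (A := A)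
  let AR : Subalgebra Kc F := Algebra.adjoin Kc ((G.image (algebraMap A F) : Finset F) : Set F)
  have hAmem : ∀ w : A, algebraMap A F w ∈ AR := by
    intro w
    have hw : w ∈ Algebra.adjoin k (G : Set A) := by rw [hG]; trivial
    induction hw using Algebra.adjoin_induction with
    | mem g hg => exact Algebra.subset_adjoin (Finset.mem_coe.2 (Finset.mem_image_of_mem _ hg))
    | algebraMap c =>
      rw [← IsScalarTower.algebraMap_apply k A F, IsScalarTower.algebraMap_apply k Kc F]
      exact AR.algebraMap_mem _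
    | add a b _ _ ha hb => rw [map_add]; exact add_mem ha hb
    | mul a b _ _ ha hb => rw [map_mul]; exact mul_mem ha hb
  have hfrac : ∀ z : F, ∃ p ∈ AR, ∃ q ∈ AR, q ≠ 0 ∧ z = p / q := fun z => by
    obtain ⟨p, q, hq, rfl⟩ := IsFractionRing.div_surjective A z
    exact ⟨_, hAmem p, _, hAmem q, IsFractionRing.to_map_ne_zero_of_mem_nonZeroDivisors hq, rfl⟩
  obtain ⟨h, C, hh, hest⟩ := langWeilEst.{u, 0} (R := Kc) (K := Kc) r hcl htr AR ⟨_, rfl⟩ hfrac
  obtain ⟨p, hp⟩ := CharP.exists Kc
  haveI : Fact p.Prime := ⟨CharP.char_is_prime Kc p⟩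
  have hp1 : (1 : ℝ) < p := Nat.one_lt_cast.2 (Fact.out : p.Prime).one_lt
  set δ := (r : ℝ) - s
  -- the estimate for each degree
  have key : ∀ e : ℕ, e ≠ 0 → ∃ f : ℕ, e ≤ f ∧
      (2 * C ≤ Real.sqrt ((p : ℝ) ^ f) → ((p : ℝ) ^ f) ^ δ ≤ 2 * T * f) := by
    intro e he
    haveI : NeZero e := ⟨he⟩
    let k' := FiniteField.Extension Kc p e
    haveI : CharP k' p := charP_of_injective_ringHom (algebraMap Kc k').injective p
    letI := ZMod.algebra k' p
    letI := ZMod.algebra Kc p
    haveI : Module.Finite (ZMod p) k' := Module.Finite.of_finite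
    haveI : Module.Finite (ZMod p) Kc := Module.Finite.of_finite
    refine ⟨Module.finrank (ZMod p) k', ?_, fun hbig => ?_⟩
    · haveI : IsScalarTower (ZMod p) Kc k' := IsScalarTower.of_algebraMap_eq' (RingHom.ext_zmod _ _)
      rw [← Module.finrank_mul_finrank (ZMod p) Kc k',
        show Module.finrank Kc k' = e from FiniteField.finrank_extension Kc p e]
      exact Nat.le_mul_of_pos_left e Module.finrank_pos
    set f := Module.finrank (ZMod p) k'
    have hQ : Nat.card k' = p ^ f := by
      rw [Module.natCard_eq_pow_finrank (K := ZMod p) (V := k'), Nat.card_zmod]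
    obtain ⟨hfin, hN⟩ := hest k' ((map_ne_zero _).2 hh)
    cases nonempty_fintype (AR →ₐ[Kc] k')
    rw [Nat.card_eq_fintype_card, hQ] at hN
    have hlow := est_lower hN (by push_cast; exact hbig) (Nat.one_le_pow _ _ (Fact.out : p.Prime).pos)
    let toAR : A →+* AR := (algebraMap A F).codRestrict AR hAmem
    let res : (AR →ₐ[Kc] k') → (A →+* k') := fun φ => φ.toRingHom.comp toAR
    have hres : Function.Injective res := fun φ φ' hφ => by
      refine AlgHom.ext fun ⟨z, hz⟩ => ?_
      induction hz using Algebra.adjoin_induction with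
      | mem z hz =>
        obtain ⟨g, -, rfl⟩ := Finset.mem_image.1 hz
        exact RingHom.congr_fun hφ g
      | algebraMap c => exact (φ.commutes c).trans (φ'.commutes c).symm
      | add a b ha hb h1 h2 =>
        exact (map_add φ ⟨a, ha⟩ ⟨b, hb⟩).trans ((congrArg₂ (· + ·) h1 h2).trans (map_add φ' ⟨a, ha⟩ ⟨b, hb⟩).symm)
      | mul a b ha hb h1 h2 =>
        exact (map_mul φ ⟨a, ha⟩ ⟨b, hb⟩).trans ((congrArg₂ (· * ·) h1 h2).trans (map_mul φ' ⟨a, ha⟩ ⟨b, hb⟩).symm)
    have hcount := card_ringHom_le p res hres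
    rw [hQ, Nat.log_pow (Fact.out : p.Prime).one_lt] at hcount
    set img := Finset.univ.image fun φ => RingHom.ker (res φ)
    let toMax : img → MaximalSpectrum A := fun x => ⟨x.1, by
      obtain ⟨φ, -, hφ⟩ := Finset.mem_image.1 x.2
      rw [← hφ]; exact isMaximal_ker_of_finite _⟩
    have hinj : Function.Injective toMax := fun x y hxy => Subtype.ext (congrArg MaximalSpectrum.asIdeal hxy)
    have hterm : ∀ x : img, ((p : ℝ) ^ f) ^ (-s) ≤ (Nat.card (A ⧸ (toMax x).asIdeal) : ℝ) ^ (-s) := by
      intro x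
      obtain ⟨φ, -, hφ⟩ := Finset.mem_image.1 x.2
      change _ ≤ (Nat.card (A ⧸ x.1) : ℝ) ^ (-s)
      rw [← hφ]
      haveI : Finite (A ⧸ RingHom.ker (res φ)) := Finite.of_injective _ (RingHom.kerLift_injective (res φ))
      refine Real.rpow_le_rpow_of_nonpos (Nat.cast_pos.2 Nat.card_pos) ?_ (by linarith)
      have h1 := Nat.card_le_card_of_injective _ (RingHom.kerLift_injective (res φ))
      rw [hQ] at h1
      exact_mod_cast h1
    have h1 : (img.card : ℝ) * ((p : ℝ) ^ f) ^ (-s) ≤ T := by
      refine le_trans ?_ (((hsum.comp_injective hinj).sum_le_tsum Finset.univ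
        fun _ _ => Real.rpow_nonneg (Nat.cast_nonneg _) _).trans
          (Summable.tsum_le_tsum_of_inj toMax hinj (fun _ _ => Real.rpow_nonneg (Nat.cast_nonneg _) _)
            (fun _ => le_rfl) (hsum.comp_injective hinj) hsum))
      refine le_trans (le_of_eq ?_) (Finset.sum_le_sum fun x _ => hterm x)
      rw [Finset.sum_const, Finset.card_univ, Fintype.card_coe, nsmul_eq_mul]
    have h2 : ((Fintype.card (AR →ₐ[Kc] k') : ℕ) : ℝ) ≤ (img.card : ℝ) * f := by exact_mod_cast hcount
    push_cast at hlow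
    set Q : ℝ := (p : ℝ) ^ f
    have hQ0 : 0 < Q := pow_pos (by linarith) f
    calc Q ^ δ = 2 * (Q ^ r / 2) * Q ^ (-s) := by
          rw [show δ = (r : ℝ) + (-s) by ring, Real.rpow_add hQ0, Real.rpow_natCast]; ring
      _ ≤ 2 * ((img.card : ℝ) * f) * Q ^ (-s) := by gcongr; exact hlow.trans h2
      _ = 2 * ((img.card : ℝ) * Q ^ (-s)) * f := by ring
      _ ≤ 2 * T * f := by gcongr
  -- asymptotics
  have hc : (p : ℝ) ^ (-δ) < 1 := Real.rpow_lt_one_of_one_lt_of_neg hp1 (by simp only [δ]; linarith)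
  have hlim : Tendsto (fun n : ℕ => 2 * T * ((n : ℝ) * ((p : ℝ) ^ (-δ)) ^ n)) atTop (𝓝 0) := by
    simpa using (tendsto_self_mul_const_pow_of_lt_one (by positivity) hc).const_mul (2 * T)
  obtain ⟨e₁, he₁⟩ := eventually_atTop.1 (hlim.eventually_lt_const (show (0 : ℝ) < 1 from one_pos))
  obtain ⟨e₂, he₂⟩ := eventually_atTop.1
    ((Real.tendsto_sqrt_atTop.comp (tendsto_pow_atTop_atTop_of_one_lt hp1)).eventually_ge_atTop (2 * C))
  obtain ⟨f, hf, hkey⟩ := key (e₁ + e₂ + 1) (by omega)
  have h1 := hkey (he₂ f (by omega))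
  have h2 := he₁ f (by omega)
  have hpos : (0 : ℝ) < ((p : ℝ) ^ f) ^ δ := Real.rpow_pos_of_pos (pow_pos (by linarith) f) δ
  have h3 : ((p : ℝ) ^ (-δ)) ^ f = (((p : ℝ) ^ f) ^ δ)⁻¹ := by
    rw [← Real.rpow_natCast (p : ℝ) f, ← Real.rpow_mul (by linarith), ← Real.rpow_neg (by linarith),
      ← Real.rpow_natCast _ f, ← Real.rpow_mul (by linarith)]
    congr 1; ring
  rw [h3, ← mul_assoc, mul_inv_lt_iff₀ hpos, one_mul] at h2
  linarith

end Groth.Agent.H27LangWeil
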