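import Groth.Agent.H27Zeta.EulerCycles
import Mathlib

/-!
# The Dirichlet series of the primes of a number field diverges left of one
-/

set_option autoImplicit false
universe u

noncomputable section

open NumberField IsDedekindDomain Filter Topology
open scoped nonZeroDivisors

namespace Groth.Agent.H27LangWeil

theorem two_le_absNorm {K : Type u} [Field K] [NumberField K] (P : HeightOneSpectrum (𝓞 K)) :
    2 ≤ Ideal.absNorm P.asIdeal := by
  have h0 : Ideal.absNorm P.asIdeal ≠ 0 := by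
    rw [Ne, Ideal.absNorm_eq_zero_iff]; exact P.ne_bot
  have h1 : Ideal.absNorm P.asIdeal ≠ 1 := by
    rw [Ne, Ideal.absNorm_eq_one_iff]; exact P.isPrime.ne_top
  omega

theorem finite_absNorm_eq {K : Type u} [Field K] [NumberField K] (n : ℕ) :
    {P : HeightOneSpectrum (𝓞 K) | Ideal.absNorm P.asIdeal = n}.Finite := by
  refine Set.Finite.of_finite_image (f := HeightOneSpectrum.asIdeal) ?_
    (fun P _ P' _ h => HeightOneSpectrum.ext h)
  refine (Ideal.finite_setOfPred_absNorm_eq n).subset ?_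
  rintro _ ⟨P, hP, rfl⟩
  exact hP

theorem not_summable_primes (K : Type u) [Field K] [NumberField K] {σ : ℝ} (hσ0 : 0 < σ) (hσ : σ < 1) :
    ¬ Summable fun P : HeightOneSpectrum (𝓞 K) => (Ideal.absNorm P.asIdeal : ℝ) ^ (-σ) := by
  classical
  intro hsum
  let N : HeightOneSpectrum (𝓞 K) → ℕ := fun P => Ideal.absNorm P.asIdeal
  let a : ℕ → ℕ := fun n => Nat.card {α : HeightOneSpectrum (𝓞 K) →₀ ℕ // H27Zeta.cycNorm N α = n}
  have hL := (H27Zeta.lseries_cycles (N := N) two_le_absNorm finite_absNorm_eq a (fun _ => rfl) (σ : ℂ)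
    (by simpa using hσ0) (by simpa using hsum)).1
  have hterm : Summable fun n => ‖LSeries.term (fun n => (a n : ℂ)) (σ : ℂ) n‖ := hL.norm
  set T := ∑' n, ‖LSeries.term (fun n => (a n : ℂ)) (σ : ℂ) n‖
  haveI : ∀ n, Finite {α : HeightOneSpectrum (𝓞 K) →₀ ℕ // H27Zeta.cycNorm N α = n} := fun n =>
    (H27Zeta.finite_cycNorm_fibre (N := N) two_le_absNorm finite_absNorm_eq n).to_subtype
  let prodI : (HeightOneSpectrum (𝓞 K) →₀ ℕ) → Ideal (𝓞 K) := fun α => α.prod fun P m => P.asIdeal ^ m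
  have hnorm : ∀ α, Ideal.absNorm (prodI α) = H27Zeta.cycNorm N α := fun α => by
    simp only [prodI, H27Zeta.cycNorm, Finsupp.prod, map_prod, map_pow, N]
  have hsurj : ∀ I : Ideal (𝓞 K), I ≠ 0 → ∃ α, prodI α = I := by
    intro I
    induction I using UniqueFactorizationMonoid.induction_on_prime with
    | h₁ => exact fun h => absurd rfl h
    | h₂ J hJ => exact fun _ => ⟨0, by simpa [prodI] using (isUnit_iff_eq_one.1 hJ).symm⟩
    | h₃ J p hJ hp ih =>
      intro _
      obtain ⟨α, rfl⟩ := ih hJ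
      refine ⟨Finsupp.single ⟨p, Ideal.isPrime_of_prime hp, hp.ne_zero⟩ 1 + α, ?_⟩
      simp only [prodI]
      refine (Finsupp.prod_add_index' (fun _ => pow_zero _) (fun _ _ _ => pow_add _ _ _)).trans ?_
      refine congrArg (· * _) ?_
      exact (Finsupp.prod_single_index
        (h := fun (P : HeightOneSpectrum (𝓞 K)) (m : ℕ) => P.asIdeal ^ m) (pow_zero _)).trans (pow_one p)
  have hle : ∀ s : ℝ, 1 ≤ s →
      (Nat.card {I : (Ideal (𝓞 K))⁰ // (Ideal.absNorm (I : Ideal (𝓞 K)) : ℝ) ≤ s} : ℝ) ≤ s ^ σ * T := by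
    intro s hs
    choose α hα using fun I : (Ideal (𝓞 K))⁰ => hsurj I (nonZeroDivisors.coe_ne_zero I)
    let D := Finset.Icc 1 ⌊s⌋₊
    let g : {I : (Ideal (𝓞 K))⁰ // (Ideal.absNorm (I : Ideal (𝓞 K)) : ℝ) ≤ s} →
        Σ n : D, {α : HeightOneSpectrum (𝓞 K) →₀ ℕ // H27Zeta.cycNorm N α = (n : ℕ)} := fun I =>
      ⟨⟨H27Zeta.cycNorm N (α I.1), by
        rw [← hnorm, hα, Finset.mem_Icc]
        exact ⟨Nat.one_le_iff_ne_zero.2 (by
          rw [Ne, Ideal.absNorm_eq_zero_iff]; exact nonZeroDivisors.coe_ne_zero I.1),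
          Nat.le_floor I.2⟩⟩, α I.1, rfl⟩
    have hg : Function.Injective g := fun I I' h => by
      have : α I.1 = α I'.1 := congrArg (fun w : Σ n : D,
        {α : HeightOneSpectrum (𝓞 K) →₀ ℕ // H27Zeta.cycNorm N α = (n : ℕ)} => w.2.1) h
      exact Subtype.ext (Subtype.ext (by rw [← hα I.1, ← hα I'.1, this]))
    have h1 := (Nat.card_le_card_of_injective g hg).trans_eq Nat.card_sigma
    refine (Nat.cast_le.2 h1).trans ?_
    rw [Nat.cast_sum]
    refine le_trans (le_of_eq ?_) ((Finset.sum_le_sum (s := D) (f := fun n => (a n : ℝ))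
      (g := fun n => s ^ σ * ‖LSeries.term (fun n => (a n : ℂ)) (σ : ℂ) n‖) fun n hn => ?_).trans ?_)
    · rw [Finset.univ_eq_attach]
      exact Finset.sum_attach D fun n => (a n : ℝ)
    · rw [Finset.mem_Icc] at hn
      rw [LSeries.norm_term_eq, if_neg (by omega), Complex.norm_natCast, Complex.ofReal_re]
      have hn0 : (0 : ℝ) < n := Nat.cast_pos.2 (by omega)
      have hns : (n : ℝ) ≤ s := (Nat.cast_le.2 hn.2).trans (Nat.floor_le (by linarith))
      rw [mul_div_assoc', le_div_iff₀ (Real.rpow_pos_of_pos hn0 σ), mul_comm]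
      exact mul_le_mul_of_nonneg_right (Real.rpow_le_rpow hn0.le hns hσ0.le) (Nat.cast_nonneg _)
    · rw [← Finset.mul_sum]
      exact mul_le_mul_of_nonneg_left (hterm.sum_le_tsum D fun _ _ => norm_nonneg _) (by positivity)
  have hlim := NumberField.Ideal.tendsto_norm_le_div_atTop₀ K
  have hzero : Tendsto (fun s : ℝ =>
      (Nat.card {I : (Ideal (𝓞 K))⁰ // (Ideal.absNorm (I : Ideal (𝓞 K)) : ℝ) ≤ s} : ℝ) / s) atTop (𝓝 0) := by
    have h0 : Tendsto (fun s : ℝ => T * s ^ (σ - 1)) atTop (𝓝 0) := by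
      have := (tendsto_rpow_neg_atTop (by linarith : 0 < 1 - σ)).const_mul T
      simpa [neg_sub] using this
    refine tendsto_of_tendsto_of_tendsto_of_le_of_le' tendsto_const_nhds h0 ?_ ?_
    · filter_upwards [eventually_gt_atTop 0] with s hs
      positivity
    · filter_upwards [eventually_ge_atTop 1] with s hs
      rw [div_le_iff₀ (by linarith), mul_assoc, ← Real.rpow_add_one (by linarith : s ≠ 0), sub_add_cancel,
        mul_comm]
      exact hle s hs
  have h := tendsto_nhds_unique hlim hzero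
  have h1 : (0 : ℝ) < (2 ^ InfinitePlace.nrRealPlaces K * (2 * Real.pi) ^ InfinitePlace.nrComplexPlaces K *
      Units.regulator K * classNumber K) / (Units.torsionOrder K * Real.sqrt |(discr K : ℝ)|) := by
    have := Units.regulator_pos K
    have : (0 : ℝ) < classNumber K := by
      exact_mod_cast Fintype.card_pos
    have : (0 : ℝ) < Units.torsionOrder K := by
      exact_mod_cast Nat.pos_of_ne_zero (Units.torsionOrder_ne_zero K)
    have : (0 : ℝ) < Real.sqrt |(discr K : ℝ)| :=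
      Real.sqrt_pos.2 (abs_pos.2 (by exact_mod_cast discr_ne_zero K))
    positivity
  exact h1.ne' h

end Groth.Agent.H27LangWeil
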