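import Groth.Agent.H27LangWeil.LowerBoundField
import Groth.Agent.H27LangWeil.NumberFieldPrimes
import Groth.Agent.H17.DimIneq
import Mathlib

/-!
# Closed points of a variety dominating `Spec ℤ`
-/

set_option autoImplicit false
set_option synthInstance.maxHeartbeats 200000
set_option maxHeartbeats 1000000
universe u

noncomputable section

open Filter Topology NumberField IsDedekindDomain

namespace Groth.Agent.H27LangWeil

/-- The integers in a given universe. -/
def IntU : Type u := ULift.{u} ℤ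

instance : CommRing IntU.{u} := inferInstanceAs (CommRing (ULift.{u} ℤ))
instance : IsDomain IntU.{u} :=
  ((ULift.ringEquiv (R := ℤ)).toRingHom : ULift.{u} ℤ →+* ℤ).domain_nontrivial |> fun _ =>
    Function.Injective.isDomain (ULift.ringEquiv.{0, u} (R := ℤ)).toRingHom (ULift.ringEquiv (R := ℤ)).injective

/-- The canonical equivalence. -/
def IntU.equiv : IntU.{u} ≃+* ℤ := ULift.ringEquiv (R := ℤ)

/-- A dominant arithmetic domain has dimension at most one more than its transcendence degree. -/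
theorem dim_le_trdeg_succ (A : Type u) [CommRing A] [IsDomain A] [CharZero A] [Algebra.FiniteType ℤ A]
    (F : Type u) [Field F] [Algebra A F] [IsFractionRing A F] (K : Type u) [Field K] [NumberField K]
    [Algebra K F] {t : ℕ} (ht : Algebra.trdeg K F = (t : ℕ)) {r : ℕ} (hr : ringKrullDim A = r) :
    r ≤ t + 1 := by
  letI : Algebra IntU.{u} A := ((Int.castRingHom A).comp IntU.equiv.toRingHom).toAlgebra
  letI : Algebra IntU.{u} K := ((Int.castRingHom K).comp IntU.equiv.toRingHom).toAlgebra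
  letI : Algebra IntU.{u} F := ((Int.castRingHom F).comp IntU.equiv.toRingHom).toAlgebra
  haveI : IsScalarTower IntU.{u} A F := IsScalarTower.of_algebraMap_eq fun z =>
    (map_intCast (algebraMap A F) (IntU.equiv z)).symm
  haveI : IsScalarTower IntU.{u} K F := IsScalarTower.of_algebraMap_eq fun z =>
    (map_intCast (algebraMap K F) (IntU.equiv z)).symm
  haveI : FaithfulSMul IntU.{u} A := (faithfulSMul_iff_algebraMap_injective _ _).2
    ((Int.cast_injective (α := A)).comp IntU.equiv.injective)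
  haveI : FaithfulSMul IntU.{u} K := (faithfulSMul_iff_algebraMap_injective _ _).2
    ((Int.cast_injective (α := K)).comp IntU.equiv.injective)
  haveI : FaithfulSMul K F := (faithfulSMul_iff_algebraMap_injective _ _).2 (algebraMap K F).injective
  haveI : Algebra.FiniteType IntU.{u} A := by
    have h : (Int.castRingHom A).FiniteType := by
      rw [show Int.castRingHom A = algebraMap ℤ A from RingHom.ext_int _ _, RingHom.finiteType_algebraMap]
      infer_instance
    exact h.comp (RingHom.FiniteType.of_surjective _ IntU.equiv.surjective)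
  haveI : IsNoetherianRing IntU.{u} := isNoetherianRing_of_ringEquiv ℤ IntU.equiv.symm
  haveI : Algebra.IsAlgebraic IntU.{u} K := by
    refine ⟨fun z => ?_⟩
    obtain ⟨q, hq, hqz⟩ := (IsFractionRing.isAlgebraic_iff ℤ ℚ K).2 (Algebra.IsAlgebraic.isAlgebraic z)
    refine ⟨q.map (IntU.equiv.symm : ℤ →+* IntU.{u}), ?_, ?_⟩
    · exact (Polynomial.map_ne_zero_iff IntU.equiv.symm.injective).2 hq
    · rw [Polynomial.aeval_def, Polynomial.eval₂_map]
      rw [Polynomial.aeval_def] at hqz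
      rwa [show (algebraMap IntU.{u} K).comp (IntU.equiv.symm : ℤ →+* IntU.{u}) =
        algebraMap ℤ K from RingHom.ext_int _ _]
  have htr : Algebra.trdeg IntU.{u} A ≤ (t : ℕ) := by
    refine (trdeg_le_of_injective (IsScalarTower.toAlgHom IntU.{u} A F) (IsFractionRing.injective A F)).trans ?_
    rw [← trdeg_add_eq IntU.{u} K (A := F), trdeg_eq_zero (R := IntU.{u}) (A := K), zero_add, ht]
  have hdimZ : ringKrullDim IntU.{u} ≤ 1 := by
    rw [ringKrullDim_eq_of_ringEquiv IntU.equiv]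
    exact (IsPrincipalIdealRing.ringKrullDim_eq_one ℤ Int.not_isField).le
  have hle : ringKrullDim A ≤ ((t + 1 : ℕ) : WithBot ℕ∞) := by
    refine ringKrullDim_le_iff_isMaximal_height_le _ |>.2 fun q hq => ?_
    set p := q.comap (algebraMap IntU.{u} A)
    haveI : p.IsPrime := Ideal.comap_isPrime _ _
    haveI : q.LiesOver p := ⟨rfl⟩
    have h := H17.DimIneq.ineq IntU.{u} A p q
    have hp : p.height ≤ 1 := by
      have h1 := (Ideal.height_le_ringKrullDim_of_ne_top (I := p) (Ideal.IsPrime.ne_top inferInstance)).trans hdimZ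
      exact_mod_cast h1
    have h2 : (q.height : Cardinal.{u}) ≤ (((t + 1 : ℕ) : ℕ∞) : Cardinal.{u}) := by
      refine (le_self_add.trans h).trans ((add_le_add (Cardinal.ofENat_mono hp) htr).trans (le_of_eq ?_))
      push_cast
      rw [add_comm]
    exact_mod_cast (Cardinal.ofENat_le_ofENat.1 h2)
  rw [hr] at hle
  exact_mod_cast hle

theorem exists_factor_hom {A : Type*} [CommRing A] {B : Type*} [CommRing B] {C : Type*} [CommRing C]
    (f : A →+* B) (hf : Function.Surjective f) (g : A →+* C) (h : RingHom.ker f = RingHom.ker g) :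
    ∃ σ : B →+* C, ∀ a, σ (f a) = g a :=
  ⟨f.liftOfSurjective hf ⟨g, h.le⟩, fun a => f.liftOfSurjective_comp_apply hf ⟨g, h.le⟩ a⟩

theorem hom_ext_of_denominator {A : Type*} [CommRing A] {B : Type*} [CommRing B] {k : Type*} [Field k]
    (toB : A →+* B) (a : B) (hden : ∀ z : B, ∃ (n : ℕ) (w : A), a ^ n * z = toB w) (f g : B →+* k)
    (h : ∀ w, f (toB w) = g (toB w)) (hfa : f a = g a) (hga : g a ≠ 0) (z : B) : f z = g z := by
  obtain ⟨n, w, hw⟩ := hden z
  have h1 := h w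
  rw [← hw, map_mul, map_mul, map_pow, map_pow, hfa] at h1
  exact mul_left_cancel₀ (pow_ne_zero _ hga) h1

theorem mul_two_le_of_est {t N Q : ℕ} {C : ℝ} (c b : ℕ) (h : Est t C N Q) (hQ : 4 * (C + c) ≤ Real.sqrt Q)
    (hQ1 : 1 ≤ Q) (hb : b * Q ≤ c * Q ^ t) : (Q : ℝ) ^ t / 2 ≤ (N : ℝ) - b := by
  unfold Est at h
  set s := Real.sqrt (Q : ℝ)
  have hs : 0 < s := Real.sqrt_pos.2 (Nat.cast_pos.2 hQ1)
  have hQ1' : (1 : ℝ) ≤ Q := Nat.one_le_cast.2 hQ1
  have hsQ : s ≤ (Q : ℝ) := Real.sqrt_le_iff.2 ⟨by linarith, by nlinarith⟩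
  have hb' : (b : ℝ) * Q ≤ c * (Q : ℝ) ^ t := by exact_mod_cast hb
  have h0 : (b : ℝ) * s ≤ c * (Q : ℝ) ^ t :=
    (mul_le_mul_of_nonneg_left hsQ (Nat.cast_nonneg b)).trans hb'
  have h1 : ((Q : ℝ) ^ t - N) * s ≤ C * (Q : ℝ) ^ t :=
    (mul_le_mul_of_nonneg_right ((neg_sub (N : ℝ) _).symm.le.trans (neg_le_abs _)) hs.le).trans h
  have hp : (0 : ℝ) ≤ (Q : ℝ) ^ t := by positivity
  have h2 : (C + c) * (Q : ℝ) ^ t ≤ (Q : ℝ) ^ t / 2 * s := by nlinarith
  have h3 : ((Q : ℝ) ^ t - (N - b)) * s ≤ (Q : ℝ) ^ t / 2 * s := by nlinarith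
  have := le_of_mul_le_mul_right h3 hs
  linarith

/-- **Closed points of a variety dominating `Spec ℤ`**: the Dirichlet series diverges left of the dimension. -/
theorem not_summable_of_charZero (A : Type u) [CommRing A] [IsDomain A] [CharZero A]
    [Algebra.FiniteType ℤ A] {r : ℕ} (hr : ringKrullDim A = r) {s : ℝ} (hs : s < r) :
    ¬ Summable fun x : MaximalSpectrum A => (Nat.card (A ⧸ x.asIdeal) : ℝ) ^ (-s) := by
  classical
  intro hsum
  set F := FractionRing A
  haveI : CharZero F := charZero_of_injective_algebraMap (IsFractionRing.injective A F)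
  haveI : Algebra.EssFiniteType A F := Algebra.EssFiniteType.of_isLocalization F (nonZeroDivisors A)
  haveI : Algebra.EssFiniteType ℤ F := Algebra.EssFiniteType.comp ℤ A F
  have hT := IsScalarTower.of_algebraMap_eq' (R := ℤ) (S := ℚ) (A := F) (RingHom.ext_int _ _)
  haveI : Algebra.EssFiniteType ℚ F := @Algebra.EssFiniteType.of_comp ℤ ℚ F _ _ _ _ _ _ hT _
  set K := algebraicClosure ℚ F
  haveI : FiniteDimensional ℚ K := H1CAlg.finiteDimensional_algebraicClosure ℚ F
  haveI : NumberField K := { to_charZero := inferInstance, to_finiteDimensional := inferInstance }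
  haveI : Algebra.EssFiniteType K F := Algebra.EssFiniteType.of_comp ℚ K F
  obtain ⟨sb, hsb⟩ := exists_finset_isTranscendenceBasis K F
  set t := sb.card
  have ht : Algebra.trdeg K F = (t : ℕ) := by
    rw [← hsb.cardinalMk_eq_trdeg, Cardinal.mk_coe_finset]
  have hrt := dim_le_trdeg_succ A F K ht hr
  have hcl : ∀ z : F, IsAlgebraic K z → z ∈ Set.range (algebraMap K F) := fun z hz =>
    ⟨⟨z, mem_algebraicClosure_iff.2 (hz.restrictScalars ℚ)⟩, rfl⟩
  letI : Algebra (𝓞 K) F := ((algebraMap K F).comp (algebraMap (𝓞 K) K)).toAlgebra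
  haveI : IsScalarTower (𝓞 K) K F := IsScalarTower.of_algebraMap_eq' rfl
  obtain ⟨G, hG⟩ := Algebra.FiniteType.out (R := ℤ) (A := A)
  let AR : Subalgebra (𝓞 K) F := Algebra.adjoin (𝓞 K) ((G.image (algebraMap A F) : Finset F) : Set F)
  have hAmem : ∀ w : A, algebraMap A F w ∈ AR := by
    intro w
    have hw : w ∈ Algebra.adjoin ℤ (G : Set A) := by rw [hG]; trivial
    induction hw using Algebra.adjoin_induction with
    | mem g hg => exact Algebra.subset_adjoin (Finset.mem_coe.2 (Finset.mem_image_of_mem _ hg))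
    | algebraMap c => rw [eq_intCast, map_intCast]; exact intCast_mem _ c
    | add a b _ _ ha hb => rw [map_add]; exact add_mem ha hb
    | mul a b _ _ ha hb => rw [map_mul]; exact mul_mem ha hb
  have hfrac : ∀ z : F, ∃ p ∈ AR, ∃ q ∈ AR, q ≠ 0 ∧ z = p / q := fun z => by
    obtain ⟨p, q, hq, rfl⟩ := IsFractionRing.div_surjective A z
    exact ⟨_, hAmem p, _, hAmem q, IsFractionRing.to_map_ne_zero_of_mem_nonZeroDivisors hq, rfl⟩
  haveI : PerfectField K := PerfectField.ofCharZero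
  obtain ⟨h, C, hh, hest⟩ := langWeilEst.{u, u} (R := 𝓞 K) (K := K) t hcl ht AR ⟨_, rfl⟩ hfrac
  -- a common denominator for the integers of `K`
  obtain ⟨S, hS⟩ := (Module.finite_def.1 (inferInstance : Module.Finite ℤ (𝓞 K)))
  choose P' Q' hQ' hPQ using fun g : 𝓞 K => IsFractionRing.div_surjective A (algebraMap (𝓞 K) F g)
  set a₀ : A := ∏ g ∈ S, Q' g
  have ha₀ : algebraMap A F a₀ ≠ 0 := by
    rw [map_prod, Finset.prod_ne_zero_iff]
    exact fun g _ => IsFractionRing.to_map_ne_zero_of_mem_nonZeroDivisors (hQ' g)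
  have hint : ∀ o : 𝓞 K, ∃ w : A, algebraMap A F a₀ * algebraMap (𝓞 K) F o = algebraMap A F w := by
    intro o
    have ho : o ∈ Submodule.span ℤ (S : Set (𝓞 K)) := by rw [hS]; trivial
    induction ho using Submodule.span_induction with
    | mem g hg =>
      refine ⟨(∏ g' ∈ S.erase g, Q' g') * P' g, ?_⟩
      rw [← hPQ g, show a₀ = ∏ g ∈ S, Q' g from rfl, ← Finset.mul_prod_erase S Q' (Finset.mem_coe.1 hg),
        map_mul, map_mul]
      have := IsFractionRing.to_map_ne_zero_of_mem_nonZeroDivisors (K := F) (hQ' g)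
      rw [mul_comm (algebraMap A F (Q' g)), mul_assoc, mul_div_cancel₀ _ this]
    | zero => exact ⟨0, by simp⟩
    | add a b _ _ ha hb =>
      obtain ⟨w, hw⟩ := ha; obtain ⟨w', hw'⟩ := hb
      exact ⟨w + w', by rw [map_add, mul_add, hw, hw', map_add]⟩
    | smul z a _ ha =>
      obtain ⟨w, hw⟩ := ha
      exact ⟨z • w, by rw [map_zsmul, map_zsmul, mul_smul_comm, hw]⟩
  let toAR : A →+* AR := (algebraMap A F).codRestrict AR hAmem
  let a : AR := toAR a₀
  have ha : a ≠ 0 := fun h0 => ha₀ (congrArg Subtype.val h0)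
  have hden : ∀ c : AR, ∃ (n : ℕ) (w : A), a ^ n * c = toAR w := by
    rintro ⟨c, hc⟩
    induction hc using Algebra.adjoin_induction with
    | mem z hz =>
      obtain ⟨g, -, rfl⟩ := Finset.mem_image.1 hz
      exact ⟨0, g, Subtype.ext (by simp [toAR])⟩
    | algebraMap o =>
      obtain ⟨w, hw⟩ := hint o
      exact ⟨1, w, Subtype.ext (by simpa [a, toAR] using hw)⟩
    | add x y hx hy h1 h2 =>
      obtain ⟨n, w, hw⟩ := h1; obtain ⟨n', w', hw'⟩ := h2
      refine ⟨n + n', a₀ ^ n' * w + a₀ ^ n * w', ?_⟩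
      rw [map_add, map_mul, map_mul, map_pow, map_pow, ← hw, ← hw']
      apply Subtype.ext
      push_cast
      ring
    | mul x y hx hy h1 h2 =>
      obtain ⟨n, w, hw⟩ := h1; obtain ⟨n', w', hw'⟩ := h2
      refine ⟨n + n', w * w', ?_⟩
      rw [map_mul, ← hw, ← hw']
      apply Subtype.ext
      push_cast
      ring
  obtain ⟨N, c, hN, hvan⟩ := exists_card_vanishing_le.{u, u} (R := 𝓞 K) (K := K) hcl AR ⟨_, rfl⟩ ht a ha
  -- points of degree one over the primes of `K`
  let Qn : HeightOneSpectrum (𝓞 K) → ℕ := fun P => Ideal.absNorm P.asIdeal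
  have hev : ∀ᶠ P : HeightOneSpectrum (𝓞 K) in cofinite, h * N ∉ P.asIdeal ∧
      4 * (C + c) ≤ Real.sqrt (Qn P) := by
    refine Filter.Eventually.and ?_ ?_
    · refine (Ideal.finite_factors (I := Ideal.span {h * N}) ?_).subset fun P hP => ?_
      · simpa using mul_ne_zero hh hN
      · simp only [Set.mem_compl_iff, Set.mem_ofPred_eq, not_not] at hP
        exact Ideal.dvd_iff_le.2 ((Ideal.span_singleton_le_iff_mem _).2 hP)
    · set B := ⌈(4 * (C + c)) ^ 2⌉₊
      refine ((Set.finite_le_nat B).biUnion fun n _ => finite_absNorm_eq n).subset fun P hP => ?_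
      simp only [Set.mem_compl_iff, Set.mem_ofPred_eq, not_le] at hP
      simp only [Set.mem_iUnion]
      refine ⟨Qn P, ?_, rfl⟩
      show Qn P ≤ B
      have h0 : 0 ≤ Real.sqrt (Qn P) := Real.sqrt_nonneg _
      have h1 : (Qn P : ℝ) ≤ (4 * (C + c)) ^ 2 := by
        rw [← Real.sq_sqrt (Nat.cast_nonneg (Qn P))]
        exact pow_le_pow_left₀ h0 hP.le 2
      exact Nat.cast_le.1 (h1.trans (Nat.le_ceil _))
  set σ := max (s - t) (1 / 2)
  have hσ1 : σ < 1 := max_lt (by
    have : (r : ℝ) ≤ t + 1 := by exact_mod_cast hrt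
    linarith) (by norm_num)
  refine not_summable_primes K (lt_of_lt_of_le (by norm_num) (le_max_right (s - t) (1 / 2))) hσ1 ?_
  haveI : ∀ P : HeightOneSpectrum (𝓞 K), P.asIdeal.IsMaximal := fun P => P.isMaximal
  letI : ∀ P : HeightOneSpectrum (𝓞 K), Field (𝓞 K ⧸ P.asIdeal) := fun P => Ideal.Quotient.field _
  haveI : ∀ P : HeightOneSpectrum (𝓞 K), Finite (𝓞 K ⧸ P.asIdeal) := fun P =>
    Ring.HasFiniteQuotients.finiteQuotient P.ne_bot
  let Pair := Σ P : {P : HeightOneSpectrum (𝓞 K) // h * N ∉ P.asIdeal},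
    {φ : AR →ₐ[𝓞 K] (𝓞 K ⧸ P.1.asIdeal) // φ a ≠ 0}
  let ψ : ∀ x : Pair, A →+* (𝓞 K ⧸ x.1.1.asIdeal) := fun x => x.2.1.toRingHom.comp toAR
  have hψsurj : ∀ x : Pair, Function.Surjective (ψ x) := by
    rintro ⟨P, φ, hφ⟩ y
    obtain ⟨o, rfl⟩ := Ideal.Quotient.mk_surjective y
    obtain ⟨n, w, hw⟩ := hden (algebraMap (𝓞 K) AR o)
    let im := (ψ ⟨P, φ, hφ⟩).range
    haveI : Finite im := Subtype.finite
    obtain ⟨⟨b, hb⟩, hab⟩ := (Finite.isField_of_domain im).mul_inv_cancel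
      (a := (⟨φ a, a₀, rfl⟩ : im)) (fun h0 => hφ (congrArg Subtype.val h0))
    have hb' : φ a * b = 1 := congrArg Subtype.val hab
    obtain ⟨v, hv⟩ := hb
    refine ⟨v ^ n * w, ?_⟩
    change φ (toAR (v ^ n * w)) = Ideal.Quotient.mk P.1.asIdeal o
    rw [map_mul, map_mul, map_pow, map_pow, ← hw, map_mul, map_pow, show φ (toAR v) = b from hv,
      ← mul_assoc, ← mul_pow, mul_comm b, hb', one_pow, one_mul, AlgHom.commutes]
    rfl
  let toMax : Pair → MaximalSpectrum A := fun x => ⟨RingHom.ker (ψ x), isMaximal_ker_of_finite _⟩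
  have hinj : Function.Injective toMax := by
    rintro ⟨P, φ, hφ⟩ ⟨P', φ', hφ'⟩ hxy
    have hker : RingHom.ker (ψ ⟨P, φ, hφ⟩) = RingHom.ker (ψ ⟨P', φ', hφ'⟩) :=
      congrArg MaximalSpectrum.asIdeal hxy
    obtain ⟨σ', hσ'⟩ := exists_factor_hom (ψ ⟨P, φ, hφ⟩) (hψsurj ⟨P, φ, hφ⟩) (ψ ⟨P', φ', hφ'⟩) hker
    have hσ : ∀ z : AR, σ' (φ z) = φ' z :=
      hom_ext_of_denominator toAR a hden (σ'.comp φ.toRingHom) φ'.toRingHom hσ' (hσ' a₀) hφ'
    have hmk : ∀ o : 𝓞 K, σ' (Ideal.Quotient.mk P.1.asIdeal o) = Ideal.Quotient.mk P'.1.asIdeal o :=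
      fun o => by
        have := hσ (algebraMap (𝓞 K) AR o)
        rwa [AlgHom.commutes, AlgHom.commutes] at this
    have hPle : P.1.asIdeal ≤ P'.1.asIdeal := fun o ho => by
      rw [← Ideal.Quotient.eq_zero_iff_mem, ← hmk, Ideal.Quotient.eq_zero_iff_mem.2 ho, map_zero]
    obtain rfl : P = P' := Subtype.ext (HeightOneSpectrum.ext
      (P.1.isMaximal.eq_of_le P'.1.isPrime.ne_top hPle))
    have hid : σ' = RingHom.id _ := Ideal.Quotient.ringHom_ext (RingHom.ext hmk)
    obtain rfl : φ = φ' := AlgHom.ext fun z => by rw [← hσ z, hid]; rfl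
    rfl
  have hnorm : ∀ x : Pair, Nat.card (A ⧸ (toMax x).asIdeal) = Qn x.1.1 := fun x => by
    rw [Nat.card_congr (RingHom.quotientKerEquivOfSurjective (hψsurj x)).toEquiv]
    simp [Qn, Ideal.absNorm_apply, Submodule.cardQuot_apply]
  have hP : Summable fun x : Pair => (Qn x.1.1 : ℝ) ^ (-s) :=
    (hsum.comp_injective hinj).congr fun x => by simp only [Function.comp_apply, hnorm]
  have hP' := hP.sigma
  simp only at hP'
  let g : HeightOneSpectrum (𝓞 K) → ℝ := fun P =>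
    if hP : h * N ∉ P.asIdeal then 2 * ∑' φ : {φ : AR →ₐ[𝓞 K] (𝓞 K ⧸ P.asIdeal) // φ a ≠ 0}, (Qn P : ℝ) ^ (-s) else 0
  have hg : Summable g := by
    rw [← Function.Injective.summable_iff (g := Subtype.val (p := fun P : HeightOneSpectrum (𝓞 K) => h * N ∉ P.asIdeal))
      Subtype.val_injective fun P hP => by
        simp only [Subtype.range_coe_subtype, Set.mem_ofPred_eq] at hP
        simp [g, hP]]
    refine (hP'.mul_left 2).congr fun P => ?_
    simp [g, P.2]
  refine Summable.of_norm_bounded_eventually hg ?_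
  filter_upwards [hev] with P hP
  rw [Real.norm_of_nonneg (Real.rpow_nonneg (Nat.cast_nonneg _) _)]
  simp only [g, dif_pos hP.1]
  have hne : ∀ {z : 𝓞 K}, z ∣ h * N → algebraMap (𝓞 K) (𝓞 K ⧸ P.asIdeal) z ≠ 0 := fun hz h0 => by
    rw [Ideal.Quotient.algebraMap_eq, Ideal.Quotient.eq_zero_iff_mem] at h0
    exact hP.1 (Ideal.mem_of_dvd _ hz h0)
  obtain ⟨hfin, hN'⟩ := hest (𝓞 K ⧸ P.asIdeal) (hne (dvd_mul_right h N))
  obtain ⟨-, hb⟩ := hvan (𝓞 K ⧸ P.asIdeal) (hne (dvd_mul_left N h))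
  have hQ : Nat.card (𝓞 K ⧸ P.asIdeal) = Qn P := by
    simp [Qn, Ideal.absNorm_apply, Submodule.cardQuot_apply]
  rw [hQ] at hN' hb
  have h2 : 1 ≤ Qn P := le_trans one_le_two (two_le_absNorm P)
  have hlow := mul_two_le_of_est c _ hN' hP.2 h2 hb
  cases nonempty_fintype (AR →ₐ[𝓞 K] (𝓞 K ⧸ P.asIdeal))
  have hsplit : (Nat.card (AR →ₐ[𝓞 K] (𝓞 K ⧸ P.asIdeal)) : ℝ) -
      (Nat.card {φ : AR →ₐ[𝓞 K] (𝓞 K ⧸ P.asIdeal) // φ a = 0} : ℝ) =
      (Fintype.card {φ : AR →ₐ[𝓞 K] (𝓞 K ⧸ P.asIdeal) // φ a ≠ 0} : ℝ) := by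
    rw [Nat.card_eq_fintype_card, Nat.card_eq_fintype_card, Fintype.card_subtype_compl,
      Nat.cast_sub (Fintype.card_subtype_le _)]
  rw [hsplit] at hlow
  rw [tsum_fintype, Finset.sum_const, Finset.card_univ, nsmul_eq_mul]
  have hQpos : (0 : ℝ) < (Qn P : ℝ) := Nat.cast_pos.2 h2
  calc (Qn P : ℝ) ^ (-σ) ≤ (Qn P : ℝ) ^ ((t : ℝ) + (-s)) := by
        refine Real.rpow_le_rpow_of_exponent_le (Nat.one_le_cast.2 h2) ?_
        have := le_max_left (s - t) (1 / 2)
        linarith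
    _ = 2 * ((Qn P : ℝ) ^ t / 2) * (Qn P : ℝ) ^ (-s) := by
        rw [Real.rpow_add hQpos, Real.rpow_natCast]; ring
    _ ≤ _ := by rw [mul_assoc]; gcongr

end Groth.Agent.H27LangWeil
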