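import Groth.Agent.H27LangWeil.PlanePoints

/-!
# Weil bound for absolutely irreducible monic plane curves, uniform in the degrees
-/

set_option autoImplicit false
universe u

noncomputable section

open Polynomial
open scoped Polynomial.Bivariate

namespace Groth.Agent.H27LangWeil

variable {F : Type u} [Field F]

theorem ncard_zeros_le {K : Type u} [Field K] [Algebra F K] (hK : FunFld.IsFunctionField F K) {z : K}
    (hz : Transcendental F z) {d : ℕ}
    (hd : Module.finrank (IntermediateField.adjoin F ({z} : Set K)) K ≤ d) :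
    {Q : FunFld.Place F K | 0 < Q.ord z}.Finite ∧ {Q : FunFld.Place F K | 0 < Q.ord z}.ncard ≤ d := by
  classical
  have hfin := H23FunFld.finite_zeros hK z
  refine ⟨hfin, ?_⟩
  have h := H23FunFld.sum_ord_mul_deg_le hK hz hfin.toFinset (fun Q hQ => by simpa using hQ)
  have h1 : (hfin.toFinset.card : ℤ) ≤ ∑ Q ∈ hfin.toFinset, Q.ord z * (Q.deg : ℤ) := by
    rw [Finset.card_eq_sum_ones, Nat.cast_sum]
    refine Finset.sum_le_sum fun Q hQ => ?_
    rw [Nat.cast_one]
    have h0 : 0 < Q.ord z := by simpa using hQ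
    have h2 : (1 : ℤ) ≤ (Q.deg : ℤ) := by exact_mod_cast H23FunFld.deg_pos hK Q
    nlinarith
  rw [Set.ncard_eq_toFinset_card _ hfin]
  have : (hfin.toFinset.card : ℤ) ≤ d := h1.trans (h.trans (by exact_mod_cast hd))
  exact_mod_cast this

theorem adjoin_sub_algebraMap {K : Type u} [Field K] [Algebra F K] (x : K) (a : F) :
    IntermediateField.adjoin F ({x - algebraMap F K a} : Set K) = IntermediateField.adjoin F ({x} : Set K) := by
  refine le_antisymm (IntermediateField.adjoin_le_iff.2 (Set.singleton_subset_iff.2 ?_))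
    (IntermediateField.adjoin_le_iff.2 (Set.singleton_subset_iff.2 ?_))
  · exact sub_mem (IntermediateField.mem_adjoin_simple_self F x) (IntermediateField.algebraMap_mem _ a)
  · have h := add_mem (IntermediateField.mem_adjoin_simple_self F (x - algebraMap F K a))
      (IntermediateField.algebraMap_mem _ a)
    rwa [sub_add_cancel] at h

/-- Points versus places of degree one. -/
theorem exists_field_count [Finite F] (P : F[X][Y]) (hm : P.Monic) {c : ℕ}
    (hc : ∀ j, (P.coeff j).natDegree ≤ c)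
    (hirr : ∀ (k' : Type u) [Field k'] [Algebra F k'], FiniteDimensional F k' →
      Irreducible (P.map (mapRingHom (algebraMap F k'))))
    (a b : F[X][Y]) (D : F[X]) (hab : a * P + b * derivative P = C D) (hD : D ≠ 0)
    (hDc : D.natDegree ≤ c) :
    ∃ (g N : ℕ), g ≤ P.natDegree * P.natDegree * c + 1 ∧
      |(N : ℝ) - (Nat.card F : ℝ) - 1| ≤ 2 * (g : ℝ) * Real.sqrt (Nat.card F : ℝ) ∧
      N ≤ Nat.card {p : F × F // P.evalEval p.1 p.2 = 0} + P.natDegree * (c + 1) ∧
      Nat.card {p : F × F // P.evalEval p.1 p.2 = 0} ≤ N + P.natDegree * c := by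
  classical
  cases nonempty_fintype F
  obtain ⟨K, _, _, x, y, hK, hx, hker, hgen⟩ := exists_plane_field P hm hirr
  set d := P.natDegree
  have hδ : Module.finrank (IntermediateField.adjoin F ({x} : Set K)) K ≤ d := finrank_le hker hgen hm
  let P1 : Set (FunFld.Place F K) := {Q | Q.deg = 1}
  let PG : Set (FunFld.Place F K) := {Q | Q.deg = 1 ∧ ∃ p : F × F, Centred x y Q p ∧ D.eval p.1 ≠ 0}
  let Z : Set (F × F) := {p | P.evalEval p.1 p.2 = 0}
  let ZG : Set (F × F) := {p | P.evalEval p.1 p.2 = 0 ∧ D.eval p.1 ≠ 0}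
  refine ⟨FunFld.genus F K, P1.ncard, genus_le hK hx hker hgen hm hc, ?_, ?_⟩
  · have := S11042.result F K hK
    rwa [show Nat.card {Q : FunFld.Place F K // Q.deg = 1} = P1.ncard from
      Nat.card_coe_set_eq P1] at this
  have hsimple : ∀ p : F × F, P.evalEval p.1 p.2 = 0 → D.eval p.1 ≠ 0 →
      (derivative P).evalEval p.1 p.2 ≠ 0 := fun p hp hDp h0 => by
    have := congrArg (evalEval p.1 p.2) hab
    rw [evalEval_add, evalEval_mul, evalEval_mul, hp, h0, mul_zero, mul_zero, add_zero, evalEval_C] at this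
    exact hDp this.symm
  have hroot : ∀ {Q : FunFld.Place F K} {p : F × F}, Centred x y Q p → P.evalEval p.1 p.2 = 0 := by
    intro Q p h
    by_contra hne
    have := h.val_eq_one hne
    rw [(hker P).2 dvd_rfl, map_zero] at this
    exact zero_ne_one this
  choose Φ hΦ using fun p : ZG => exists_centred hK hx hker p.2.1
  have hΦdeg : ∀ p : ZG, (Φ p).deg = 1 := fun p =>
    centred_deg hK hx hker hgen (hΦ p) p.2.1 (hsimple _ p.2.1 p.2.2)
  let Φ' : ZG → PG := fun p => ⟨Φ p, hΦdeg p, p.1, hΦ p, p.2.2⟩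
  have hbij : Function.Bijective Φ' := by
    refine ⟨fun p p' h => ?_, fun ⟨Q, _, p, hp, hDp⟩ => ⟨⟨p, hroot hp, hDp⟩, ?_⟩⟩
    · have e : Φ p = Φ p' := congrArg Subtype.val h
      exact Subtype.ext ((hΦ p).unique (e ▸ hΦ p'))
    · exact Subtype.ext (centred_unique hK hx hker hgen (hΦ ⟨p, hroot hp, hDp⟩) hp (hroot hp)
        (hsimple _ (hroot hp) hDp))
  have hcard : PG.ncard = ZG.ncard := by
    rw [← Nat.card_coe_set_eq, ← Nat.card_coe_set_eq, Nat.card_eq_of_bijective Φ' hbij]
  have hroots : (D.roots.toFinset).card ≤ c :=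
    ((Multiset.toFinset_card_le _).trans (card_roots' D)).trans hDc
  -- bad places
  let T : F → Set (FunFld.Place F K) := fun a => {Q | 0 < Q.ord (x - algebraMap F K a)}
  have hT : ∀ a, (T a).Finite ∧ (T a).ncard ≤ d := fun a => by
    refine ncard_zeros_le hK ?_ (by rw [adjoin_sub_algebraMap]; exact hδ)
    intro h
    refine hx ?_
    have h' := h.add (isAlgebraic_algebraMap (R := F) (A := K) a)
    rwa [sub_add_cancel] at h'
  have hinf : {Q : FunFld.Place F K | 0 < Q.ord x⁻¹}.Finite ∧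
      {Q : FunFld.Place F K | 0 < Q.ord x⁻¹}.ncard ≤ d :=
    ncard_zeros_le hK (fun h => hx (by simpa using h.inv)) (by rw [H23FunFld.adjoin_inv]; exact hδ)
  let B : Set (FunFld.Place F K) :=
    {Q : FunFld.Place F K | 0 < Q.ord x⁻¹} ∪ ⋃ a ∈ D.roots.toFinset, T a
  have hBfin : B.Finite :=
    hinf.1.union (Set.Finite.biUnion (Finset.finite_toSet _) fun a _ => (hT a).1)
  have hBcard : B.ncard ≤ d * (c + 1) := by
    refine (Set.ncard_union_le _ _).trans ?_
    have h2 : (⋃ a ∈ D.roots.toFinset, T a).ncard ≤ d * c := by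
      refine (Finset.set_ncard_biUnion_le _ _).trans
        ((Finset.sum_le_sum fun a _ => (hT a).2).trans ?_)
      rw [Finset.sum_const, smul_eq_mul, mul_comm]
      exact Nat.mul_le_mul_left d hroots
    rw [Nat.mul_succ]
    exact (Nat.add_le_add hinf.2 h2).trans (by omega)
  have hsub : P1 ⊆ PG ∪ B := by
    intro Q hQ
    by_cases hxQ : Q.1 x ≤ 1
    · obtain ⟨a, ha⟩ := exists_residue_of_deg_one hK hQ hxQ
      by_cases hDa : D.eval a = 0
      · refine Or.inr (Or.inr ?_)
        simp only [Set.mem_iUnion, Multiset.mem_toFinset, mem_roots hD, IsRoot]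
        refine ⟨a, hDa, ?_⟩
        have hne : x - algebraMap F K a ≠ 0 := fun h => hx (by
          rw [sub_eq_zero.1 h]; exact isAlgebraic_algebraMap _)
        exact (H23FunFld.val_lt_one_iff Q hne).1 ha
      · have hy : Q.1 y ≤ 1 := by
          have := val_y_le hker hm hc Q
          rwa [max_eq_left hxQ, one_pow] at this
        obtain ⟨a', ha'⟩ := exists_residue_of_deg_one hK hQ hy
        exact Or.inl ⟨hQ, (a, a'), ⟨ha, ha'⟩, hDa⟩
    · refine Or.inr (Or.inl ?_)
      have hx0 : x ≠ 0 := fun h => hxQ (by simp [h])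
      change 0 < Q.ord x⁻¹
      rw [H23FunFld.val_le_one_iff Q hx0] at hxQ
      rw [H23FunFld.ord_inv]
      omega
  have hPGfin : PG.Finite := by
    haveI : Finite PG := Finite.of_surjective Φ' hbij.2
    exact Set.toFinite PG
  have hP1fin : P1.Finite := (hPGfin.union hBfin).subset hsub
  have hPGsub : PG ⊆ P1 := fun Q hQ => hQ.1
  -- bad points
  have hZsub : Z ⊆ ZG ∪ ⋃ a ∈ D.roots.toFinset,
      ((fun y₀ => (a, y₀)) '' {y₀ : F | (P.map (evalRingHom a)).IsRoot y₀}) := by
    rintro ⟨a, y₀⟩ hp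
    by_cases hDa : D.eval a = 0
    · refine Or.inr ?_
      simp only [Set.mem_iUnion, Multiset.mem_toFinset, mem_roots hD, IsRoot]
      exact ⟨a, hDa, y₀, by simpa [IsRoot, map_evalRingHom_eval] using (show P.evalEval a y₀ = 0 from hp), rfl⟩
    · exact Or.inl ⟨hp, hDa⟩
  have hZB : ∀ a : F, (((fun y₀ => (a, y₀)) '' {y₀ : F | (P.map (evalRingHom a)).IsRoot y₀}) : Set (F × F)).ncard ≤ d := by
    intro a
    refine (Set.ncard_image_le (Set.toFinite _)).trans ?_
    have hne : P.map (evalRingHom a) ≠ 0 := (hm.map _).ne_zero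
    rw [show {y₀ : F | (P.map (evalRingHom a)).IsRoot y₀} =
      ((P.map (evalRingHom a)).roots.toFinset : Set F) by ext; simp [hne],
      Set.ncard_coe_finset]
    exact ((Multiset.toFinset_card_le _).trans (card_roots' _)).trans natDegree_map_le
  have hZ : Nat.card {p : F × F // P.evalEval p.1 p.2 = 0} = Z.ncard := Nat.card_coe_set_eq Z
  have hZGsub : ZG ⊆ Z := fun p hp => hp.1
  rw [hZ]
  constructor
  · calc P1.ncard ≤ (PG ∪ B).ncard := Set.ncard_le_ncard hsub (hPGfin.union hBfin)
      _ ≤ PG.ncard + B.ncard := Set.ncard_union_le _ _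
      _ ≤ Z.ncard + d * (c + 1) := by
          rw [hcard]
          exact Nat.add_le_add (Set.ncard_le_ncard hZGsub (Set.toFinite _)) hBcard
  · calc Z.ncard ≤ (ZG ∪ ⋃ a ∈ D.roots.toFinset,
            ((fun y₀ => (a, y₀)) '' {y₀ : F | (P.map (evalRingHom a)).IsRoot y₀})).ncard :=
          Set.ncard_le_ncard hZsub (Set.toFinite _)
      _ ≤ ZG.ncard + d * c := by
          refine (Set.ncard_union_le _ _).trans (Nat.add_le_add_left ?_ _)
          refine (Finset.set_ncard_biUnion_le _ _).trans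
            ((Finset.sum_le_sum fun a _ => hZB a).trans ?_)
          rw [Finset.sum_const, smul_eq_mul, mul_comm]
          exact Nat.mul_le_mul_left d hroots
      _ ≤ P1.ncard + d * c := by
          rw [← hcard]
          exact Nat.add_le_add_right (Set.ncard_le_ncard hPGsub hP1fin) _

/-- The constant in the bound for plane curves. -/
def planeConst (d c : ℕ) : ℕ := 2 * (d * d * c + 1) + 1 + d * (c + 1)

theorem abs_card_zeros_sub_le [Finite F] (P : F[X][Y]) (hm : P.Monic) {c : ℕ}
    (hc : ∀ j, (P.coeff j).natDegree ≤ c)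
    (hirr : ∀ (k' : Type u) [Field k'] [Algebra F k'], FiniteDimensional F k' →
      Irreducible (P.map (mapRingHom (algebraMap F k'))))
    (a b : F[X][Y]) (D : F[X]) (hab : a * P + b * derivative P = C D) (hD : D ≠ 0)
    (hDc : D.natDegree ≤ c) :
    |(Nat.card {p : F × F // P.evalEval p.1 p.2 = 0} : ℝ) - (Nat.card F : ℝ)| ≤
      (planeConst P.natDegree c : ℝ) * Real.sqrt (Nat.card F : ℝ) := by
  cases nonempty_fintype F
  obtain ⟨g, N, hg, hw, h1, h2⟩ := exists_field_count P hm hc hirr a b D hab hD hDc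
  set Q : ℝ := (Nat.card F : ℝ)
  set s := Real.sqrt Q
  have hs : 1 ≤ s := Real.one_le_sqrt.2 (Nat.one_le_cast.2 Nat.card_pos)
  set M : ℝ := (Nat.card {p : F × F // P.evalEval p.1 p.2 = 0} : ℝ)
  have h1' : (N : ℝ) ≤ M + (P.natDegree * (c + 1) : ℕ) := by
    have := (Nat.cast_le (α := ℝ)).2 h1
    push_cast at this ⊢
    exact this
  have h2' : M ≤ (N : ℝ) + (P.natDegree * c : ℕ) := by
    have := (Nat.cast_le (α := ℝ)).2 h2
    push_cast at this ⊢
    exact this
  have hg' : (g : ℝ) ≤ ((P.natDegree * P.natDegree * c + 1 : ℕ) : ℝ) := by exact_mod_cast hg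
  have h3 : (P.natDegree * c : ℝ) ≤ P.natDegree * (c + 1) := by nlinarith [Nat.cast_nonneg (α := ℝ) P.natDegree]
  have h4 : (2 : ℝ) * g * s ≤ 2 * ((P.natDegree * P.natDegree * c + 1 : ℕ) : ℝ) * s := by gcongr
  have h5 : (1 + P.natDegree * (c + 1) : ℝ) ≤ (1 + P.natDegree * (c + 1) : ℝ) * s :=
    le_mul_of_one_le_right (by positivity) hs
  rw [abs_le] at hw ⊢
  unfold planeConst
  push_cast at *
  constructor <;> nlinarith [hw.1, hw.2]

end Groth.Agent.H27LangWeil
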