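import Mathlib

/-!
# Spreading out absolute irreducibility of monic bivariate polynomials
-/

set_option autoImplicit false
universe u v

noncomputable section

open Polynomial
open scoped Polynomial.Bivariate

namespace Groth.Agent.H27LangWeil

theorem coeff_swap {S : Type*} [CommRing S] (q : S[X][Y]) (i j : ℕ) :
    ((Bivariate.swap q).coeff i).coeff j = (q.coeff j).coeff i := by
  induction q using Polynomial.induction_on' with
  | add f g hf hg => simp [hf, hg]
  | monomial n a =>
    induction a using Polynomial.induction_on' with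
    | add f g hf hg => simp only [map_add, coeff_add, hf, hg]
    | monomial m r =>
      rw [Bivariate.swap_monomial_monomial]
      simp only [coeff_monomial]
      split_ifs <;> simp [coeff_monomial, *]

theorem coeff_natDegree_le_swap {S : Type*} [CommRing S] (q : S[X][Y]) (j : ℕ) :
    (q.coeff j).natDegree ≤ (Bivariate.swap q).natDegree := by
  refine natDegree_le_iff_coeff_eq_zero.2 fun i hi => ?_
  rw [← coeff_swap, coeff_eq_zero_of_natDegree_lt hi, coeff_zero]

theorem swap_natDegree_le {S : Type*} [CommRing S] (q : S[X][Y]) (c : ℕ)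
    (h : ∀ j, (q.coeff j).natDegree ≤ c) : (Bivariate.swap q).natDegree ≤ c := by
  refine natDegree_le_iff_coeff_eq_zero.2 fun i hi => ?_
  ext j
  rw [coeff_swap, coeff_zero]
  exact coeff_eq_zero_of_natDegree_lt ((h j).trans_lt (by exact hi))

/-- The monic polynomial of degree `e` in `Y` with prescribed coefficients of `X`-degree `≤ c`. -/
def genPoly {S : Type*} [CommRing S] {e c : ℕ} (w : Fin e × Fin (c + 1) → S) : S[X][Y] :=
  X ^ e + ∑ p : Fin e × Fin (c + 1), monomial (p.1 : ℕ) (monomial (p.2 : ℕ) (w p))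

theorem genPoly_map {S T : Type*} [CommRing S] [CommRing T] (φ : S →+* T) {e c : ℕ}
    (w : Fin e × Fin (c + 1) → S) : (genPoly w).map (mapRingHom φ) = genPoly (φ ∘ w) := by
  simp [genPoly, Polynomial.map_sum, map_monomial]

theorem degree_genPoly_sum {S : Type*} [CommRing S] {e c : ℕ} (w : Fin e × Fin (c + 1) → S) :
    (∑ p : Fin e × Fin (c + 1), monomial (p.1 : ℕ) (monomial (p.2 : ℕ) (w p))).degree < (e : WithBot ℕ) := by
  refine lt_of_le_of_lt (degree_sum_le _ _) ((Finset.sup_lt_iff (WithBot.bot_lt_coe _)).2 ?_)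
  exact fun p _ => (degree_monomial_le _ _).trans_lt (by exact_mod_cast p.1.2)

theorem genPoly_monic {S : Type*} [CommRing S] {e c : ℕ} (w : Fin e × Fin (c + 1) → S) :
    (genPoly w).Monic := monic_X_pow_add (degree_genPoly_sum w)

theorem genPoly_natDegree {S : Type*} [CommRing S] [Nontrivial S] {e c : ℕ}
    (w : Fin e × Fin (c + 1) → S) : (genPoly w).natDegree = e := by
  refine natDegree_eq_of_degree_eq_some ?_
  rw [genPoly, degree_add_eq_left_of_degree_lt (by rw [degree_X_pow]; exact degree_genPoly_sum w),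
    degree_X_pow]

theorem eq_genPoly {S : Type*} [CommRing S] {e c : ℕ} {G : S[X][Y]} (hG : G.Monic)
    (he : G.natDegree = e) (hc : ∀ j, (G.coeff j).natDegree ≤ c) :
    G = genPoly (fun p : Fin e × Fin (c + 1) => (G.coeff p.1).coeff p.2) := by
  subst he
  conv_lhs => rw [hG.as_sum]
  rw [genPoly]
  congr 1
  rw [Fintype.sum_prod_type, ← Fin.sum_univ_eq_sum_range (fun j => C (G.coeff j) * X ^ j)]
  refine Finset.sum_congr rfl fun j _ => ?_
  rw [C_mul_X_pow_eq_monomial]
  conv_lhs => rw [(G.coeff j).as_sum_range' (c + 1) (Nat.lt_succ_of_le (hc j))]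
  rw [map_sum, Finset.sum_range]

theorem span_coeff_le_ker_iff {S : Type*} [CommRing S] {T : Type*} [CommRing T] (φ : S →+* T)
    (Q : S[X][Y]) :
    Ideal.span (Set.range fun p : ℕ × ℕ => (Q.coeff p.1).coeff p.2) ≤ RingHom.ker φ ↔
      Q.map (mapRingHom φ) = 0 := by
  rw [Ideal.span_le, Set.range_subset_iff]
  simp only [SetLike.mem_coe, RingHom.mem_ker, Prod.forall]
  constructor
  · intro h
    ext j i
    rw [coeff_map, coe_mapRingHom, coeff_map, h j i, coeff_zero, coeff_zero]
  · intro h j i
    have := congrArg (fun q : T[X][Y] => (q.coeff j).coeff i) h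
    simp only [coeff_map, coe_mapRingHom, coeff_zero] at this
    exact this

theorem exists_const_of_degree {R : Type u} [CommRing R] [IsDomain R] (L : Type u) [Field L]
    [Algebra R L] [IsFractionRing R L] (P : R[X][Y]) (c : ℕ)
    (hirr : ∀ (L' : Type u) [Field L'] [Algebra L L'], FiniteDimensional L L' →
      Irreducible (P.map (mapRingHom ((algebraMap L L').comp (algebraMap R L)))))
    {e : ℕ} (he : 0 < e) (hed : e < P.natDegree) :
    ∃ h : R, h ≠ 0 ∧ ∀ (k : Type v) [Field k] (θ : R →+* k), θ h ≠ 0 →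
      ∀ (wG : Fin e × Fin (c + 1) → k) (wH : Fin (P.natDegree - e) × Fin (c + 1) → k),
        P.map (mapRingHom θ) ≠ genPoly wG * genPoly wH := by
  classical
  set d := P.natDegree
  let σ := (Fin e × Fin (c + 1)) ⊕ (Fin (d - e) × Fin (c + 1))
  let S := MvPolynomial σ R
  let G : S[X][Y] := genPoly (fun p => MvPolynomial.X (Sum.inl p))
  let H : S[X][Y] := genPoly (fun p => MvPolynomial.X (Sum.inr p))
  let PS : S[X][Y] := P.map (mapRingHom MvPolynomial.C)
  let E : Ideal S := Ideal.span (Set.range fun p : ℕ × ℕ => ((G * H - PS).coeff p.1).coeff p.2)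
  by_cases htop : Ideal.map (MvPolynomial.map (algebraMap R L)) E = ⊤
  · letI : Algebra S (MvPolynomial σ L) := MvPolynomial.algebraMvPolynomial
    haveI : IsLocalization ((nonZeroDivisors R).map (MvPolynomial.C (σ := σ))) (MvPolynomial σ L) :=
      MvPolynomial.isLocalization (nonZeroDivisors R) L
    have h1 : (1 : MvPolynomial σ L) ∈ Ideal.map (algebraMap S (MvPolynomial σ L)) E := by
      rw [show algebraMap S (MvPolynomial σ L) = MvPolynomial.map (algebraMap R L) from rfl, htop]
      exact trivial
    obtain ⟨⟨⟨a, ha⟩, m, hm⟩, hme⟩ :=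
      (IsLocalization.mem_map_algebraMap_iff ((nonZeroDivisors R).map (MvPolynomial.C (σ := σ))) _).1 h1
    obtain ⟨r, hr, rfl⟩ := hm
    rw [one_mul] at hme
    have hinj : Function.Injective (MvPolynomial.map (σ := σ) (algebraMap R L)) :=
      MvPolynomial.map_injective _ (IsFractionRing.injective R L)
    have hCE : MvPolynomial.C (σ := σ) r ∈ E := by
      have e0 : MvPolynomial.C r = a := hinj hme
      rw [e0]; exact ha
    refine ⟨r, nonZeroDivisors.ne_zero hr, fun k _ θ hθ wG wH heq => ?_⟩
    let φ : S →+* k := MvPolynomial.eval₂Hom θ (Sum.elim wG wH)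
    have hle : E ≤ RingHom.ker φ := by
      rw [span_coeff_le_ker_iff, Polynomial.map_sub, Polynomial.map_mul, genPoly_map, genPoly_map,
        Polynomial.map_map, mapRingHom_comp, sub_eq_zero]
      have e2 : φ.comp MvPolynomial.C = θ := RingHom.ext fun z => MvPolynomial.eval₂Hom_C _ _ _
      rw [e2, heq]
      congr 2 <;> funext p <;>
        (simp only [Function.comp_apply]; exact MvPolynomial.eval₂_X _ _ _)
    have h0 := hle hCE
    rw [RingHom.mem_ker, show φ (MvPolynomial.C r) = θ r from MvPolynomial.eval₂Hom_C _ _ _] at h0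
    exact hθ h0
  · exfalso
    obtain ⟨M, hM, hEM⟩ := Ideal.exists_le_maximal _ htop
    let L' := MvPolynomial σ L ⧸ M
    letI : Field L' := Ideal.Quotient.field M
    haveI : Algebra.FiniteType L L' := .of_surjective (Ideal.Quotient.mkₐ L M) Ideal.Quotient.mk_surjective
    haveI : Module.Finite L L' := finite_of_finite_type_of_isJacobsonRing L L'
    have hir := hirr L' inferInstance
    let φ : S →+* L' := (Ideal.Quotient.mk M).comp (MvPolynomial.map (algebraMap R L))
    have hle : E ≤ RingHom.ker φ := fun z hz =>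
      Ideal.Quotient.eq_zero_iff_mem.2 (hEM (Ideal.mem_map_of_mem _ hz))
    have heq := (span_coeff_le_ker_iff φ _).1 hle
    rw [Polynomial.map_sub, Polynomial.map_mul, genPoly_map, genPoly_map,
      Polynomial.map_map, mapRingHom_comp, sub_eq_zero] at heq
    have e3 : φ.comp MvPolynomial.C = (algebraMap L L').comp (algebraMap R L) := by
      refine RingHom.ext fun z => ?_
      change Ideal.Quotient.mk M (MvPolynomial.map (algebraMap R L) (MvPolynomial.C z)) = _
      rw [MvPolynomial.map_C]
      rfl
    rw [e3] at heq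
    rw [← heq] at hir
    rcases hir.isUnit_or_isUnit rfl with h | h
    · have := natDegree_eq_zero_of_isUnit h
      rw [genPoly_natDegree] at this
      omega
    · have := natDegree_eq_zero_of_isUnit h
      rw [genPoly_natDegree] at this
      omega

/-- Absolute irreducibility spreads out. -/
theorem exists_spread_irreducible {R : Type u} [CommRing R] [IsDomain R] (L : Type u) [Field L]
    [Algebra R L] [IsFractionRing R L] (P : R[X][Y]) (hm : P.Monic)
    (hirr : ∀ (L' : Type u) [Field L'] [Algebra L L'], FiniteDimensional L L' →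
      Irreducible (P.map (mapRingHom ((algebraMap L L').comp (algebraMap R L))))) :
    ∃ h : R, h ≠ 0 ∧ ∀ (k : Type v) [Field k] (θ : R →+* k), θ h ≠ 0 →
      Irreducible (P.map (mapRingHom θ)) := by
  classical
  set d := P.natDegree
  set c := (Bivariate.swap P).natDegree
  choose g hg0 hg using fun e : Finset.Ioo 0 d =>
    exists_const_of_degree.{u, v} L P c hirr (e := e.1) (Finset.mem_Ioo.1 e.2).1 (Finset.mem_Ioo.1 e.2).2
  refine ⟨∏ e, g e, Finset.prod_ne_zero_iff.2 fun e _ => hg0 e, fun k _ θ hθ => ?_⟩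
  set p := P.map (mapRingHom θ)
  have hpm : p.Monic := hm.map _
  have hpd : p.natDegree = d := hm.natDegree_map _
  have hd1 : 0 < d := by
    have hi := hirr L inferInstance
    rcases Nat.eq_zero_or_pos d with h | h
    · rw [hm.natDegree_eq_zero.1 h, Polynomial.map_one] at hi
      exact absurd isUnit_one hi.not_isUnit
    · exact h
  have hp1 : p ≠ 1 := fun h => by rw [h, natDegree_one] at hpd; omega
  rw [hpm.irreducible_iff_lt_natDegree_lt hp1]
  intro G hG hGd hdvd
  obtain ⟨H, hH⟩ := hdvd
  have hHm : H.Monic := hG.of_mul_monic_left (hH ▸ hpm)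
  have hdeg : G.natDegree + H.natDegree = d := by rw [← hpd, hH, hG.natDegree_mul hHm]
  rw [Finset.mem_Ioc, hpd] at hGd
  have hpc : ∀ j, (p.coeff j).natDegree ≤ c := fun j => by
    rw [coeff_map, coe_mapRingHom]
    exact natDegree_map_le.trans (coeff_natDegree_le_swap P j)
  have hsw : (Bivariate.swap G).natDegree ≤ c ∧ (Bivariate.swap H).natDegree ≤ c := by
    have h := swap_natDegree_le p c hpc
    rw [hH, map_mul, natDegree_mul
      ((map_ne_zero_iff _ (Bivariate.swap (R := k)).injective).2 hG.ne_zero)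
      ((map_ne_zero_iff _ (Bivariate.swap (R := k)).injective).2 hHm.ne_zero)] at h
    omega
  have hge : θ (g ⟨G.natDegree, Finset.mem_Ioo.2 ⟨hGd.1, by omega⟩⟩) ≠ 0 := fun h0 =>
    hθ (by rw [map_prod]; exact Finset.prod_eq_zero (Finset.mem_univ _) h0)
  refine hg ⟨G.natDegree, Finset.mem_Ioo.2 ⟨hGd.1, by omega⟩⟩ k θ hge
    (fun q => (G.coeff q.1).coeff q.2) (fun q => (H.coeff q.1).coeff q.2) ?_
  rw [← eq_genPoly hG rfl (fun j => (coeff_natDegree_le_swap G j).trans hsw.1),
    ← eq_genPoly hHm (show H.natDegree = d - G.natDegree by omega)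
      (fun j => (coeff_natDegree_le_swap H j).trans hsw.2)]
  exact hH

end Groth.Agent.H27LangWeil
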