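import Groth.Agent.H27LangWeil.Setup
import Groth.Agent.H27LangWeil.Spread
import Groth.Agent.H27LangWeil.Birational
import Groth.Agent.H27LangWeil.PlaneCount
import Mathlib

/-!
# The Lang–Weil estimate
-/

set_option autoImplicit false
set_option synthInstance.maxHeartbeats 200000
set_option maxHeartbeats 1600000
universe u v

noncomputable section

open Polynomial
open scoped Polynomial.Bivariate IntermediateField

namespace Groth.Agent.H27LangWeil

theorem card_algHom_bot {R : Type u} [CommRing R] {F : Type u} [CommRing F] [Algebra R F]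
    (hinj : Function.Injective (algebraMap R F)) (k : Type v) [CommRing k] [Algebra R k] :
    Finite ((⊥ : Subalgebra R F) →ₐ[R] k) ∧ Nat.card ((⊥ : Subalgebra R F) →ₐ[R] k) = 1 := by
  let e := Algebra.botEquivOfInjective (A := F) hinj
  haveI : Subsingleton ((⊥ : Subalgebra R F) →ₐ[R] k) := ⟨fun φ ψ => AlgHom.ext fun z => by
    obtain ⟨a, rfl⟩ := e.symm.surjective z
    rw [show e.symm a = algebraMap R (⊥ : Subalgebra R F) a from e.symm.commutes a, AlgHom.commutes,
      AlgHom.commutes]⟩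
  haveI : Nonempty ((⊥ : Subalgebra R F) →ₐ[R] k) := ⟨(Algebra.ofId R k).comp e.toAlgHom⟩
  exact ⟨Finite.of_subsingleton, Nat.card_unique⟩

/-- The homomorphisms out of `R'[X][Y]/(P)`. -/
theorem card_algHom_range {R : Type u} [CommRing R] {R' : Type u} [CommRing R'] [Algebra R R']
    {F : Type u} [CommRing F] [Algebra R F] (ev : R'[X][Y] →ₐ[R] F) (P : R'[X][Y])
    (hker : ∀ q, ev q = 0 ↔ P ∣ q) (k : Type v) [Field k] [Finite k] [Algebra R k]
    [Finite (R' →ₐ[R] k)] :
    Finite (ev.range →ₐ[R] k) ∧ Nat.card (ev.range →ₐ[R] k) =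
      Nat.card (Σ θ : R' →ₐ[R] k, {p : k × k // (P.map (mapRingHom θ.toRingHom)).evalEval p.1 p.2 = 0}) := by
  classical
  let q : R'[X][Y] →ₐ[R] ev.range := ev.rangeRestrict
  have hq : Function.Surjective q := ev.rangeRestrict_surjective
  let ι : R' →ₐ[R] R'[X][Y] := IsScalarTower.toAlgHom R R' R'[X][Y]
  have hval : ∀ (θ : R' →ₐ[R] k) (a b : k) (r : R'[X][Y]),
      (r.map (mapRingHom θ.toRingHom)).evalEval a b = eval₂ (eval₂RingHom θ.toRingHom a) b r := by
    intro θ a b r
    induction r using Polynomial.induction_on' with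
    | add f g hf hg => rw [Polynomial.map_add, evalEval_add, hf, hg, eval₂_add]
    | monomial n c =>
      rw [map_monomial, ← C_mul_X_pow_eq_monomial, evalEval_mul, evalEval_pow, evalEval_C, evalEval_X,
        eval₂_monomial, coe_mapRingHom, eval_map]
      rfl
  have hψ : ∀ (ψ : R'[X][Y] →ₐ[R] k) (r : R'[X][Y]),
      ψ r = (r.map (mapRingHom (ψ.comp ι).toRingHom)).evalEval (ψ (C X)) (ψ Y) := by
    intro ψ r
    rw [hval]
    have h : ψ.toRingHom = eval₂RingHom (eval₂RingHom (ψ.comp ι).toRingHom (ψ (C X))) (ψ Y) := by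
      refine Polynomial.ringHom_ext (fun c => ?_) (by simp)
      have h' : ψ.toRingHom.comp C = eval₂RingHom (ψ.comp ι).toRingHom (ψ (C X)) := by
        refine Polynomial.ringHom_ext (fun a => ?_) (by simp)
        simp [ι]
      change (ψ.toRingHom.comp C) c = _
      rw [h']
      simp
    exact congrFun (congrArg DFunLike.coe h) r
  let fwd : (ev.range →ₐ[R] k) →
      (Σ θ : R' →ₐ[R] k, {p : k × k // (P.map (mapRingHom θ.toRingHom)).evalEval p.1 p.2 = 0}) :=
    fun φ => ⟨(φ.comp q).comp ι, (φ (q (C X)), φ (q Y)), by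
      have h0 : q P = 0 := Subtype.ext ((hker P).2 dvd_rfl)
      have := hψ (φ.comp q) P
      rw [AlgHom.comp_apply, h0, map_zero] at this
      exact this.symm⟩
  have hbij : Function.Bijective fwd := by
    constructor
    · intro φ φ' h
      refine AlgHom.ext fun z => ?_
      obtain ⟨r, rfl⟩ := hq z
      change (φ.comp q) r = (φ'.comp q) r
      rw [hψ (φ.comp q) r, hψ (φ'.comp q) r]
      exact congrArg (fun w : (Σ θ : R' →ₐ[R] k,
        {p : k × k // (P.map (mapRingHom θ.toRingHom)).evalEval p.1 p.2 = 0}) =>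
          (r.map (mapRingHom w.1.toRingHom)).evalEval w.2.1.1 w.2.1.2) h
    · rintro ⟨θ, ⟨a, b⟩, hP⟩
      let ψ : R'[X][Y] →ₐ[R] k :=
        { eval₂RingHom (eval₂RingHom θ.toRingHom a) b with
          commutes' := fun x => by
            change eval₂ (eval₂RingHom θ.toRingHom a) b (C (C (algebraMap R R' x))) = algebraMap R k x
            rw [eval₂_C]
            change eval₂ θ.toRingHom a (C (algebraMap R R' x)) = _
            rw [eval₂_C]
            exact θ.commutes x }
      have hψP : ψ P = 0 := by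
        change eval₂ (eval₂RingHom θ.toRingHom a) b P = 0
        rw [← hval]; exact hP
      choose g hg using hq
      have hwd : ∀ r r', q r = q r' → ψ r = ψ r' := fun r r' h => by
        have h1 : ev (r - r') = 0 := by
          rw [map_sub, sub_eq_zero]; exact congrArg Subtype.val h
        obtain ⟨w, hw⟩ := (hker _).1 h1
        rw [← sub_eq_zero, ← map_sub, hw, map_mul, hψP, zero_mul]
      let φ : ev.range →ₐ[R] k :=
        { toFun := fun z => ψ (g z)
          map_one' := (hwd _ 1 (by rw [hg, map_one])).trans (map_one ψ)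
          map_zero' := (hwd _ 0 (by rw [hg, map_zero])).trans (map_zero ψ)
          map_add' := fun z w => (hwd _ (g z + g w) (by rw [hg, map_add, hg, hg])).trans (map_add ψ _ _)
          map_mul' := fun z w => (hwd _ (g z * g w) (by rw [hg, map_mul, hg, hg])).trans (map_mul ψ _ _)
          commutes' := fun x => (hwd _ (algebraMap R R'[X][Y] x) (by rw [hg, AlgHom.commutes])).trans
            (ψ.commutes x) }
      have hφ : ∀ r, φ (q r) = ψ r := fun r => hwd _ _ (by rw [hg])
      refine ⟨φ, ?_⟩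
      have e1 : (φ.comp q).comp ι = θ := AlgHom.ext fun c => by
        change φ (q (ι c)) = θ c
        rw [hφ]
        simp [ψ, ι]
      have e2 : (φ (q (C X)), φ (q Y)) = (a, b) := by
        rw [hφ, hφ]; simp [ψ]
      exact Sigma.subtype_ext e1 e2
  exact ⟨Finite.of_injective _ hbij.1, Nat.card_eq_of_bijective _ hbij⟩

theorem card_curve_points_le {k : Type v} [Field k] [Finite k] (P : k[X][Y]) (hm : P.Monic) :
    Nat.card {p : k × k // P.evalEval p.1 p.2 = 0} ≤ P.natDegree * Nat.card k := by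
  classical
  cases nonempty_fintype k
  let S : k → Finset (k × k) := fun a => (P.map (evalRingHom a)).roots.toFinset.image fun b => (a, b)
  have hS : ∀ p : {p : k × k // P.evalEval p.1 p.2 = 0}, (p : k × k) ∈ Finset.univ.biUnion S := by
    rintro ⟨⟨a, b⟩, h⟩
    refine Finset.mem_biUnion.2 ⟨a, Finset.mem_univ _, Finset.mem_image.2 ⟨b, ?_, rfl⟩⟩
    rw [Multiset.mem_toFinset, mem_roots (hm.map _).ne_zero, IsRoot, map_evalRingHom_eval]
    exact h
  refine (Nat.card_le_card_of_injective (fun p => (⟨_, hS p⟩ : Finset.univ.biUnion S))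
    fun p p' h => Subtype.ext (congrArg (fun z : Finset.univ.biUnion S => (z : k × k)) h)).trans ?_
  rw [Nat.card_eq_finsetCard, Nat.card_eq_fintype_card, mul_comm, ← Finset.card_univ, ← smul_eq_mul,
    ← Finset.sum_const]
  exact Finset.card_biUnion_le.trans (Finset.sum_le_sum fun a _ => Finset.card_image_le.trans
    ((Multiset.toFinset_card_le _).trans ((card_roots' _).trans natDegree_map_le)))

theorem est_fibration {r : ℕ} {C : ℝ} {K c d Q T bad : ℕ} {ι : Type*} [Fintype ι] [DecidableEq ι] (N : ι → ℕ)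
    (G : Finset ι) (hT : T = Fintype.card ι) (hest : Est r C T Q) (hTc : T ≤ c * Q ^ r)
    (hbad : bad = Gᶜ.card) (hbadle : bad * Q ≤ c * Q ^ r) (hN : ∀ i, N i ≤ d * Q)
    (hG : ∀ i ∈ G, |(N i : ℝ) - (Q : ℝ)| ≤ (K : ℝ) * Real.sqrt Q) :
    Est (r + 1) ((K * c + (d + 1) * c : ℕ) + C) (∑ i, N i) Q := by
  classical
  unfold Est at *
  set s := Real.sqrt (Q : ℝ)
  have hs0 : 0 ≤ s := Real.sqrt_nonneg _
  have hss : s * s = Q := Real.mul_self_sqrt (Nat.cast_nonneg Q)
  have hsQ : s ≤ (Q : ℝ) := by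
    rcases Nat.eq_zero_or_pos Q with h0 | h0
    · simp [s, h0]
    · have h1 : (1 : ℝ) ≤ (Q : ℝ) := Nat.one_le_cast.2 h0
      exact Real.sqrt_le_iff.2 ⟨by linarith, by nlinarith⟩
  have hcast : ((∑ i, N i : ℕ) : ℝ) - (Q : ℝ) ^ (r + 1) =
      (∑ i, ((N i : ℝ) - Q)) + ((T : ℝ) - (Q : ℝ) ^ r) * Q := by
    rw [Nat.cast_sum, Finset.sum_sub_distrib, Finset.sum_const, Finset.card_univ, hT, nsmul_eq_mul, pow_succ]
    ring
  have h1 : |∑ i, ((N i : ℝ) - Q)| ≤ T * (K * s) + bad * ((d + 1) * Q) := by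
    refine (Finset.abs_sum_le_sum_abs _ _).trans ?_
    rw [← Finset.sum_add_sum_compl G]
    refine add_le_add ?_ ?_
    · refine (Finset.sum_le_sum hG).trans ?_
      rw [Finset.sum_const, nsmul_eq_mul]
      refine mul_le_mul_of_nonneg_right ?_ (by positivity)
      rw [hT]
      exact_mod_cast Finset.card_le_univ G
    · rw [hbad, ← nsmul_eq_mul, ← Finset.sum_const]
      refine Finset.sum_le_sum fun i _ => ?_
      have : (N i : ℝ) ≤ d * Q := by exact_mod_cast hN i
      rw [abs_le]
      constructor <;> nlinarith [Nat.cast_nonneg (α := ℝ) Q, Nat.cast_nonneg (α := ℝ) (N i),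
        Nat.cast_nonneg (α := ℝ) d]
  have hTc' : (T : ℝ) ≤ c * (Q : ℝ) ^ r := by exact_mod_cast hTc
  have hb' : (bad : ℝ) * Q ≤ c * (Q : ℝ) ^ r := by exact_mod_cast hbadle
  rw [hcast]
  refine (mul_le_mul_of_nonneg_right (abs_add_le _ _) hs0).trans ?_
  rw [add_mul, abs_mul, Nat.abs_cast]
  have hQ0 : (0 : ℝ) ≤ Q := Nat.cast_nonneg Q
  have a1 : |∑ i, ((N i : ℝ) - Q)| * s ≤ ((K * c + (d + 1) * c : ℕ) : ℝ) * (Q : ℝ) ^ (r + 1) := by
    refine (mul_le_mul_of_nonneg_right h1 hs0).trans ?_
    push_cast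
    have e1 : (T : ℝ) * (K * s) * s ≤ K * c * (Q : ℝ) ^ (r + 1) := by
      calc (T : ℝ) * (K * s) * s = K * Q * T := by rw [← hss]; ring
        _ ≤ K * Q * (c * (Q : ℝ) ^ r) := mul_le_mul_of_nonneg_left hTc' (by positivity)
        _ = _ := by ring
    have e2 : (bad : ℝ) * ((d + 1) * Q) * s ≤ (d + 1) * c * (Q : ℝ) ^ (r + 1) := by
      calc (bad : ℝ) * ((d + 1) * Q) * s ≤ (bad : ℝ) * ((d + 1) * Q) * Q :=
            mul_le_mul_of_nonneg_left hsQ (by positivity)
        _ = (d + 1) * Q * ((bad : ℝ) * Q) := by ring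
        _ ≤ (d + 1) * Q * (c * (Q : ℝ) ^ r) := mul_le_mul_of_nonneg_left hb' (by positivity)
        _ = _ := by ring
    refine le_trans (le_of_eq (by ring)) ((add_le_add e1 e2).trans (le_of_eq (by ring)))
  have a2 : |(T : ℝ) - (Q : ℝ) ^ r| * Q * s ≤ C * (Q : ℝ) ^ (r + 1) := by
    calc |(T : ℝ) - (Q : ℝ) ^ r| * Q * s = (|(T : ℝ) - (Q : ℝ) ^ r| * s) * Q := by ring
      _ ≤ C * (Q : ℝ) ^ r * Q := mul_le_mul_of_nonneg_right hest hQ0
      _ = _ := by ring
  linarith

/-- One step of the induction. -/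
theorem langWeilEst_step {R : Type u} [CommRing R] [IsDomain R] {K : Type u} [Field K] [Algebra R K]
    [IsFractionRing R K] {F : Type u} [Field F] [Algebra K F] [Algebra R F] [IsScalarTower R K F]
    (hcl : ∀ z : F, IsAlgebraic K z → z ∈ Set.range (algebraMap K F)) {r : ℕ}
    (htrF : Algebra.trdeg K F = (r + 1 : ℕ)) (A : Subalgebra R F) (hA : A.FG)
    (hfA : ∀ z : F, ∃ p ∈ A, ∃ q ∈ A, q ≠ 0 ∧ z = p / q)
    (L : IntermediateField K F) (x : F) (htrL : Algebra.trdeg K L = r) [Algebra.EssFiniteType K L]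
    (hx : Transcendental L x) [FiniteDimensional L⟮x⟯ F] [Algebra.IsSeparable L⟮x⟯ F]
    (hclL : ∀ z : F, IsAlgebraic L z → z ∈ Set.range (algebraMap L F))
    (ih : ∀ B : Subalgebra R L, B.FG → (∀ z : L, ∃ p ∈ B, ∃ q ∈ B, q ≠ 0 ∧ z = p / q) →
      LangWeilEst.{u, v} R B r) :
    LangWeilEst.{u, v} R A (r + 1) := by
  classical
  obtain ⟨y, P, a, b, D, hPm, hD, hab, hker, hgen, hirr⟩ := exists_plane_model hx hclL
  let coeffs : L[X][Y] → Finset L := fun q => q.support.biUnion fun j =>
    (q.coeff j).support.image fun i => (q.coeff j).coeff i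
  obtain ⟨S, hSfg, hST, hSfrac⟩ := exists_model (R := R) (K := K)
    (coeffs P ∪ coeffs a ∪ coeffs b ∪ coeffs (C D))
  haveI : Algebra.FiniteType R S := (Subalgebra.fg_iff_finiteType S).1 hSfg
  haveI : IsFractionRing S L := IsFractionRing.of_field S L fun z => by
    obtain ⟨p, hp, q, hq, hq0, e⟩ := hSfrac z
    exact ⟨⟨p, hp⟩, ⟨q, hq⟩, e⟩
  let f : S →+* L := algebraMap S L
  have hf : Function.Injective f := IsFractionRing.injective S L
  have hlift : ∀ q : L[X][Y], (coeffs q : Set L) ⊆ S → ∃ q' : S[X][Y], q'.map (mapRingHom f) = q := by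
    intro q hq
    rw [← mem_lifts, lifts_iff_coeff_lifts]
    intro j
    rw [Set.mem_range]
    have : q.coeff j ∈ lifts f := by
      rw [lifts_iff_coeff_lifts]
      intro i
      by_cases h0 : (q.coeff j).coeff i = 0
      · exact ⟨0, by rw [map_zero, h0]⟩
      · have hmem : (q.coeff j).coeff i ∈ coeffs q := by
          refine Finset.mem_biUnion.2 ⟨j, mem_support_iff.2 fun h => h0 (by rw [h, coeff_zero]), ?_⟩
          exact Finset.mem_image.2 ⟨i, mem_support_iff.2 h0, rfl⟩
        exact ⟨⟨_, hq hmem⟩, rfl⟩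
    obtain ⟨w, hw⟩ := (mem_lifts _).1 this
    exact ⟨w, hw⟩
  simp only [Finset.coe_union, Set.union_subset_iff] at hST
  obtain ⟨P', hP'⟩ := hlift P hST.1.1.1
  obtain ⟨a', ha'⟩ := hlift a hST.1.1.2
  obtain ⟨b', hb'⟩ := hlift b hST.1.2
  obtain ⟨Dq, hDq⟩ := hlift (C D) hST.2
  have hff : Function.Injective (mapRingHom f) := map_injective f hf
  have hP'm : P'.Monic := monic_of_injective hff (by rw [hP']; exact hPm)
  set D' := Dq.coeff 0
  have hD' : D'.map f = D := by
    have := congrArg (fun q : L[X][Y] => q.coeff 0) hDq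
    simpa [coeff_map] using this
  have hD'0 : D' ≠ 0 := fun h => hD (by rw [← hD', h, Polynomial.map_zero])
  have hab' : a' * P' + b' * derivative P' = C D' := by
    refine map_injective (mapRingHom f) hff ?_
    rw [Polynomial.map_add, Polynomial.map_mul, Polynomial.map_mul, ← derivative_map, hP', ha', hb',
      Polynomial.map_C, coe_mapRingHom, hD', hab]
  obtain ⟨hs, hs0, hspread⟩ := exists_spread_irreducible.{u, v} L P' hP'm fun L' _ _ hfin => by
    rw [← mapRingHom_comp, ← Polynomial.map_map, hP']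
    exact hirr L' hfin
  -- evaluation
  let ev : S[X][Y] →ₐ[R] F :=
    { (aevalAeval (R := L) x y).toRingHom.comp (mapRingHom (mapRingHom f)) with
      commutes' := fun z => by
        change aevalAeval x y ((C (C (algebraMap R S z))).map (mapRingHom f)) = algebraMap R F z
        rw [Polynomial.map_C, coe_mapRingHom, Polynomial.map_C, aevalAeval_C, aeval_C]
        change algebraMap L F (algebraMap R L z) = _
        rw [IsScalarTower.algebraMap_apply R K L, IsScalarTower.algebraMap_apply R K F,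
          ← IsScalarTower.algebraMap_apply K L F] }
  have hev : ∀ q, ev q = aevalAeval x y (q.map (mapRingHom f)) := fun q => rfl
  have hker' : ∀ q, ev q = 0 ↔ P' ∣ q := fun q => by
    rw [hev, hker, ← hP']
    refine ⟨fun h => ?_, fun h => Polynomial.map_dvd _ h⟩
    rw [← modByMonic_eq_zero_iff_dvd hP'm]
    apply map_injective (mapRingHom f) hff
    rw [map_modByMonic _ hP'm, Polynomial.map_zero, modByMonic_eq_zero_iff_dvd (hP'm.map _)]
    exact h
  have hA'fg : ev.range.FG := by
    haveI : Algebra.FiniteType S S[X] := inferInstance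
    haveI : Algebra.FiniteType R S[X] := Algebra.FiniteType.trans (S := S) inferInstance inferInstance
    haveI : Algebra.FiniteType R S[X][Y] := Algebra.FiniteType.trans (S := S[X]) inferInstance inferInstance
    rw [← Algebra.map_top]
    exact Subalgebra.FG.map _ Algebra.FiniteType.out
  have hA'frac : ∀ z : F, ∃ p ∈ ev.range, ∃ q ∈ ev.range, q ≠ 0 ∧ z = p / q := by
    intro z
    obtain ⟨p, q, hq, rfl⟩ := hgen z
    have hfr : ∀ w : L, ∃ e t : S, e ≠ 0 ∧ f e * w = f t := fun w => by
      obtain ⟨t, e, he, rfl⟩ := IsFractionRing.div_surjective S w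
      exact ⟨e, t, nonZeroDivisors.ne_zero he,
        mul_div_cancel₀ _ (IsFractionRing.to_map_ne_zero_of_mem_nonZeroDivisors he)⟩
    obtain ⟨e, p', he, hp'⟩ := exists_clear_bivariate f hfr p
    obtain ⟨e', q', he', hq'⟩ := exists_clear_bivariate f hfr q
    have hne : ∀ {w : S}, w ≠ 0 → algebraMap L F (f w) ≠ 0 := fun hw =>
      (_root_.map_ne_zero _).2 ((map_ne_zero_iff _ hf).2 hw)
    have e1 : ∀ (w : S) (t : S[X][Y]), ev (C (C w) * t) = algebraMap L F (f w) * ev t := fun w t => by
      rw [map_mul, hev (C (C w))]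
      simp
    refine ⟨ev (C (C e') * p'), ⟨_, rfl⟩, ev (C (C e) * q'), ⟨_, rfl⟩, ?_, ?_⟩
    · rw [e1, hev, hq', map_mul, aevalAeval_C, aeval_C]
      exact mul_ne_zero (hne he) (mul_ne_zero (hne he') hq)
    · rw [e1, e1, hev, hev, hp', hq', map_mul, map_mul, aevalAeval_C, aeval_C, aevalAeval_C, aeval_C]
      rw [mul_left_comm (algebraMap L F (f e)), mul_div_mul_left _ _ (hne he'),
        mul_div_mul_left _ _ (hne he)]
  refine langWeilEst_of_birational hcl htrF A ev.range hA hA'fg hfA hA'frac ?_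
  -- counting
  have hclK : ∀ z : L, IsAlgebraic K z → z ∈ Set.range (algebraMap K L) := fun z hz => by
    obtain ⟨w, hw⟩ := hcl (z : F) (hz.algebraMap (A := F))
    exact ⟨w, Subtype.ext hw⟩
  obtain ⟨h₀, C₀, hh₀, hest⟩ := ih S hSfg hSfrac
  obtain ⟨N₁, c₁, hN₁, hbd⟩ := exists_card_bound.{u, v} (K := K) S hSfg htrL
  set g : S := hs * D'.leadingCoeff
  have hg0 : g ≠ 0 := mul_ne_zero hs0 (leadingCoeff_ne_zero.2 hD'0)
  obtain ⟨N₂, c₂, hN₂, hvan⟩ := exists_card_vanishing_le.{u, v} hclK S hSfg htrL g hg0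
  set c := max (P'.support.sup fun j => (P'.coeff j).natDegree) D'.natDegree
  have hc : ∀ j, (P'.coeff j).natDegree ≤ c := fun j => by
    by_cases hj : j ∈ P'.support
    · exact (Finset.le_sup (f := fun j => (P'.coeff j).natDegree) hj).trans (le_max_left _ _)
    · simp [notMem_support_iff.1 hj]
  set d := P'.natDegree
  refine ⟨h₀ * N₁ * N₂, (planeConst d c * max c₁ c₂ + (d + 1) * max c₁ c₂ : ℕ) + C₀,
    mul_ne_zero (mul_ne_zero hh₀ hN₁) hN₂, fun k _ _ _ hk => ?_⟩
  simp only [map_mul, mul_ne_zero_iff] at hk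
  obtain ⟨⟨hk0, hk1⟩, hk2⟩ := hk
  obtain ⟨hfinS, hTc⟩ := hbd k hk1
  obtain ⟨-, hbad⟩ := hvan k hk2
  obtain ⟨hfin, hcard⟩ := card_algHom_range ev P' hker' k
  refine ⟨hfin, ?_⟩
  cases nonempty_fintype (S →ₐ[R] k)
  rw [hcard, Nat.card_sigma]
  refine est_fibration _ (Finset.univ.filter fun θ : S →ₐ[R] k => θ g ≠ 0)
    (Fintype.card_eq_nat_card.symm) ?_ ?_
    (bad := Nat.card {φ : S →ₐ[R] k // φ g = 0}) ?_ ?_ (fun θ => ?_) (fun θ hθ => ?_)
  · exact (hest k hk0).2
  · exact hTc.trans (Nat.mul_le_mul_right _ (le_max_left _ _))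
  · rw [Nat.card_eq_fintype_card, Fintype.card_subtype]
    apply congrArg Finset.card
    ext φ
    simp
  · exact hbad.trans (Nat.mul_le_mul_right _ (le_max_right _ _))
  · exact (card_curve_points_le _ (hP'm.map _)).trans (Nat.mul_le_mul_right _ natDegree_map_le)
  · rw [Finset.mem_filter] at hθ
    have hθg := hθ.2
    rw [map_mul, mul_ne_zero_iff] at hθg
    let m := mapRingHom θ.toRingHom
    have hmd : (P'.map m).natDegree = d := hP'm.natDegree_map _
    have := abs_card_zeros_sub_le (P'.map m) (hP'm.map _) (c := c)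
      (fun j => by rw [coeff_map, coe_mapRingHom]; exact natDegree_map_le.trans (hc j))
      (fun k' _ _ _ => by
        rw [Polynomial.map_map, mapRingHom_comp]
        refine hspread k' _ ?_
        change algebraMap k k' (θ hs) ≠ 0
        exact (_root_.map_ne_zero _).2 hθg.1)
      (a'.map m) (b'.map m) (D'.map θ.toRingHom)
      (by rw [derivative_map, ← Polynomial.map_mul, ← Polynomial.map_mul, ← Polynomial.map_add, hab',
            Polynomial.map_C, coe_mapRingHom])
      (fun h => hθg.2 (by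
        have := congrArg (fun q : k[X] => q.coeff D'.natDegree) h
        simpa [coeff_map] using this))
      (natDegree_map_le.trans (le_max_right _ _))
    rwa [hmd] at this

/-- **The Lang–Weil estimate**, uniform over a base. -/
theorem langWeilEst {R : Type u} [CommRing R] [IsDomain R] {K : Type u} [Field K] [Algebra R K]
    [IsFractionRing R K] [PerfectField K] (r : ℕ) : ∀ {F : Type u} [Field F] [Algebra K F] [Algebra R F]
    [IsScalarTower R K F] [Algebra.EssFiniteType K F],
    (∀ z : F, IsAlgebraic K z → z ∈ Set.range (algebraMap K F)) → Algebra.trdeg K F = (r : ℕ) →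
    ∀ A : Subalgebra R F, A.FG → (∀ z : F, ∃ p ∈ A, ∃ q ∈ A, q ≠ 0 ∧ z = p / q) →
      LangWeilEst.{u, v} R A r := by
  induction r with
  | zero =>
    intro F _ _ _ _ _ hcl htr A hA hfA
    haveI : FaithfulSMul K F := (faithfulSMul_iff_algebraMap_injective K F).2 (algebraMap K F).injective
    haveI : Algebra.IsAlgebraic K F := trdeg_eq_zero_iff.1 (by exact_mod_cast htr)
    have hinj : Function.Injective (algebraMap R F) := by
      rw [IsScalarTower.algebraMap_eq R K F, RingHom.coe_comp]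
      exact (algebraMap K F).injective.comp (IsFractionRing.injective R K)
    refine langWeilEst_of_birational hcl htr A ⊥ hA Subalgebra.fg_bot hfA (fun z => ?_) ?_
    · obtain ⟨w, rfl⟩ := hcl z (Algebra.IsAlgebraic.isAlgebraic z)
      obtain ⟨p, q, hq, rfl⟩ := IsFractionRing.div_surjective R w
      refine ⟨_, (⊥ : Subalgebra R F).algebraMap_mem p, _, (⊥ : Subalgebra R F).algebraMap_mem q,
        (map_ne_zero_iff _ hinj).2 (nonZeroDivisors.ne_zero hq), ?_⟩
      rw [IsScalarTower.algebraMap_apply R K F p, IsScalarTower.algebraMap_apply R K F q, map_div₀]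
    · refine ⟨1, 0, one_ne_zero, fun k _ _ _ _ => ⟨(card_algHom_bot hinj k).1, ?_⟩⟩
      unfold Est
      rw [(card_algHom_bot hinj k).2]
      simp
  | succ r ih =>
    intro F _ _ _ _ _ hcl htr A hA hfA
    obtain ⟨L, x, htrL, hess, hx, hfin, hsep, hclL⟩ := exists_fibration htr
    haveI := hess; haveI := hfin; haveI := hsep
    refine langWeilEst_step hcl htr A hA hfA L x htrL hx hclL fun B hB hfB => ih (fun z hz => ?_) htrL B hB hfB
    obtain ⟨w, hw⟩ := hcl (z : F) (hz.algebraMap (A := F))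
    exact ⟨w, Subtype.ext hw⟩

end Groth.Agent.H27LangWeil
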