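import Groth.Agent.H27LangWeil.DomainEstimate
import Groth.Agent.H27Zeta.PointBoundField
import Groth.Agent.H27Zeta.PointCount
import Groth.Agent.H8Props.FieldDimScheme
import Mathlib

/-!
# Points of a scheme of finite type over a finite field on a piece of a component
-/

set_option autoImplicit false
set_option maxHeartbeats 800000
universe u

noncomputable section

open CategoryTheory CategoryTheory.Limits AlgebraicGeometry TopologicalSpace

namespace Groth.Agent.H27LangWeil

variable {k : Type u} [Field k] {X : Scheme.{u}} (f : X ⟶ Spec (CommRingCat.of k))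
  [∀ x : X, Algebra k (X.residueField x)]

theorem specMap_evaluation {U : X.Opens} (hU : IsAffineOpen U) (η : X) (hη : η ∈ U) :
    Spec.map (X.evaluation U η hη) ≫ hU.fromSpec = X.fromSpecResidueField η := by
  have h := hU.fromSpecStalk_eq_fromSpecStalk hη
  simp only [IsAffineOpen.fromSpecStalk] at h
  rw [← Scheme.germ_residue, Spec.map_comp, Category.assoc, h]
  rfl

theorem evaluation_div {U : X.Opens} (hU : IsAffineOpen U) (η : X) (hη : η ∈ U) (z : X.residueField η) :
    ∃ p q : Γ(X, U), (X.evaluation U η hη).hom q ≠ 0 ∧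
      z = (X.evaluation U η hη).hom p / (X.evaluation U η hη).hom q := by
  obtain ⟨w, rfl⟩ := IsLocalRing.residue_surjective z
  letI := TopCat.Presheaf.algebra_section_stalk X.presheaf (⟨η, hη⟩ : U)
  haveI := hU.isLocalization_stalk ⟨η, hη⟩
  obtain ⟨⟨p, q⟩, hpq⟩ := IsLocalization.surj (hU.primeIdealOf ⟨η, hη⟩).asIdeal.primeCompl w
  have hq : IsUnit ((X.presheaf.germ U η hη).hom q.1) :=
    IsLocalization.map_units (M := (hU.primeIdealOf ⟨η, hη⟩).asIdeal.primeCompl) (X.presheaf.stalk η) q
  have hne : (X.evaluation U η hη).hom q.1 ≠ 0 := (hq.map (X.residue η).hom).ne_zero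
  refine ⟨p, q.1, hne, ?_⟩
  rw [eq_div_iff hne]
  exact (map_mul (X.residue η).hom w _).symm.trans (congrArg (X.residue η).hom hpq)

theorem nilpotent_of_evaluation_eq_zero {U : X.Opens} (hU : IsAffineOpen U) (η : X) (hη : η ∈ U)
    (hgen : (U : Set X) ⊆ closure {η}) (s : Γ(X, U)) (hs : (X.evaluation U η hη).hom s = 0) :
    IsNilpotent s := by
  rw [← mem_nilradical, nilradical_eq_sInf, Ideal.mem_sInf]
  intro p hp
  by_contra hnot
  have hmem : (⟨p, hp⟩ : PrimeSpectrum Γ(X, U)) ∈ PrimeSpectrum.basicOpen s := hnot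
  have h1 : hU.fromSpec (⟨p, hp⟩ : PrimeSpectrum Γ(X, U)) ∈ X.basicOpen s := by
    have h2 := hU.fromSpec_preimage_basicOpen s
    exact (show (⟨p, hp⟩ : PrimeSpectrum Γ(X, U)) ∈ hU.fromSpec ⁻¹ᵁ X.basicOpen s from h2 ▸ hmem)
  have h3 : η ⤳ hU.fromSpec (⟨p, hp⟩ : PrimeSpectrum Γ(X, U)) :=
    specializes_iff_mem_closure.2 (hgen (X.basicOpen_le s h1))
  exact (Scheme.evaluation_ne_zero_iff_mem_basicOpen X η hη s).2 (h3.mem_open (X.basicOpen s).2 h1) hs

theorem exists_affine_nhd (η : X) {O : Set X} (hO : IsOpen O) (h : η ∈ O) :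
    ∃ U : X.Opens, IsAffineOpen U ∧ η ∈ U ∧ (U : Set X) ⊆ O := by
  obtain ⟨U, hU, hηU, hUO⟩ := Opens.isBasis_iff_nbhd.mp X.isBasis_affineOpens (show η ∈ (⟨O, hO⟩ : X.Opens) from h)
  exact ⟨U, hU, hηU, hUO⟩

variable (halg : ∀ x : X, Spec.map (CommRingCat.ofHom (algebraMap k (X.residueField x))) =
  X.fromSpecResidueField x ≫ f)

include halg in
theorem evaluation_algebraMap {U : X.Opens} (hU : IsAffineOpen U) (η : X) (hη : η ∈ U) (c : k) :
    (X.evaluation U η hη).hom ((Spec.preimage (hU.fromSpec ≫ f)).hom c) =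
      algebraMap k (X.residueField η) c := by
  have h : Spec.preimage (hU.fromSpec ≫ f) ≫ X.evaluation U η hη =
      CommRingCat.ofHom (algebraMap k (X.residueField η)) := by
    apply Spec.map_injective
    rw [Spec.map_comp, Spec.map_preimage, halg, ← Category.assoc, specMap_evaluation hU η hη]
  exact RingHom.congr_fun (congrArg CommRingCat.Hom.hom h) c

include halg in
theorem essFiniteType_residueField [LocallyOfFiniteType f] (η : X) :
    Algebra.EssFiniteType k (X.residueField η) := by
  obtain ⟨U, hU, hη, -⟩ := exists_affine_nhd η isOpen_univ trivial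
  letI : Algebra k Γ(X, U) := (Spec.preimage (hU.fromSpec ≫ f)).hom.toAlgebra
  haveI : Algebra.FiniteType k Γ(X, U) := by
    haveI : LocallyOfFiniteType (Spec.map (Spec.preimage (hU.fromSpec ≫ f))) := by
      rw [Spec.map_preimage]; infer_instance
    exact (HasRingHomProperty.Spec_iff (P := @LocallyOfFiniteType) (φ := Spec.preimage (hU.fromSpec ≫ f))).mp ‹_›
  haveI := hU.isLocalization_stalk ⟨η, hη⟩
  letI : Algebra k (X.presheaf.stalk η) :=
    ((X.presheaf.germ U η hη).hom.comp (algebraMap k Γ(X, U))).toAlgebra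
  letI : Algebra Γ(X, U) (X.presheaf.stalk η) := (X.presheaf.germ U η hη).hom.toAlgebra
  haveI : IsScalarTower k Γ(X, U) (X.presheaf.stalk η) := IsScalarTower.of_algebraMap_eq fun _ => rfl
  haveI : Algebra.EssFiniteType Γ(X, U) (X.presheaf.stalk η) :=
    Algebra.EssFiniteType.of_isLocalization _ (hU.primeIdealOf ⟨η, hη⟩).asIdeal.primeCompl
  haveI : Algebra.EssFiniteType k (X.presheaf.stalk η) :=
    Algebra.EssFiniteType.comp k Γ(X, U) (X.presheaf.stalk η)
  exact Algebra.EssFiniteType.of_surjective
    ({ (X.residue η).hom with commutes' := fun c => evaluation_algebraMap f halg hU η hη c } :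
      X.presheaf.stalk η →ₐ[k] X.residueField η) IsLocalRing.residue_surjective

include halg in
theorem trdeg_residueField [LocallyOfFiniteType f] (η : X) {r : ℕ}
    (hr : topologicalKrullDim (closure ({η} : Set X)) = r) :
    Algebra.trdeg k (X.residueField η) = (r : ℕ) := by
  have hpre : IsPreimmersion (X.fromSpecResidueField η) := inferInstance
  obtain ⟨s, hs, ht⟩ := @H8Props.FieldDim.exists_trdeg k _ X f _ (X.residueField η) _
    (X.fromSpecResidueField η) hpre _ (halg η).symm (IsLocalRing.closedPoint (X.residueField η))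
  rw [Scheme.fromSpecResidueField_apply] at hs
  change topologicalKrullDim (closure ({η} : Set X)) = s at hs
  rw [hr] at hs
  have : r = s := by exact_mod_cast hs
  rw [ht, this]

/-- The `k'`-points lying in a set. -/
def ptsIn (k' : Type u) [Field k'] [Algebra k k'] (S : Set X) : Type u :=
  {g : Spec (CommRingCat.of k') ⟶ X //
    g ≫ f = Spec.map (CommRingCat.ofHom (algebraMap k k')) ∧ g (IsLocalRing.closedPoint k') ∈ S}

include halg in
/-- An affine piece of a component with the constants among its functions. -/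
theorem exists_piece [LocallyOfFiniteType f] (η : X) (O : Set X) (hO : IsOpen O) (hηO : η ∈ O)
    (hgen : O ⊆ closure {η}) :
    ∃ (V : X.Opens) (A : Subalgebra k (X.residueField η)), η ∈ V ∧ (V : Set X) ⊆ O ∧ A.FG ∧
      (∀ z : X.residueField η, ∃ p ∈ A, ∃ q ∈ A, q ≠ 0 ∧ z = p / q) ∧
      (∀ c : X.residueField η, IsAlgebraic k c → c ∈ A) ∧
      ∀ (k' : Type u) [Field k'] [Algebra k k'], Nat.card (ptsIn f k' (V : Set X)) = Nat.card (A →ₐ[k] k') := by
  classical
  haveI := essFiniteType_residueField f halg η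
  obtain ⟨U, hU, hηU, hUO⟩ := exists_affine_nhd η hO hηO
  haveI : FiniteDimensional k (algebraicClosure k (X.residueField η)) :=
    H1CAlg.finiteDimensional_algebraicClosure k (X.residueField η)
  set b := Module.finBasis k (algebraicClosure k (X.residueField η))
  choose p q hq hpq using fun i => evaluation_div hU η hηU ((b i : X.residueField η))
  set s : Γ(X, U) := ∏ i, q i
  have hs : (X.evaluation U η hηU).hom s ≠ 0 := by
    rw [map_prod, Finset.prod_ne_zero_iff]
    exact fun i _ => hq i
  let V : X.Opens := X.basicOpen s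
  have hV : IsAffineOpen V := hU.basicOpen s
  have hηV : η ∈ V := (Scheme.evaluation_ne_zero_iff_mem_basicOpen X η hηU s).1 hs
  have hVU : V ≤ U := X.basicOpen_le s
  have hVO : (V : Set X) ⊆ O := (SetLike.coe_subset_coe.2 hVU).trans hUO
  letI : Algebra k Γ(X, V) := (Spec.preimage (hV.fromSpec ≫ f)).hom.toAlgebra
  have hfmap : Spec.map (CommRingCat.ofHom (algebraMap k Γ(X, V))) = hV.fromSpec ≫ f := Spec.map_preimage _
  haveI : Algebra.FiniteType k Γ(X, V) := by
    haveI : LocallyOfFiniteType (Spec.map (Spec.preimage (hV.fromSpec ≫ f))) := by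
      rw [Spec.map_preimage]; infer_instance
    exact (HasRingHomProperty.Spec_iff (P := @LocallyOfFiniteType) (φ := Spec.preimage (hV.fromSpec ≫ f))).mp ‹_›
  let ev : Γ(X, V) →ₐ[k] X.residueField η :=
    { (X.evaluation V η hηV).hom with commutes' := fun c => evaluation_algebraMap f halg hV η hηV c }
  have hres : ∀ w : Γ(X, U), (X.evaluation U η hηU).hom w =
      ev ((X.presheaf.map (homOfLE hVU).op).hom w) := fun w =>
    (congrArg (X.residue η).hom (TopCat.Presheaf.germ_res_apply X.presheaf (homOfLE hVU) η hηV w)).symm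
  have hAfrac : ∀ z : X.residueField η, ∃ p ∈ ev.range, ∃ q ∈ ev.range, q ≠ 0 ∧ z = p / q := fun z => by
    obtain ⟨a, c, hc, h⟩ := evaluation_div hV η hηV z
    exact ⟨ev a, ⟨a, rfl⟩, ev c, ⟨c, rfl⟩, hc, h⟩
  have hsu : IsUnit ((X.presheaf.map (homOfLE hVU).op).hom s) :=
    RingedSpace.isUnit_res_basicOpen _ s
  have hb : ∀ i, (b i : X.residueField η) ∈ ev.range := fun i => by
    obtain ⟨w, hw⟩ := hsu.exists_right_inv
    refine ⟨(X.presheaf.map (homOfLE hVU).op).hom (p i * ∏ j ∈ Finset.univ.erase i, q j) * w, ?_⟩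
    have h1 : ev ((X.presheaf.map (homOfLE hVU).op).hom s) * ev w = 1 := by rw [← map_mul, hw, map_one]
    change ev _ = _
    rw [map_mul, ← hres, map_mul, hpq i, eq_div_iff (hq i)]
    rw [← hres, show s = q i * ∏ j ∈ Finset.univ.erase i, q j from
      (Finset.mul_prod_erase _ _ (Finset.mem_univ i)).symm, map_mul] at h1
    linear_combination (X.evaluation U η hηU).hom (p i) * h1
  have hconst : ∀ c : X.residueField η, IsAlgebraic k c → c ∈ ev.range := by
    intro c hc
    have h := b.sum_repr (⟨c, mem_algebraicClosure_iff.2 hc⟩ : algebraicClosure k (X.residueField η))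
    have h' := congrArg (algebraicClosure k (X.residueField η)).val h
    rw [map_sum] at h'
    rw [show c = (algebraicClosure k (X.residueField η)).val ⟨c, mem_algebraicClosure_iff.2 hc⟩ from rfl, ← h']
    refine Subalgebra.sum_mem _ fun i _ => ?_
    rw [map_smul]
    exact Subalgebra.smul_mem _ (hb i) _
  refine ⟨V, ev.range, hηV, hVO, ?_, hAfrac, hconst, fun k' _ _ => ?_⟩
  · rw [← Algebra.map_top]
    exact Subalgebra.FG.map _ Algebra.FiniteType.out
  let Ψ : (ev.range →ₐ[k] k') → ptsIn f k' (V : Set X) := fun φ =>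
    ⟨Spec.map (CommRingCat.ofHom (φ.comp ev.rangeRestrict).toRingHom) ≫ hV.fromSpec, by
      rw [Category.assoc, ← hfmap, ← Spec.map_comp]
      exact congrArg Spec.map (CommRingCat.hom_ext (RingHom.ext (φ.comp ev.rangeRestrict).commutes)), by
      rw [Scheme.Hom.comp_apply, SetLike.mem_coe, ← SetLike.mem_coe]
      exact hV.range_fromSpec.le ⟨_, rfl⟩⟩
  refine (Nat.card_eq_of_bijective Ψ ⟨fun φ φ' h => ?_, fun ⟨g, hgf, hgV⟩ => ?_⟩).symm
  · have h1 := Spec.map_injective ((cancel_mono hV.fromSpec).1 (congrArg Subtype.val h))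
    refine AlgHom.ext fun z => ?_
    obtain ⟨w, rfl⟩ := ev.rangeRestrict_surjective z
    exact RingHom.congr_fun (congrArg CommRingCat.Hom.hom h1) w
  · have hsub : Set.range g ⊆ Set.range hV.fromSpec := by
      rintro _ ⟨z, rfl⟩
      rw [hV.range_fromSpec, Subsingleton.elim (α := PrimeSpectrum k') z (IsLocalRing.closedPoint k')]
      exact hgV
    let θ : Γ(X, V) ⟶ CommRingCat.of k' := Spec.preimage (IsOpenImmersion.lift hV.fromSpec g hsub)
    have hθ : Spec.map θ ≫ hV.fromSpec = g := by rw [Spec.map_preimage, IsOpenImmersion.lift_fac]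
    let θ' : Γ(X, V) →ₐ[k] k' :=
      { θ.hom with
        commutes' := fun c => by
          have : CommRingCat.ofHom (algebraMap k Γ(X, V)) ≫ θ = CommRingCat.ofHom (algebraMap k k') :=
            Spec.map_injective (by rw [Spec.map_comp, hfmap, ← hgf, ← hθ, Category.assoc])
          exact RingHom.congr_fun (congrArg CommRingCat.Hom.hom this) c }
    have hnil : ∀ w, ev w = 0 → θ' w = 0 := fun w hw =>
      ((nilpotent_of_evaluation_eq_zero hV η hηV (hVO.trans hgen) w hw).map θ'.toRingHom).eq_zero
    choose pre hpre using ev.rangeRestrict_surjective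
    have hwd : ∀ a c, ev.rangeRestrict a = ev.rangeRestrict c → θ' a = θ' c := fun a c h => by
      rw [← sub_eq_zero, ← map_sub]
      exact hnil _ (by rw [map_sub, sub_eq_zero]; exact congrArg Subtype.val h)
    let φ : ev.range →ₐ[k] k' :=
      { toFun := fun z => θ' (pre z)
        map_one' := (hwd _ 1 (by rw [hpre, map_one])).trans (map_one θ')
        map_zero' := (hwd _ 0 (by rw [hpre, map_zero])).trans (map_zero θ')
        map_add' := fun z w => (hwd _ (pre z + pre w) (by rw [hpre, map_add, hpre, hpre])).trans (map_add θ' _ _)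
        map_mul' := fun z w => (hwd _ (pre z * pre w) (by rw [hpre, map_mul, hpre, hpre])).trans (map_mul θ' _ _)
        commutes' := fun c => (hwd _ (algebraMap k Γ(X, V) c) (by rw [hpre, AlgHom.commutes])).trans
          (θ'.commutes c) }
    refine ⟨φ, Subtype.ext ?_⟩
    change Spec.map (CommRingCat.ofHom (φ.comp ev.rangeRestrict).toRingHom) ≫ hV.fromSpec = g
    rw [← hθ]
    congr 2
    exact CommRingCat.hom_ext (RingHom.ext fun w => hwd _ w (hpre _))

/-- Points lying in a closed subset of small dimension. -/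
theorem exists_ptsIn_le [Finite k] [LocallyOfFiniteType f] [QuasiCompact f] (W : Set X) (hW : IsClosed W) (n : ℕ)
    (hn : topologicalKrullDim W ≤ n) :
    ∃ c : ℕ, ∀ (k' : Type u) [Field k'] [Algebra k k'] [Finite k'],
      Nat.card (ptsIn f k' W) ≤ c * Nat.card k ^ (n * Module.finrank k k') := by
  classical
  let Zc : Closeds X := ⟨W, hW⟩
  let w := (Scheme.IdealSheafData.vanishingIdeal Zc).subschemeι
  have hrange : Set.range w = W := by
    rw [Scheme.IdealSheafData.range_subschemeι]
    exact Scheme.IdealSheafData.coe_support_vanishingIdeal _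
  haveI : QuasiCompact (w ≫ f) := inferInstance
  obtain ⟨c, hc⟩ := H27Zeta.exists_pointCount_le (w ≫ f) n (by
    rw [← H8Props.FieldDim.dim_range w.isClosedEmbedding.isEmbedding, hrange]
    exact hn)
  refine ⟨c, fun k' _ _ _ => le_trans ?_ (hc k')⟩
  haveI := H27Zeta.finite_points (w ≫ f) k'
  have hsurj : ∀ g : ptsIn f k' W, ∃ g' : Spec (CommRingCat.of k') ⟶
      (Scheme.IdealSheafData.vanishingIdeal Zc).subscheme, g' ≫ w = g.1 := by
    rintro ⟨g, -, hgW⟩
    rw [← hrange] at hgW
    obtain ⟨y, hy⟩ := hgW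
    obtain ⟨θ, hθ⟩ : ∃ θ : X.residueField (w y) ⟶ CommRingCat.of k',
        Spec.map θ ≫ X.fromSpecResidueField (w y) = g := by
      have e := (Scheme.SpecToEquivOfField k' X).symm_apply_apply g
      revert e
      generalize hp : (Scheme.SpecToEquivOfField k' X) g = pr
      obtain ⟨x, θ⟩ := pr
      intro e
      have hx : x = w y := by
        rw [hy, ← e]
        change x = (Spec.map θ ≫ X.fromSpecResidueField x) _
        rw [Scheme.Hom.comp_apply, Scheme.fromSpecResidueField_apply]
      subst hx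
      exact ⟨θ, e⟩
    have hbij : Function.Bijective (w.residueFieldMap y).hom := by
      refine ⟨RingHom.injective _, fun z => ?_⟩
      obtain ⟨z, rfl⟩ := IsLocalRing.residue_surjective z
      obtain ⟨v, rfl⟩ := w.stalkMap_surjective y z
      exact ⟨X.residue _ v, congrArg (fun φ : X.presheaf.stalk _ ⟶ _ => φ.hom v)
        (Scheme.residue_residueFieldMap w y)⟩
    let ei : X.residueField (w y) ≅ (Scheme.IdealSheafData.vanishingIdeal Zc).subscheme.residueField y :=
      (RingEquiv.ofBijective _ hbij).toCommRingCatIso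
    refine ⟨Spec.map (ei.inv ≫ θ) ≫
      (Scheme.IdealSheafData.vanishingIdeal Zc).subscheme.fromSpecResidueField y, ?_⟩
    show _ = g
    rw [Category.assoc, ← Scheme.Hom.SpecMap_residueFieldMap_fromSpecResidueField w y, ← Category.assoc,
      ← Spec.map_comp, show w.residueFieldMap y = ei.hom from rfl, Iso.hom_inv_id_assoc, hθ]
  choose g' hg' using hsurj
  unfold SgaExt.pointCount
  refine Nat.card_le_card_of_injective (fun g => ⟨g' g, by rw [← Category.assoc, hg']; exact g.2.1⟩)
    fun a b h => Subtype.ext ?_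
  rw [← hg' a, ← hg' b, show g' a = g' b from congrArg Subtype.val h]

end Groth.Agent.H27LangWeil
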