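import Groth.Agent.S11008
import Groth.Agent.H23FunFld.Weil
import Mathlib

/-!
# Function field of an absolutely irreducible monic plane curve, and a bound for its genus
-/

set_option autoImplicit false
universe u

noncomputable section

open Polynomial
open scoped Polynomial.Bivariate

namespace Groth.Agent.H27LangWeil

variable {F : Type u} [Field F]

theorem aevalAeval_eq_eval₂ {K : Type*} [CommRing K] [Algebra F K] (x y : K) (q : F[X][Y]) :
    aevalAeval x y q = eval₂ (aeval x : F[X] →ₐ[F] K).toRingHom y q := by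
  induction q using Polynomial.induction_on' with
  | add f g hf hg => rw [map_add, eval₂_add, hf, hg]
  | monomial n a =>
    rw [← C_mul_X_pow_eq_monomial, map_mul, map_pow, aevalAeval_C, aevalAeval_Y, eval₂_mul,
      eval₂_C, eval₂_X_pow]
    rfl

theorem equivMvPolynomial_map {k' : Type*} [Field k'] (φ : F →+* k') (q : F[X][Y]) :
    MvPolynomial.map φ (Polynomial.Bivariate.equivMvPolynomial F q) =
      Polynomial.Bivariate.equivMvPolynomial k' (q.map (mapRingHom φ)) := by
  have h : (MvPolynomial.map φ).comp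
        (Polynomial.Bivariate.equivMvPolynomial F : F[X][Y] →+* MvPolynomial (Fin 2) F) =
      (Polynomial.Bivariate.equivMvPolynomial k' : k'[X][Y] →+* MvPolynomial (Fin 2) k').comp
        (mapRingHom (mapRingHom φ)) := by
    refine Polynomial.ringHom_ext (fun p => ?_) (by simp)
    have h1 : ((MvPolynomial.map φ).comp
          (Polynomial.Bivariate.equivMvPolynomial F : F[X][Y] →+* MvPolynomial (Fin 2) F)).comp C =
        ((Polynomial.Bivariate.equivMvPolynomial k' : k'[X][Y] →+* MvPolynomial (Fin 2) k').comp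
          (mapRingHom (mapRingHom φ))).comp C := by
      refine Polynomial.ringHom_ext (fun a => ?_) ?_ <;> simp
    exact congrFun (congrArg DFunLike.coe h1) p
  exact congrFun (congrArg DFunLike.coe h) q

/-- The function field of an absolutely irreducible monic plane curve. -/
theorem exists_plane_field (P : F[X][Y]) (hm : P.Monic)
    (hirr : ∀ (k' : Type u) [Field k'] [Algebra F k'], FiniteDimensional F k' →
      Irreducible (P.map (mapRingHom (algebraMap F k')))) :
    ∃ (K : Type u) (_ : Field K) (_ : Algebra F K) (x y : K),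
      FunFld.IsFunctionField F K ∧ Transcendental F x ∧
      (∀ q : F[X][Y], aevalAeval x y q = 0 ↔ P ∣ q) ∧
      ∀ z : K, ∃ a b : F[X][Y], aevalAeval x y b ≠ 0 ∧ z = aevalAeval x y a / aevalAeval x y b := by
  have hi : Irreducible P := by
    have h := hirr F inferInstance
    rwa [Algebra.algebraMap_self, Polynomial.mapRingHom_id, Polynomial.map_id] at h
  have hd : 0 < P.natDegree := by
    rcases Nat.eq_zero_or_pos P.natDegree with h | h
    · exact absurd ((hm.natDegree_eq_zero).1 h ▸ isUnit_one) hi.not_isUnit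
    · exact h
  have hp : Prime P := hi.prime
  haveI : (Ideal.span {P}).IsPrime := (Ideal.span_singleton_prime hp.ne_zero).2 hp
  let A := F[X][Y] ⧸ Ideal.span {P}
  let K := FractionRing A
  let ι : F[X][Y] →ₐ[F] K :=
    (IsScalarTower.toAlgHom F A K).comp (Ideal.Quotient.mkₐ F (Ideal.span {P}))
  let x : K := ι (C X)
  let y : K := ι Y
  have hι : aevalAeval x y = ι := by
    refine Polynomial.algHom_ext' ?_ ?_
    · refine Polynomial.algHom_ext ?_
      simp [x]
    · simp [y]
  have hker : ∀ q : F[X][Y], aevalAeval x y q = 0 ↔ P ∣ q := fun q => by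
    rw [hι, ← Ideal.mem_span_singleton, ← Ideal.Quotient.eq_zero_iff_mem]
    exact map_eq_zero_iff _ (IsFractionRing.injective A K)
  have hgen : ∀ z : K, ∃ a b : F[X][Y], aevalAeval x y b ≠ 0 ∧
      z = aevalAeval x y a / aevalAeval x y b := fun z => by
    obtain ⟨a, b, hb, rfl⟩ := IsFractionRing.div_surjective A z
    obtain ⟨a', rfl⟩ := Ideal.Quotient.mk_surjective a
    obtain ⟨b', rfl⟩ := Ideal.Quotient.mk_surjective b
    refine ⟨a', b', ?_, by rw [hι]; rfl⟩
    rw [hι]
    have h0 := IsFractionRing.to_map_ne_zero_of_mem_nonZeroDivisors (K := K) hb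
    exact h0
  let e := Polynomial.Bivariate.equivMvPolynomial F
  have hev : ∀ q, MvPolynomial.aeval ![x, y] (e q) = aevalAeval x y q := fun q => by
    have h : (MvPolynomial.aeval ![x, y]).comp e.toAlgHom = aevalAeval x y := by
      refine Polynomial.algHom_ext' ?_ ?_
      · refine Polynomial.algHom_ext ?_
        simp [e]
      · simp [e]
    exact congrFun (congrArg DFunLike.coe h) q
  have hx : Transcendental F x := by
    rw [transcendental_iff]
    intro p hp0
    by_contra hne
    have h : P ∣ C p := (hker (C p)).1 (by rw [aevalAeval_C]; exact hp0)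
    have := natDegree_le_of_dvd h (C_ne_zero.2 hne)
    rw [natDegree_C] at this
    omega
  refine ⟨K, inferInstance, inferInstance, x, y, ?_, hx, hker, hgen⟩
  refine ((S11008.result F K).2 ⟨x, y, e P, ?_, fun k' _ _ hk' => ?_, ?_⟩).1
  · refine eq_top_iff.2 fun z _ => ?_
    obtain ⟨a, b, -, rfl⟩ := hgen z
    have hmem : ∀ q, aevalAeval x y q ∈ IntermediateField.adjoin F ({x, y} : Set K) := fun q => by
      rw [← hev]
      induction e q using MvPolynomial.induction_on with
      | C c => rw [MvPolynomial.aeval_C]; exact IntermediateField.algebraMap_mem _ c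
      | add f g hf hg => rw [map_add]; exact add_mem hf hg
      | mul_X f i hf =>
        rw [map_mul, MvPolynomial.aeval_X]
        refine mul_mem hf (IntermediateField.subset_adjoin F _ ?_)
        fin_cases i <;> simp
    exact div_mem (hmem a) (hmem b)
  · rw [equivMvPolynomial_map]
    exact (MulEquiv.irreducible_iff (Polynomial.Bivariate.equivMvPolynomial k')).2 (hirr k' hk')
  · ext f
    obtain ⟨q, rfl⟩ := e.surjective f
    rw [RingHom.mem_ker, hev, hker, Ideal.mem_span_singleton]
    exact (map_dvd_iff e).symm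

section

variable {K : Type u} [Field K] [Algebra F K] {x y : K} {P : F[X][Y]}

variable (hK : FunFld.IsFunctionField F K) (hx : Transcendental F x)
  (hker : ∀ q : F[X][Y], aevalAeval x y q = 0 ↔ P ∣ q)
  (hgen : ∀ z : K, ∃ a b : F[X][Y], aevalAeval x y b ≠ 0 ∧
    z = aevalAeval x y a / aevalAeval x y b)
  (hm : P.Monic)

theorem aeval_mem_adjoin (q : F[X][Y]) :
    aevalAeval x y q ∈ (IntermediateField.adjoin (IntermediateField.adjoin F ({x} : Set K))
      ({y} : Set K)).restrictScalars F := by
  rw [IntermediateField.adjoin_adjoin_left]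
  induction q using Polynomial.induction_on' with
  | add f g hf hg => rw [map_add]; exact add_mem hf hg
  | monomial n a =>
    rw [← C_mul_X_pow_eq_monomial, map_mul, map_pow, aevalAeval_C, aevalAeval_Y]
    refine mul_mem ?_ (pow_mem (IntermediateField.subset_adjoin F ({x} ∪ {y} : Set K) (Or.inr rfl : y ∈ ({x} ∪ {y} : Set K))) n)
    exact IntermediateField.algebra_adjoin_le_adjoin F _
      (Algebra.adjoin_mono (R := F) (s := ({x} : Set K)) Set.subset_union_left
        (by rw [Algebra.adjoin_singleton_eq_range_aeval]; exact ⟨a, rfl⟩))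

include hker hgen hm in
theorem finrank_le :
    Module.finrank (IntermediateField.adjoin F ({x} : Set K)) K ≤ P.natDegree := by
  set E := IntermediateField.adjoin F ({x} : Set K)
  let xE : E := ⟨x, IntermediateField.mem_adjoin_simple_self F x⟩
  let Q : E[X] := P.map (aeval xE).toRingHom
  have hQm : Q.Monic := hm.map _
  have hQd : Q.natDegree = P.natDegree := hm.natDegree_map _
  have hQy : aeval y Q = 0 := by
    rw [← (hker P).2 dvd_rfl, aeval_def, eval₂_map]
    have : (algebraMap E K).comp (aeval xE).toRingHom = (aeval x : F[X] →ₐ[F] K).toRingHom := by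
      refine Polynomial.ringHom_ext (fun a => ?_) ?_
      · simp
      · simp [xE]
    rw [this, aevalAeval_eq_eval₂]
  have hint : IsIntegral E y := ⟨Q, hQm, hQy⟩
  have htop : IntermediateField.adjoin E ({y} : Set K) = ⊤ := eq_top_iff.2 fun z _ => by
    obtain ⟨a, b, -, rfl⟩ := hgen z
    exact div_mem (aeval_mem_adjoin (x := x) (y := y) a) (aeval_mem_adjoin (x := x) (y := y) b)
  rw [← IntermediateField.finrank_top', ← htop, IntermediateField.adjoin.finrank hint, ← hQd]
  exact natDegree_le_of_dvd (minpoly.dvd E y hQy) hQm.ne_zero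

include hker in
theorem linearIndependent_monomials (n : ℕ) :
    LinearIndependent F fun p : Fin (n + 1) × Fin P.natDegree => x ^ (p.1 : ℕ) * y ^ (p.2 : ℕ) := by
  classical
  rw [Fintype.linearIndependent_iff]
  intro g hg
  let q : F[X][Y] := ∑ p : Fin (n + 1) × Fin P.natDegree,
    monomial (p.2 : ℕ) (monomial (p.1 : ℕ) (g p))
  have hq : aevalAeval x y q = 0 := by
    rw [← hg, map_sum]
    refine Finset.sum_congr rfl fun p _ => ?_
    simp only [← C_mul_X_pow_eq_monomial, map_mul, map_pow, aevalAeval_Y, aevalAeval_C, aeval_C,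
      aeval_X, Algebra.smul_def]
    ring
  have hq0 : q = 0 := by
    by_contra h
    have h1 := Polynomial.natDegree_le_of_dvd ((hker q).1 hq) h
    have h2 : q.degree < P.natDegree := by
      refine lt_of_le_of_lt (degree_sum_le _ _) ((Finset.sup_lt_iff (WithBot.bot_lt_coe _)).2 ?_)
      exact fun p _ => (degree_monomial_le _ _).trans_lt (by exact_mod_cast p.2.2)
    rw [degree_eq_natDegree h] at h2
    exact absurd (by exact_mod_cast h2 : q.natDegree < P.natDegree) (not_lt.2 h1)
  intro p
  have h := congrArg (fun r : F[X][Y] => (r.coeff (p.2 : ℕ)).coeff (p.1 : ℕ)) hq0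
  simp only [q, finsetSum_coeff, coeff_monomial, coeff_zero, apply_ite (fun r : F[X] => r.coeff (p.1 : ℕ))] at h
  rw [Finset.sum_eq_single p] at h
  · simpa using h
  · intro r _ hr
    split_ifs with h2 h1 <;> try rfl
    exact absurd (Prod.ext (Fin.ext h1) (Fin.ext h2)) hr
  · simp

include hker hm in
theorem val_y_le {c : ℕ} (hc : ∀ j, (P.coeff j).natDegree ≤ c) (Q : FunFld.Place F K) :
    Q.1 y ≤ max 1 (Q.1 x) ^ c := by
  set M := max 1 (Q.1 x)
  have hM1 : 1 ≤ M := le_max_left _ _
  have hM0 : (0 : WithZero (Multiplicative ℤ)) < M := lt_of_lt_of_le zero_lt_one hM1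
  have hcoef : ∀ j, Q.1 (aeval x (P.coeff j)) ≤ M ^ c := fun j => by
    rw [aeval_eq_sum_range]
    refine Q.1.map_sum_le fun i hi => ?_
    rw [Finset.mem_range] at hi
    refine (H23FunFld.val_smul_le Q _ _).trans ?_
    rw [map_pow]
    exact (pow_le_pow_left₀ zero_le (le_max_right _ _) i).trans
      (pow_le_pow_right₀ hM1 (by have := hc j; omega))
  by_contra hlt
  rw [not_le] at hlt
  have hy1 : 1 ≤ Q.1 y := ((one_le_pow₀ hM1).trans hlt.le)
  have heq : y ^ P.natDegree +
      ∑ j ∈ Finset.range P.natDegree, aeval x (P.coeff j) * y ^ j = 0 := by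
    have h := (hker P).2 dvd_rfl
    have hP := hm.as_sum
    conv_lhs at h => rw [hP]
    rw [map_add, map_pow, aevalAeval_Y, map_sum] at h
    refine Eq.trans ?_ h
    congr 1
    refine Finset.sum_congr rfl fun j _ => ?_
    rw [map_mul, map_pow, aevalAeval_Y, aevalAeval_C]
  have hyd : Q.1 (y ^ P.natDegree) = Q.1 y ^ P.natDegree := map_pow _ _ _
  have hlt' : Q.1 (∑ j ∈ Finset.range P.natDegree, aeval x (P.coeff j) * y ^ j) <
      Q.1 y ^ P.natDegree := by
    refine Q.1.map_sum_lt (pow_ne_zero _ (ne_of_gt (lt_of_lt_of_le zero_lt_one hy1))) fun j hj => ?_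
    rw [Finset.mem_range] at hj
    rw [map_mul, map_pow]
    calc Q.1 (aeval x (P.coeff j)) * Q.1 y ^ j ≤ M ^ c * Q.1 y ^ j := by gcongr; exact hcoef j
      _ < Q.1 y * Q.1 y ^ j := by
          exact (mul_lt_mul_iff_left₀ (pow_pos (lt_of_lt_of_le zero_lt_one hy1) j)).2 hlt
      _ ≤ Q.1 y ^ P.natDegree := by rw [← pow_succ']; exact pow_le_pow_right₀ hy1 hj
  have := Q.1.map_add_eq_of_lt_left (x := y ^ P.natDegree)
    (y := ∑ j ∈ Finset.range P.natDegree, aeval x (P.coeff j) * y ^ j) (by rwa [hyd])
  rw [heq, map_zero, hyd] at this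
  exact pow_ne_zero _ (ne_of_gt (lt_of_lt_of_le zero_lt_one hy1)) this.symm

include hK hx hker hgen hm in
theorem genus_le {c : ℕ} (hc : ∀ j, (P.coeff j).natDegree ≤ c) :
    FunFld.genus F K ≤ P.natDegree * P.natDegree * c + 1 := by
  classical
  set d := P.natDegree
  set g := FunFld.genus F K
  set δ := Module.finrank (IntermediateField.adjoin F ({x} : Set K)) K
  have hδd : δ ≤ d := finrank_le hker hgen hm
  haveI := H23FunFld.finiteDimensional_adjoin hK hx
  have hδ0 : 0 < δ := Module.finrank_pos
  set D := H23FunFld.poleDiv (k := F) x with hD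
  have hDdeg : D.deg = δ := H23FunFld.deg_poleDiv hK hx
  have hD0 : 0 ≤ D := H23FunFld.poleDiv_nonneg hK x
  have hyL : y ∈ FunFld.L (c • D) := fun Q => by
    refine (val_y_le hker hm hc Q).trans ?_
    rw [Finsupp.smul_apply, WithZero.exp_nsmul]
    refine pow_le_pow_left₀ zero_le (max_le ?_ (H23FunFld.mem_L_poleDiv hK x Q)) c
    rw [← WithZero.exp_zero]
    exact WithZero.exp_le_exp.2 (hD0 Q)
  set m := 2 * g
  set n := m + d * c
  have hmem : ∀ p : Fin (m + 1) × Fin d, x ^ (p.1 : ℕ) * y ^ (p.2 : ℕ) ∈ FunFld.L (n • D) := fun p => by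
    refine H23FunFld.L_mono ?_ (H23FunFld.mul_mem_L (H23FunFld.pow_mem_L (H23FunFld.mem_L_poleDiv hK x) _)
      (H23FunFld.pow_mem_L hyL _))
    rw [← mul_smul, ← add_smul]
    refine nsmul_le_nsmul_left hD0 (Nat.add_le_add (Nat.lt_succ_iff.1 p.1.2) ?_)
    exact Nat.mul_le_mul_right c p.2.2.le
  haveI := H23FunFld.finiteDimensional_L hK (n • D)
  have hcard := (LinearIndependent.of_comp (FunFld.L (n • D)).subtype
    (v := fun p => (⟨_, hmem p⟩ : FunFld.L (n • D)))
    (linearIndependent_monomials hker m)).fintype_card_le_finrank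
  rw [Fintype.card_prod, Fintype.card_fin, Fintype.card_fin] at hcard
  have hdeg : (n • D).deg = n * δ := by rw [H23FunFld.deg_nsmul, hDdeg]
  have hn : (2 * g : ℤ) - 1 ≤ (n • D).deg := by
    rw [hdeg]
    have : (2 * g : ℤ) ≤ n := by exact_mod_cast Nat.le_add_right m (d * c)
    have : (n : ℤ) * 1 ≤ n * δ := by gcongr; exact_mod_cast hδ0
    omega
  have h1 := H23FunFld.ell_of_deg_large hK hn
  rw [hdeg] at h1
  have h2 : ((m + 1) * d : ℤ) ≤ FunFld.ell (n • D) := by exact_mod_cast hcard
  have h3 : (n : ℤ) * δ ≤ n * d := by gcongr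
  have h4 : (n : ℤ) = m + d * c := by simp [n]
  have : (g : ℤ) ≤ d * d * c + 1 := by
    have h0 : (0 : ℤ) ≤ d := by positivity
    rw [h4] at h1 h3
    nlinarith
  exact_mod_cast this

end

end Groth.Agent.H27LangWeil
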