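import Groth.Agent.H27LangWeil.PlaneField
import Groth.Agent.H23FunFld.Approx
import Groth.Agent.H23FunFld.Steps
import Groth.Agent.S11042

/-!
# Points of an absolutely irreducible plane curve over a finite field versus places of degree one
-/

set_option autoImplicit false
universe u

noncomputable section

open Polynomial
open scoped Polynomial.Bivariate

namespace Groth.Agent.H27LangWeil

variable {F : Type u} [Field F] {K : Type u} [Field K] [Algebra F K] {x y : K} {P : F[X][Y]}

/-- The place is centred at the point `(x₀, y₀)`. -/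
def Centred (x y : K) (Q : FunFld.Place F K) (p : F × F) : Prop :=
  Q.1 (x - algebraMap F K p.1) < 1 ∧ Q.1 (y - algebraMap F K p.2) < 1

theorem val_algebraMap_le (Q : FunFld.Place F K) (a : F) : Q.1 (algebraMap F K a) ≤ 1 := Q.2.1 a

theorem Centred.val_x_le {Q : FunFld.Place F K} {p : F × F} (h : Centred x y Q p) :
    Q.1 x ≤ 1 ∧ Q.1 y ≤ 1 := by
  refine ⟨?_, ?_⟩
  · have := Q.1.map_add (x - algebraMap F K p.1) (algebraMap F K p.1)
    rw [sub_add_cancel] at this
    exact this.trans (max_le h.1.le (val_algebraMap_le Q _))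
  · have := Q.1.map_add (y - algebraMap F K p.2) (algebraMap F K p.2)
    rw [sub_add_cancel] at this
    exact this.trans (max_le h.2.le (val_algebraMap_le Q _))

theorem val_aevalAeval_le (Q : FunFld.Place F K) (hx : Q.1 x ≤ 1) (hy : Q.1 y ≤ 1) (q : F[X][Y]) :
    Q.1 (aevalAeval x y q) ≤ 1 := by
  induction q using Polynomial.induction_on' with
  | add f g hf hg => rw [map_add]; exact (Q.1.map_add _ _).trans (max_le hf hg)
  | monomial n a =>
    rw [← C_mul_X_pow_eq_monomial, map_mul, map_pow, aevalAeval_C, aevalAeval_Y, map_mul, map_pow]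
    refine mul_le_one' ?_ (pow_le_one' hy n)
    rw [aeval_eq_sum_range]
    exact Q.1.map_sum_le fun i _ => (H23FunFld.val_smul_le Q _ _).trans (by rw [map_pow]; exact pow_le_one' hx i)

/-- Taylor decomposition at a point. -/
theorem exists_decomp (q : F[X][Y]) (x₀ y₀ : F) :
    ∃ (α : F[X]) (β : F[X][Y]), q = C (C (q.evalEval x₀ y₀)) + C (X - C x₀) * C α +
      (Y - C (C y₀)) * β := by
  obtain ⟨α, hα⟩ : (X - C x₀) ∣ q.eval (C y₀) - C (q.evalEval x₀ y₀) := by
    rw [dvd_iff_isRoot]; simp [IsRoot]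
  obtain ⟨β, hβ⟩ : (X - C (C y₀)) ∣ q - C (q.eval (C y₀)) := by
    rw [dvd_iff_isRoot]; simp [IsRoot]
  refine ⟨α, β, ?_⟩
  rw [← C_mul, ← hα, ← hβ, C_sub]
  ring

theorem Centred.val_sub_lt {Q : FunFld.Place F K} {p : F × F} (h : Centred x y Q p) (q : F[X][Y]) :
    Q.1 (aevalAeval x y q - algebraMap F K (q.evalEval p.1 p.2)) < 1 := by
  obtain ⟨α, β, hq⟩ := exists_decomp q p.1 p.2
  conv_lhs => arg 2; arg 1; rw [hq]
  simp only [map_add, map_mul, map_sub, aevalAeval_C, aevalAeval_Y, aeval_C, aeval_X]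
  rw [add_assoc, add_sub_cancel_left]
  refine (Q.1.map_add _ _).trans_lt (max_lt ?_ ?_) <;> rw [map_mul]
  · exact mul_lt_one_of_lt_of_le h.1 (by
      rw [← aevalAeval_C (A := K) x y]; exact val_aevalAeval_le Q h.val_x_le.1 h.val_x_le.2 _)
  · exact mul_lt_one_of_lt_of_le h.2 (val_aevalAeval_le Q h.val_x_le.1 h.val_x_le.2 _)

theorem Centred.val_eq_one {Q : FunFld.Place F K} {p : F × F} (h : Centred x y Q p) {q : F[X][Y]}
    (hq : q.evalEval p.1 p.2 ≠ 0) : Q.1 (aevalAeval x y q) = 1 := by
  have h1 := h.val_sub_lt q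
  have h2 : Q.1 (algebraMap F K (q.evalEval p.1 p.2)) = 1 := H23FunFld.val_const Q hq
  have := Q.1.map_add_eq_of_lt_left (x := algebraMap F K (q.evalEval p.1 p.2))
    (y := aevalAeval x y q - algebraMap F K (q.evalEval p.1 p.2)) (by rwa [h2])
  rwa [add_sub_cancel, h2] at this

theorem Centred.unique {Q : FunFld.Place F K} {p p' : F × F} (h : Centred x y Q p)
    (h' : Centred x y Q p') : p = p' := by
  have key : ∀ (z : K) (a b : F), Q.1 (z - algebraMap F K a) < 1 → Q.1 (z - algebraMap F K b) < 1 →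
      a = b := by
    intro z a b ha hb
    by_contra hne
    have h1 := H23FunFld.val_const Q (sub_ne_zero.2 hne)
    rw [map_sub, show algebraMap F K a - algebraMap F K b =
      (z - algebraMap F K b) - (z - algebraMap F K a) by ring] at h1
    have h2 := (Q.1.map_sub (z - algebraMap F K b) (z - algebraMap F K a)).trans_lt (max_lt hb ha)
    rw [h1] at h2
    exact lt_irrefl _ h2
  exact Prod.ext (key x _ _ h.1 h'.1) (key y _ _ h.2 h'.2)

variable (hK : FunFld.IsFunctionField F K) (hx : Transcendental F x)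
  (hker : ∀ q : F[X][Y], aevalAeval x y q = 0 ↔ P ∣ q)
  (hgen : ∀ z : K, ∃ a b : F[X][Y], aevalAeval x y b ≠ 0 ∧
    z = aevalAeval x y a / aevalAeval x y b)

include hK hx hker in
theorem exists_centred {p : F × F} (hP : P.evalEval p.1 p.2 = 0) :
    ∃ Q : FunFld.Place F K, Centred x y Q p := by
  let φ : F[X][Y] →ₐ[F] K := aevalAeval x y
  let A := φ.range
  let q : F[X][Y] →ₐ[F] A := φ.rangeRestrict
  let I : Ideal A := Ideal.map q.toRingHom (RingHom.ker (evalEvalRingHom p.1 p.2))
  have hI : I ≠ ⊤ := by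
    intro h
    have h1 : (1 : A) ∈ I := h ▸ trivial
    obtain ⟨r, hr, hr1⟩ := (Ideal.mem_map_iff_of_surjective q.toRingHom φ.rangeRestrict_surjective).1 h1
    have h2 : φ (r - 1) = 0 := by
      rw [map_sub, map_one, sub_eq_zero]; exact congrArg Subtype.val hr1
    obtain ⟨s, hs⟩ := (hker _).1 h2
    have h3 := congrArg (evalEval p.1 p.2) hs
    rw [evalEval_sub, evalEval_mul, hP, zero_mul, evalEval_one] at h3
    rw [RingHom.mem_ker, coe_evalEvalRingHom] at hr
    rw [hr] at h3
    simp at h3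
  obtain ⟨O, hle, hI'⟩ := Ideal.image_subset_nonunits_valuationSubring (A := A.toSubring) I hI
  have hmem : ∀ r : F[X][Y], r.evalEval p.1 p.2 = 0 → φ r ∈ O.nonunits := fun r hr =>
    hI' ⟨q r, Ideal.mem_map_of_mem q.toRingHom
      (by rw [RingHom.mem_ker, coe_evalEvalRingHom]; exact hr), rfl⟩
  have hX : x - algebraMap F K p.1 ∈ O.nonunits := by
    have := hmem (C (X - C p.1)) (by simp [evalEval])
    simpa [φ] using this
  have hY : y - algebraMap F K p.2 ∈ O.nonunits := by
    have := hmem (Y - C (C p.2)) (by simp [evalEval])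
    simpa [φ] using this
  have hx0 : x - algebraMap F K p.1 ≠ 0 := fun h => hx (by
    rw [sub_eq_zero.1 h]; exact isAlgebraic_algebraMap _)
  have hlt : ∀ z ∈ O.nonunits, z ≠ 0 → z⁻¹ ∉ O := fun z hz hz0 h => by
    rw [O.mem_nonunits_iff_or] at hz
    exact hz.elim hz0 fun h' => h' h
  have hO : O ≠ ⊤ := fun h => hlt _ hX hx0 (h ▸ ValuationSubring.mem_top _)
  obtain ⟨Q, hQ⟩ := H23FunFld.exists_place_of_valuationSubring hK O
    (fun c => hle (A.algebraMap_mem c)) hO
  have hval : ∀ z ∈ O.nonunits, Q.1 z < 1 := fun z hz => by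
    rcases eq_or_ne z 0 with rfl | hz0
    · simp
    refine lt_of_not_ge fun h => hlt z hz hz0 ((hQ _).1 ?_)
    rw [map_inv₀]
    exact inv_le_one_of_one_le₀ h
  exact ⟨Q, hval _ hX, hval _ hY⟩

/-- A polynomial not vanishing identically on the curve is, up to units at a simple point `p`,
a power of the uniformiser `x - p.1`. -/
theorem exists_pow_unit {Q : FunFld.Place F K} {p : F × F} (h : Centred x y Q p)
    (hxne : x - algebraMap F K p.1 ≠ 0) (hker : ∀ q : F[X][Y], aevalAeval x y q = 0 ↔ P ∣ q)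
    (hP : P.evalEval p.1 p.2 = 0) (hsimple : (derivative P).evalEval p.1 p.2 ≠ 0)
    (a : F[X][Y]) (ha : aevalAeval x y a ≠ 0) :
    ∃ (n : ℕ) (s u : F[X][Y]), s.evalEval p.1 p.2 ≠ 0 ∧ u.evalEval p.1 p.2 ≠ 0 ∧
      aevalAeval x y s * aevalAeval x y a = (x - algebraMap F K p.1) ^ n * aevalAeval x y u := by
  obtain ⟨H, G, hPd⟩ := exists_decomp P p.1 p.2
  rw [hP, C_0, C_0, zero_add] at hPd
  have hG : G.evalEval p.1 p.2 ≠ 0 := by
    intro hG
    apply hsimple
    conv_lhs => rw [hPd]
    simp [evalEval, derivative_mul] at hG ⊢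
    exact hG
  have hrel : (x - algebraMap F K p.1) * aevalAeval x y (C H) +
      (y - algebraMap F K p.2) * aevalAeval x y G = 0 := by
    have h0 := (hker P).2 dvd_rfl
    conv_lhs at h0 => rw [hPd]
    simpa using h0
  suffices H' : ∀ m : ℕ, ∀ a : F[X][Y], aevalAeval x y a ≠ 0 → (Q.ord (aevalAeval x y a)).toNat ≤ m →
      ∃ (n : ℕ) (s u : F[X][Y]), s.evalEval p.1 p.2 ≠ 0 ∧ u.evalEval p.1 p.2 ≠ 0 ∧
        aevalAeval x y s * aevalAeval x y a = (x - algebraMap F K p.1) ^ n * aevalAeval x y u from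
    H' _ a ha le_rfl
  intro m
  induction m with
  | zero =>
    intro a ha hord
    refine ⟨0, 1, a, by simp, ?_, by simp⟩
    intro h0
    have h1 := h.val_sub_lt a
    rw [h0, map_zero, sub_zero, H23FunFld.val_lt_one_iff Q ha] at h1
    omega
  | succ m ih =>
    intro a ha hord
    by_cases h0 : a.evalEval p.1 p.2 = 0
    · obtain ⟨α, β, had⟩ := exists_decomp a p.1 p.2
      rw [h0, C_0, C_0, zero_add] at had
      let a₁ : F[X][Y] := G * C α - C H * β
      have heq : aevalAeval x y G * aevalAeval x y a =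
          (x - algebraMap F K p.1) * aevalAeval x y a₁ := by
        have e : aevalAeval x y a = (x - algebraMap F K p.1) * aevalAeval x y (C α) +
            (y - algebraMap F K p.2) * aevalAeval x y β := by
          conv_lhs => rw [had]
          simp
        simp only [a₁, map_sub, map_mul, e]
        linear_combination aevalAeval x y β * hrel
      have hGne : aevalAeval x y G ≠ 0 := fun h' => by
        have := h.val_eq_one hG
        rw [h', map_zero] at this
        exact zero_ne_one this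
      have ha1 : aevalAeval x y a₁ ≠ 0 := fun h' => by
        rw [h', mul_zero] at heq
        exact mul_ne_zero hGne ha heq
      have hord1 : Q.ord (aevalAeval x y a) = Q.ord (x - algebraMap F K p.1) + Q.ord (aevalAeval x y a₁) := by
        rw [← H23FunFld.ord_mul Q hxne ha1, ← heq, H23FunFld.ord_mul Q hGne ha]
        have : Q.ord (aevalAeval x y G) = 0 := by rw [FunFld.Place.ord, h.val_eq_one hG]; simp
        omega
      have hpos := (H23FunFld.val_lt_one_iff Q hxne).1 h.1
      obtain ⟨n, s, u, hs, hu, hsu⟩ := ih a₁ ha1 (by omega)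
      refine ⟨n + 1, s * G, u, by rw [evalEval_mul]; exact mul_ne_zero hs hG, hu, ?_⟩
      rw [map_mul, mul_assoc, heq, pow_succ]
      linear_combination (x - algebraMap F K p.1) * hsu
    · exact ⟨0, 1, a, by simp, h0, by simp⟩

include hK hx hker hgen in
theorem val_le_one_form {Q : FunFld.Place F K} {p : F × F} (h : Centred x y Q p)
    (hP : P.evalEval p.1 p.2 = 0) (hsimple : (derivative P).evalEval p.1 p.2 ≠ 0) (z : K)
    (hz : Q.1 z ≤ 1) :
    ∃ (n : ℕ) (s u : F[X][Y]), s.evalEval p.1 p.2 ≠ 0 ∧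
      z = (x - algebraMap F K p.1) ^ n * (aevalAeval x y u / aevalAeval x y s) := by
  have hxne : x - algebraMap F K p.1 ≠ 0 := fun h => hx (by
    rw [sub_eq_zero.1 h]; exact isAlgebraic_algebraMap _)
  obtain ⟨a, b, hb, rfl⟩ := hgen z
  by_cases ha : aevalAeval x y a = 0
  · exact ⟨0, 1, 0, by simp, by simp [ha]⟩
  have hne : ∀ {q : F[X][Y]}, q.evalEval p.1 p.2 ≠ 0 → aevalAeval x y q ≠ 0 := fun hq h' => by
    have := h.val_eq_one hq
    rw [h', map_zero] at this
    exact zero_ne_one this
  obtain ⟨n, s, u, hs, hu, hsu⟩ := exists_pow_unit h hxne hker hP hsimple a ha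
  obtain ⟨n', s', u', hs', hu', hsu'⟩ := exists_pow_unit h hxne hker hP hsimple b hb
  have hrep : aevalAeval x y a / aevalAeval x y b =
      (x - algebraMap F K p.1) ^ ((n : ℤ) - n') *
        (aevalAeval x y (u * s') / aevalAeval x y (s * u')) := by
    rw [zpow_sub₀ hxne, zpow_natCast, zpow_natCast, map_mul, map_mul]
    rw [div_mul_div_comm, div_eq_div_iff hb
      (mul_ne_zero (pow_ne_zero _ hxne) (mul_ne_zero (hne hs) (hne hu')))]
    linear_combination ((x - algebraMap F K p.1) ^ n' * aevalAeval x y u') * hsu -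
      ((x - algebraMap F K p.1) ^ n * aevalAeval x y u) * hsu'
  have hnn : n' ≤ n := by
    by_contra hlt
    rw [hrep, map_mul, map_zpow₀, map_div₀,
      h.val_eq_one (by rw [evalEval_mul]; exact mul_ne_zero hu hs'),
      h.val_eq_one (by rw [evalEval_mul]; exact mul_ne_zero hs hu'), div_one, mul_one,
      H23FunFld.val_eq_exp Q hxne, ← WithZero.exp_zsmul, ← WithZero.exp_zero, WithZero.exp_le_exp,
      smul_eq_mul] at hz
    have := (H23FunFld.val_lt_one_iff Q hxne).1 h.1
    have h3 : (n : ℤ) - n' < 0 := by omega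
    nlinarith
  refine ⟨n - n', s * u', u * s', by rw [evalEval_mul]; exact mul_ne_zero hs hu', ?_⟩
  rw [hrep, ← zpow_natCast, Nat.cast_sub hnn]

include hK hx hker hgen in
theorem centred_unique {Q Q' : FunFld.Place F K} {p : F × F} (h : Centred x y Q p)
    (h' : Centred x y Q' p) (hP : P.evalEval p.1 p.2 = 0)
    (hsimple : (derivative P).evalEval p.1 p.2 ≠ 0) : Q = Q' := by
  refine H23FunFld.place_eq_of_le fun z hz => ?_
  obtain ⟨n, s, u, hs, rfl⟩ := val_le_one_form hK hx hker hgen h hP hsimple z hz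
  rw [map_mul, map_pow, map_div₀, h'.val_eq_one hs, div_one]
  exact mul_le_one' (pow_le_one' h'.1.le n) (val_aevalAeval_le Q' h'.val_x_le.1 h'.val_x_le.2 u)

include hK hx hker hgen in
theorem centred_deg {Q : FunFld.Place F K} {p : F × F} (h : Centred x y Q p)
    (hP : P.evalEval p.1 p.2 = 0) (hsimple : (derivative P).evalEval p.1 p.2 ≠ 0) : Q.deg = 1 := by
  have hsurj : Function.Surjective (Algebra.linearMap F (IsLocalRing.ResidueField Q.O)) := by
    intro r
    obtain ⟨⟨z, hz⟩, rfl⟩ := IsLocalRing.residue_surjective r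
    obtain ⟨n, s, u, hs, hzeq⟩ := val_le_one_form hK hx hker hgen h hP hsimple z hz
    suffices ∃ c : F, Q.1 (z - algebraMap F K c) < 1 by
      obtain ⟨c, hc⟩ := this
      refine ⟨c, ?_⟩
      change IsLocalRing.residue Q.O (algebraMap F Q.O c) = _
      rw [eq_comm, ← sub_eq_zero, ← map_sub, IsLocalRing.residue_eq_zero_iff, IsLocalRing.mem_maximalIdeal,
        mem_nonunits_iff]
      intro hu
      exact (ne_of_lt hc)
        ((Valuation.Integers.isUnit_iff_valuation_eq_one (Valuation.integer.integers Q.1)).1 hu)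
    cases n with
    | zero =>
      refine ⟨u.evalEval p.1 p.2 / s.evalEval p.1 p.2, ?_⟩
      rw [pow_zero, one_mul] at hzeq
      have hs1 := h.val_eq_one hs
      have hsne : aevalAeval x y s ≠ 0 := fun h0 => by rw [h0, map_zero] at hs1; exact zero_ne_one hs1
      have e : z - algebraMap F K (u.evalEval p.1 p.2 / s.evalEval p.1 p.2) =
          ((aevalAeval x y u - algebraMap F K (u.evalEval p.1 p.2)) -
            algebraMap F K (u.evalEval p.1 p.2 / s.evalEval p.1 p.2) *
              (aevalAeval x y s - algebraMap F K (s.evalEval p.1 p.2))) / aevalAeval x y s := by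
        have : algebraMap F K (s.evalEval p.1 p.2) ≠ 0 := by simpa using hs
        rw [hzeq, map_div₀]
        field_simp
        ring
      rw [e, map_div₀, hs1, div_one]
      refine (Q.1.map_sub _ _).trans_lt (max_lt (h.val_sub_lt u) ?_)
      rw [map_mul]
      exact lt_of_le_of_lt (mul_le_of_le_one_left' (val_algebraMap_le Q _)) (h.val_sub_lt s)
    | succ n =>
      refine ⟨0, ?_⟩
      rw [map_zero, sub_zero, hzeq, map_mul, map_pow, map_div₀, h.val_eq_one hs, div_one]
      exact mul_lt_one_of_lt_of_le (pow_lt_one₀ zero_le h.1 (Nat.succ_ne_zero n))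
        (val_aevalAeval_le Q h.val_x_le.1 h.val_x_le.2 u)
  refine le_antisymm ?_ (H23FunFld.deg_pos hK Q)
  have := LinearMap.finrank_le_finrank_of_surjective hsurj
  rw [Module.finrank_self] at this
  exact this

include hK in
theorem exists_residue_of_deg_one {Q : FunFld.Place F K} (hQ : Q.deg = 1) {z : K} (hz : Q.1 z ≤ 1) :
    ∃ c : F, Q.1 (z - algebraMap F K c) < 1 := by
  haveI : Module.Finite F (IsLocalRing.ResidueField Q.O) := H23FunFld.finiteDimensional_residueField hK Q
  obtain ⟨c, hc⟩ : ∃ c : F, algebraMap F (IsLocalRing.ResidueField Q.O) c =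
      IsLocalRing.residue Q.O ⟨z, hz⟩ := by
    have := (finrank_eq_one_iff_of_nonzero' (1 : IsLocalRing.ResidueField Q.O) one_ne_zero).1 hQ
    obtain ⟨c, hc⟩ := this (IsLocalRing.residue Q.O ⟨z, hz⟩)
    exact ⟨c, (Algebra.algebraMap_eq_smul_one c).trans hc⟩
  refine ⟨c, ?_⟩
  have h0 : IsLocalRing.residue Q.O (⟨z, hz⟩ - algebraMap F Q.O c) = 0 := by
    rw [map_sub, ← hc, sub_eq_zero]; rfl
  rw [IsLocalRing.residue_eq_zero_iff, IsLocalRing.mem_maximalIdeal, mem_nonunits_iff] at h0
  have hmem : Q.1 (z - algebraMap F K c) ≤ 1 := ((⟨z, hz⟩ : Q.O) - algebraMap F Q.O c).2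
  exact lt_of_le_of_ne hmem fun h1 =>
    h0 ((Valuation.Integers.isUnit_iff_valuation_eq_one (Valuation.integer.integers Q.1)).2 h1)

end Groth.Agent.H27LangWeil
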