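import Groth.Agent.H27LangWeil.Generic
import Groth.Agent.H23Ext.Constants
import Mathlib

/-!
# Fibring a regular extension by an extension of one transcendence degree less
-/

set_option autoImplicit false
set_option synthInstance.maxHeartbeats 200000
set_option maxHeartbeats 1000000
universe u

noncomputable section

open Polynomial
open scoped Polynomial.Bivariate IntermediateField

namespace Groth.Agent.H27LangWeil

theorem exists_fibration {K : Type u} [Field K] [PerfectField K] {F : Type u} [Field F] [Algebra K F]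
    [Algebra.EssFiniteType K F] {r : ℕ} (htr : Algebra.trdeg K F = (r + 1 : ℕ)) :
    ∃ (L : IntermediateField K F) (x : F), Algebra.trdeg K L = r ∧ Algebra.EssFiniteType K L ∧
      Transcendental L x ∧ FiniteDimensional L⟮x⟯ F ∧ Algebra.IsSeparable L⟮x⟯ F ∧
      ∀ z : F, IsAlgebraic L z → z ∈ Set.range (algebraMap L F) := by
  classical
  obtain ⟨s, hs, hsep⟩ := exists_isTranscendenceBasis_and_isSeparable_of_perfectField K F
  have hcard : s.card = r + 1 := by
    have h := hs.cardinalMk_eq_trdeg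
    rw [htr, Cardinal.mk_coe_finset] at h
    exact_mod_cast h
  obtain ⟨x, hx⟩ : s.Nonempty := Finset.card_pos.1 (by omega)
  let E : IntermediateField K F := IntermediateField.adjoin K ((s.erase x : Finset F) : Set F)
  have hxE : Transcendental E x := by
    have h1 := AlgebraicIndependent.transcendental_adjoin hs.1
      (s := {i : s | (i : F) ≠ x}) (i := ⟨x, hx⟩) (by simp)
    have himg : ((↑) : s → F) '' {i : s | (i : F) ≠ x} = ((s.erase x : Finset F) : Set F) := by
      ext z; simp [and_comm]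
    rw [himg] at h1
    exact fun h2 => h1 (IntermediateField.isAlgebraic_adjoin_iff.1 h2)
  have hsub : (IntermediateField.adjoin K (s : Set F)) ≤ (E⟮x⟯).restrictScalars K := by
    rw [IntermediateField.adjoin_le_iff]
    intro z hz
    by_cases hzx : z = x
    · subst hzx
      exact IntermediateField.mem_adjoin_simple_self E z
    · exact IntermediateField.algebraMap_mem E⟮x⟯
        (⟨z, IntermediateField.subset_adjoin K _ (Finset.mem_coe.2 (Finset.mem_erase.2 ⟨hzx, hz⟩))⟩ : E)
  haveI hEF : Algebra.IsSeparable E⟮x⟯ F := by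
    letI : Algebra (IntermediateField.adjoin K (s : Set F)) E⟮x⟯ :=
      (IntermediateField.inclusion hsub).toRingHom.toAlgebra
    haveI : IsScalarTower (IntermediateField.adjoin K (s : Set F)) E⟮x⟯ F :=
      IsScalarTower.of_algebraMap_eq fun _ => rfl
    exact Algebra.isSeparable_tower_top_of_isSeparable (IntermediateField.adjoin K (s : Set F)) E⟮x⟯ F
  haveI : Algebra.EssFiniteType E F := Algebra.EssFiniteType.of_comp K E F
  haveI : Algebra.EssFiniteType E⟮x⟯ F := Algebra.EssFiniteType.of_comp E E⟮x⟯ F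
  haveI := Algebra.FormallyUnramified.of_isSeparable E⟮x⟯ F
  haveI hfin : FiniteDimensional E⟮x⟯ F := Algebra.FormallyUnramified.finite_of_free E⟮x⟯ F
  have hFF : H23Ext.IsFF E F := ⟨x, hxE, hfin⟩
  have hcst := H23Ext.finiteDimensional_cst hFF
  let L : IntermediateField K F := (H23Ext.cst E F).restrictScalars K
  have hxL : Transcendental L x := H23Ext.transcendental_cst hxE
  have hsub' := H23Ext.le_restrictScalars_adjoin_cst (k := E) x
  have hfinL : FiniteDimensional (H23Ext.cst E F)⟮x⟯ F ∧ Algebra.IsSeparable (H23Ext.cst E F)⟮x⟯ F := by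
    letI : Algebra E⟮x⟯ (H23Ext.cst E F)⟮x⟯ := (IntermediateField.inclusion hsub').toRingHom.toAlgebra
    haveI : IsScalarTower E⟮x⟯ (H23Ext.cst E F)⟮x⟯ F := IsScalarTower.of_algebraMap_eq fun _ => rfl
    exact ⟨Module.Finite.of_restrictScalars_finite E⟮x⟯ (H23Ext.cst E F)⟮x⟯ F,
      Algebra.isSeparable_tower_top_of_isSeparable E⟮x⟯ (H23Ext.cst E F)⟮x⟯ F⟩
  have hLess : Algebra.EssFiniteType K (H23Ext.cst E F) := by
    haveI : Algebra.EssFiniteType K E :=
      IntermediateField.essFiniteType_iff.2 (IntermediateField.fg_adjoin_finset _)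
    haveI : Algebra.EssFiniteType E (H23Ext.cst E F) := inferInstance
    exact Algebra.EssFiniteType.comp K E (H23Ext.cst E F)
  have hclL : ∀ z : F, IsAlgebraic (H23Ext.cst E F) z → z ∈ Set.range (algebraMap (H23Ext.cst E F) F) :=
    fun z hz => ⟨⟨z, H23Ext.mem_cst.2 (hz.restrictScalars E)⟩, rfl⟩
  refine ⟨L, x, ?_, hLess, hxL, hfinL.1, hfinL.2, hclL⟩
  have h1 : Algebra.trdeg (H23Ext.cst E F) F = 1 := by
    have hx' : Transcendental (H23Ext.cst E F) x := hxL
    haveI := hfinL.1
    have hind : AlgebraicIndependent (H23Ext.cst E F) (fun _ : PUnit.{u + 1} => x) :=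
      algebraicIndependent_unique_type_iff.2 hx'
    have htb : IsTranscendenceBasis (H23Ext.cst E F) (fun _ : PUnit.{u + 1} => x) := by
      rw [hind.isTranscendenceBasis_iff_isAlgebraic, Set.range_const]
      constructor
      intro z
      exact IntermediateField.isAlgebraic_adjoin_iff.1 (Algebra.IsAlgebraic.isAlgebraic z)
    rw [← htb.cardinalMk_eq_trdeg]
    simp
  haveI : FaithfulSMul K (H23Ext.cst E F) :=
    (faithfulSMul_iff_algebraMap_injective _ _).2 (algebraMap K _).injective
  haveI : IsScalarTower K (H23Ext.cst E F) F := IsScalarTower.of_algebraMap_eq fun _ => rfl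
  have h2 : Algebra.trdeg K (H23Ext.cst E F) + Algebra.trdeg (H23Ext.cst E F) F = Algebra.trdeg K F :=
    trdeg_add_eq K (H23Ext.cst E F)
  rw [h1, htr, Nat.cast_succ] at h2
  exact Cardinal.add_one_inj.1 h2

/-- Clearing denominators in a polynomial. -/
theorem exists_clear_poly {R S : Type*} [CommRing R] [IsDomain R] [CommRing S] (φ : R →+* S)
    (hφ : ∀ z : S, ∃ e w : R, e ≠ 0 ∧ φ e * z = φ w) (p : S[X]) :
    ∃ (e : R) (p' : R[X]), e ≠ 0 ∧ p'.map φ = C (φ e) * p := by
  induction p using Polynomial.induction_on' with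
  | add f g hf hg =>
    obtain ⟨e, p, he, hp⟩ := hf
    obtain ⟨e', p', he', hp'⟩ := hg
    refine ⟨e * e', C e' * p + C e * p', mul_ne_zero he he', ?_⟩
    rw [Polynomial.map_add, Polynomial.map_mul, Polynomial.map_mul, Polynomial.map_C, Polynomial.map_C, hp, hp',
      map_mul, C_mul]
    ring
  | monomial n a =>
    obtain ⟨e, w, he, hw⟩ := hφ a
    exact ⟨e, monomial n w, he, by rw [map_monomial, C_mul_monomial, hw]⟩

theorem exists_clear_bivariate {R S : Type*} [CommRing R] [IsDomain R] [CommRing S] (φ : R →+* S)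
    (hφ : ∀ z : S, ∃ e w : R, e ≠ 0 ∧ φ e * z = φ w) (p : S[X][Y]) :
    ∃ (e : R) (p' : R[X][Y]), e ≠ 0 ∧ p'.map (mapRingHom φ) = C (C (φ e)) * p := by
  induction p using Polynomial.induction_on' with
  | add f g hf hg =>
    obtain ⟨e, p, he, hp⟩ := hf
    obtain ⟨e', p', he', hp'⟩ := hg
    refine ⟨e * e', C (C e') * p + C (C e) * p', mul_ne_zero he he', ?_⟩
    rw [Polynomial.map_add, Polynomial.map_mul, Polynomial.map_mul, Polynomial.map_C, Polynomial.map_C, hp, hp']
    simp only [coe_mapRingHom, map_C, map_mul]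
    ring
  | monomial n a =>
    obtain ⟨e, w, he, hw⟩ := exists_clear_poly φ hφ a
    exact ⟨e, monomial n w, he, by rw [map_monomial, coe_mapRingHom, hw, C_mul_monomial]⟩

/-- A finitely generated model of a finitely generated field extension with prescribed elements. -/
theorem exists_model {R : Type u} [CommRing R] [IsDomain R] {K : Type u} [Field K] [Algebra R K]
    [IsFractionRing R K] {L : Type u} [Field L] [Algebra K L] [Algebra R L] [IsScalarTower R K L]
    [Algebra.EssFiniteType K L] (T : Finset L) :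
    ∃ S : Subalgebra R L, S.FG ∧ (T : Set L) ⊆ S ∧
      ∀ z : L, ∃ p ∈ S, ∃ q ∈ S, q ≠ 0 ∧ z = p / q := by
  classical
  obtain ⟨G, hG⟩ := IntermediateField.fg_top K L
  let S := Algebra.adjoin R ((G ∪ T : Finset L) : Set L)
  refine ⟨S, ⟨G ∪ T, rfl⟩, fun t ht => Algebra.subset_adjoin (Finset.mem_coe.2 (Finset.mem_union_right _ ht)),
    fun z => ?_⟩
  have hz : z ∈ IntermediateField.adjoin K (G : Set L) := by rw [hG]; trivial
  induction hz using IntermediateField.adjoin_induction with
  | mem g hg => exact ⟨g, Algebra.subset_adjoin (Finset.mem_coe.2 (Finset.mem_union_left _ hg)), 1, S.one_mem,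
      one_ne_zero, (div_one g).symm⟩
  | algebraMap a =>
    obtain ⟨p, q, hq, rfl⟩ := IsFractionRing.div_surjective R a
    refine ⟨_, S.algebraMap_mem p, _, S.algebraMap_mem q, ?_, ?_⟩
    · rw [IsScalarTower.algebraMap_apply R K L]
      exact (_root_.map_ne_zero _).2 (IsFractionRing.to_map_ne_zero_of_mem_nonZeroDivisors hq)
    · rw [IsScalarTower.algebraMap_apply R K L p, IsScalarTower.algebraMap_apply R K L q, map_div₀]
  | add a b _ _ ha hb =>
    obtain ⟨p, hp, q, hq, hq0, rfl⟩ := ha
    obtain ⟨p', hp', q', hq', hq0', rfl⟩ := hb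
    exact ⟨p * q' + q * p', S.add_mem (S.mul_mem hp hq') (S.mul_mem hq hp'), q * q', S.mul_mem hq hq',
      mul_ne_zero hq0 hq0', div_add_div _ _ hq0 hq0'⟩
  | mul a b _ _ ha hb =>
    obtain ⟨p, hp, q, hq, hq0, rfl⟩ := ha
    obtain ⟨p', hp', q', hq', hq0', rfl⟩ := hb
    exact ⟨p * p', S.mul_mem hp hp', q * q', S.mul_mem hq hq', mul_ne_zero hq0 hq0', div_mul_div_comm _ _ _ _⟩
  | inv a _ ha =>
    obtain ⟨p, hp, q, hq, hq0, rfl⟩ := ha
    rcases eq_or_ne p 0 with rfl | hp0
    · exact ⟨0, S.zero_mem, 1, S.one_mem, one_ne_zero, by simp⟩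
    · exact ⟨q, hq, p, hp, hp0, inv_div _ _⟩

end Groth.Agent.H27LangWeil
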